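import Mathlib
import Cfsg.Agent.H437.Win.LData_mg
import Cfsg.Agent.H149.PGU3
import Cfsg.Agent.S0280
import Cfsg.Agent.R2.Spec.P1.Orth_m3
import Cfsg.Agent.H437.Win.Frame
import Cfsg.Agent.S3856
import Cfsg.Agent.S4001
import Cfsg.Agent.S3359
import Cfsg.Agent.H348.SolvableFPF
import Cfsg.Agent.H348.FPFZGroup
import Cfsg.Agent.H495.Frob
import Cfsg.Agent.H496.TwoFrob
import Cfsg.Agent.H375.InvFix_m3
import Cfsg.Agent.Lib.MatDec
import Cfsg.Agent.R2.Spec.F1.MovA_m3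
import Cfsg.Agent.R2.Spec.EE.SmTFn_m3
import Cfsg.Agent.R2.Spec.NA.Main_m3
import Cfsg.Agent.R2.Spec.X3.PairIF_m3
import Cfsg.Agent.R2.Spec.E.Duel_m3
import Cfsg.Agent.R2.Spec.X4.H10.Num_m3
import Cfsg.Agent.H363.PSL2Spec
import Cfsg.Agent.H127.PSUThree
import Cfsg.Agent.H127.PSUThreeEx
import Cfsg.Agent.S2476
import Cfsg.Agent.S2366
import Cfsg.Agent.H277.ClsPsu
import Cfsg.Agent.H363.PslThree
import Cfsg.Agent.FastGrp
import Cfsg.Agent.Prune
set_option linter.all false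

section
prune_inst 0x7fbfadfcbfbb33ffff7f7e77fe98dffc1b949fffa4dff943ffe069ff8b9f031209c563a509e078fe0e96c21410a87843fb7eeeffe86bd87ffffd1ff45ffbee4ff5f7bd0811d280240f340ff783f0778a7f3fffffffffffffffffffffffffffbeffbfffffffff

-- part: R2/Spec/X7/Top
section
prune_inst 0x405000400404000000000801412002000140004b000000000e0200146010800028180804008001004120a20010001000000000060404000000e000000000000000000000040810000800000000080400000000000000000000000000000000004000000000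
set_option linter.all false
open scoped Cfsg.Agent.FastGrp

-- part: R2/Spec/X7/Orb
section
/-!
# Orbits of `x ↦ x ^ s`, `s` an integer, on a finite set of non-zero elements of a field (box X7 of S3435)
-/

set_option autoImplicit false

namespace Cfsg.Agent.R2.Spec.X7

open Finset Function

variable {K : Type*} [Field K]

/-- the map `x ↦ x ^ s` -/
def zp (s : ℤ) (x : K) : K := x ^ s

/-- `∑_{i < a} s^i` -/
def es (s : ℤ) (a : ℕ) : ℤ := ∑ i ∈ range a, s ^ i

/-- `|s^a - 1|` -/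
def ua (s : ℤ) (a : ℕ) : ℕ := (s ^ a - 1).natAbs

theorem es_mul (s : ℤ) (a : ℕ) : es s a * (s - 1) = s ^ a - 1 := by
  rw [es, geom_sum_mul]

theorem ua_eq (s : ℤ) (a : ℕ) : ua s a = (es s a).natAbs * (s - 1).natAbs := by
  rw [ua, ← es_mul, Int.natAbs_mul]

theorem dvd_ua (s : ℤ) (a : ℕ) : (s - 1).natAbs ∣ ua s a := ⟨_, by rw [ua_eq, mul_comm]⟩

/-- the numerical parameters: `q = |s|`, `t = |s - 1|` and `|s^a - 1| ≤ q^(a-1) L` -/
structure Par (s : ℤ) (q t L : ℕ) : Prop where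
  hs : s.natAbs = q
  ht : (s - 1).natAbs = t
  hq : 3 ≤ q
  ht2 : 2 ≤ t
  htL : t ≤ L
  hLt : L ≤ q * t
  hua : ∀ a, 1 ≤ a → ua s a ≤ q ^ (a - 1) * L
  pos : ∀ a, 1 ≤ a → 0 < ua s a

variable {s : ℤ}

theorem iter_eq {x : K} (i : ℕ) : (zp s)^[i] x = x ^ (s ^ i) := by
  induction i with
  | zero => simp
  | succ i ih =>
    rw [Function.iterate_succ_apply', ih, zp, ← zpow_mul, pow_succ]

theorem iter_ne_zero {x : K} (hx : x ≠ 0) (i : ℕ) : (zp s)^[i] x ≠ 0 := by
  rw [iter_eq]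
  exact zpow_ne_zero _ hx

theorem pow_natAbs_eq_one {x : K} {z : ℤ} (h : x ^ z = 1) : x ^ z.natAbs = 1 := by
  rcases Int.natAbs_eq z with h1 | h1
  · rw [h1] at h
    exact_mod_cast h
  · rw [h1, zpow_neg, inv_eq_one] at h
    exact_mod_cast h

theorem pow_ua {x : K} (hx : x ≠ 0) {a : ℕ} (h : (zp s)^[a] x = x) : x ^ ua s a = 1 := by
  rw [iter_eq] at h
  apply pow_natAbs_eq_one
  rw [zpow_sub₀ hx, h, zpow_one, div_self hx]

/-- the product over an orbit -/
theorem prod_iter {x : K} (hx : x ≠ 0) (a : ℕ) : ∏ i ∈ range a, (zp s)^[i] x = x ^ es s a := by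
  induction a with
  | zero => simp [es]
  | succ a ih =>
    rw [Finset.prod_range_succ, ih, iter_eq, es, es, Finset.sum_range_succ, zpow_add₀ hx]

/-- a stable finite set of non-zero elements -/
structure Stab (s : ℤ) (Λ : Finset K) : Prop where
  ne : ∀ x ∈ Λ, x ≠ 0
  st : ∀ x ∈ Λ, zp s x ∈ Λ

section

variable (hinj : Injective (zp s : K → K)) {Λ : Finset K} (hΛ : Stab s Λ)

include hΛ in
theorem Stab.iter {x : K} (hx : x ∈ Λ) (i : ℕ) : (zp s)^[i] x ∈ Λ := by
  induction i with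
  | zero => exact hx
  | succ i ih => rw [Function.iterate_succ_apply']; exact hΛ.st _ ih

include hinj hΛ in
theorem Stab.period {x : K} (hx : x ∈ Λ) : 1 ≤ minimalPeriod (zp s) x := by
  classical
  have h1 : ¬ Set.InjOn (fun i : ℕ => (zp s)^[i] x) (Set.univ : Set ℕ) := by
    intro h
    refine Set.infinite_univ (α := ℕ) ?_
    refine Set.Finite.of_finite_image ?_ h
    exact (Finset.finite_toSet Λ).subset (by rintro _ ⟨i, -, rfl⟩; exact hΛ.iter hx i)
  have key : ∀ i j : ℕ, i < j → (zp s)^[i] x = (zp s)^[j] x → 1 ≤ minimalPeriod (zp s) x := by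
    intro i j hij h
    obtain ⟨k, rfl⟩ : ∃ k, j = i + k := ⟨j - i, by omega⟩
    rw [Function.iterate_add_apply] at h
    have h2 := (hinj.iterate i) h
    have h3 : IsPeriodicPt (zp s) k x := h2.symm
    exact h3.minimalPeriod_pos (by omega)
  by_contra h0
  apply h1
  intro i _ j _ h
  rcases lt_trichotomy i j with h2 | h2 | h2
  · exact absurd (key i j h2 h) h0
  · exact h2
  · exact absurd (key j i h2 h.symm) h0

open Classical in
/-- the orbit -/
noncomputable def orb (s : ℤ) (x : K) : Finset K := (range (minimalPeriod (zp s) x)).image fun i => (zp s)^[i] x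

theorem mem_orb {x y : K} : y ∈ orb s x ↔ ∃ i < minimalPeriod (zp s) x, (zp s)^[i] x = y := by
  classical
  simp [orb]

theorem card_orb (x : K) : (orb s x).card = minimalPeriod (zp s) x := by
  classical
  rw [orb, Finset.card_image_of_injOn, card_range]
  intro i hi j hj h
  exact iterate_injOn_Iio_minimalPeriod (by simpa using hi) (by simpa using hj) h

theorem prod_orb {x : K} (hx : x ≠ 0) : ∏ y ∈ orb s x, y = x ^ es s (minimalPeriod (zp s) x) := by
  classical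
  rw [orb, Finset.prod_image, prod_iter hx]
  intro i hi j hj h
  exact iterate_injOn_Iio_minimalPeriod (by simpa using hi) (by simpa using hj) h

include hΛ in
theorem Stab.orb_subset {x : K} (hx : x ∈ Λ) : orb s x ⊆ Λ := by
  intro y hy
  obtain ⟨i, -, rfl⟩ := mem_orb.1 hy
  exact hΛ.iter hx i

include hinj hΛ in
theorem Stab.self_mem_orb {x : K} (hx : x ∈ Λ) : x ∈ orb s x :=
  mem_orb.2 ⟨0, hΛ.period hinj hx, rfl⟩

open Classical in
include hinj hΛ in
theorem Stab.sdiff {x : K} (hx : x ∈ Λ) : Stab s (Λ \ orb s x) := by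
  refine ⟨fun y hy => hΛ.ne y (Finset.mem_sdiff.1 hy).1, fun y hy => ?_⟩
  rw [Finset.mem_sdiff] at hy ⊢
  refine ⟨hΛ.st y hy.1, fun h => hy.2 ?_⟩
  obtain ⟨i, hi, h1⟩ := mem_orb.1 h
  have hper := hΛ.period hinj hx
  rcases Nat.eq_zero_or_pos i with rfl | hi0
  · have h2 : (zp s)^[minimalPeriod (zp s) x] x = zp s y := by
      rw [iterate_minimalPeriod]; exact h1
    obtain ⟨k, hk⟩ : ∃ k, minimalPeriod (zp s) x = k + 1 := ⟨minimalPeriod (zp s) x - 1, by omega⟩
    rw [hk, Function.iterate_succ_apply'] at h2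
    exact mem_orb.2 ⟨k, by omega, hinj h2⟩
  · obtain ⟨k, rfl⟩ : ∃ k, i = k + 1 := ⟨i - 1, by omega⟩
    rw [Function.iterate_succ_apply'] at h1
    exact mem_orb.2 ⟨k, by omega, hinj h1⟩

/-- the exponent of an orbit -/
theorem pow_orb {x y : K} (hx : x ≠ 0) (hy : y ∈ orb s x) : y ^ ua s (minimalPeriod (zp s) x) = 1 := by
  obtain ⟨i, -, rfl⟩ := mem_orb.1 hy
  apply pow_ua (iter_ne_zero hx i)
  rw [← Function.iterate_add_apply, add_comm, Function.iterate_add_apply, iterate_minimalPeriod]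

theorem lcm_bound {u v w : ℕ} (hw : 0 < w) (hu : w ∣ u) (hv : w ∣ v) : Nat.lcm u v * w ≤ u * v := by
  rcases Nat.eq_zero_or_pos u with rfl | hu0
  · simp
  have h1 : w ≤ Nat.gcd u v := Nat.le_of_dvd (Nat.gcd_pos_of_pos_left _ hu0) (Nat.dvd_gcd hu hv)
  calc Nat.lcm u v * w ≤ Nat.lcm u v * Nat.gcd u v := Nat.mul_le_mul_left _ h1
    _ = u * v := by rw [mul_comm, Nat.gcd_mul_lcm]

variable {q t L : ℕ} (P : Par s q t L)

include P in
theorem Par.dvd (a : ℕ) : t ∣ ua s a := by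
  rw [← P.ht]
  exact dvd_ua s a

include hinj hΛ P in
/-- **Exponent of a stable set.** -/
theorem Stab.exists_exp (hne : Λ.Nonempty) :
    ∃ N, 0 < N ∧ t ∣ N ∧ (∀ x ∈ Λ, x ^ N = 1) ∧ N ≤ q ^ (Λ.card - 1) * L := by
  classical
  have ht0 : 0 < t := by have := P.ht2; omega
  have hq0 : 0 < q := by have := P.hq; omega
  induction hc : Λ.card using Nat.strong_induction_on generalizing Λ with
  | _ c ih =>
    obtain ⟨x, hx⟩ := hne
    have hx0 := hΛ.ne x hx
    have hper := hΛ.period hinj hx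
    set a := minimalPeriod (zp s) x with ha
    by_cases h0 : (Λ \ orb s x).Nonempty
    · have hcard : (Λ \ orb s x).card + a = c := by
        rw [← hc, ha, ← card_orb (s := s) x, Finset.card_sdiff_add_card_eq_card (hΛ.orb_subset hx)]
      have hcp : 1 ≤ (Λ \ orb s x).card := h0.card_pos
      obtain ⟨N, hN0, hNd, hN, hle⟩ := ih _ (by omega) (hΛ.sdiff hinj hx) h0 rfl
      refine ⟨Nat.lcm (ua s a) N, Nat.lcm_pos (P.pos a hper) hN0, hNd.trans (Nat.dvd_lcm_right _ _), ?_, ?_⟩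
      · intro y hy
        by_cases hyo : y ∈ orb s x
        · have h1 := pow_orb hx0 hyo
          obtain ⟨k, hk⟩ := Nat.dvd_lcm_left (ua s a) N
          rw [hk, pow_mul, h1, one_pow]
        · have h1 := hN y (Finset.mem_sdiff.2 ⟨hy, hyo⟩)
          obtain ⟨k, hk⟩ := Nat.dvd_lcm_right (ua s a) N
          rw [hk, pow_mul, h1, one_pow]
      · have h1 := lcm_bound (w := t) ht0 (P.dvd a) hNd
        have h2 : ua s a * N ≤ (q ^ (a - 1) * L) * (q ^ ((Λ \ orb s x).card - 1) * L) :=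
          Nat.mul_le_mul (P.hua a hper) hle
        have h3 : Nat.lcm (ua s a) N * t ≤ (q ^ (a - 1) * (q ^ ((Λ \ orb s x).card - 1) * L) * q) * t := by
          calc _ ≤ _ := h1
            _ ≤ _ := h2
            _ = (q ^ (a - 1) * q ^ ((Λ \ orb s x).card - 1) * L) * L := by ring
            _ ≤ (q ^ (a - 1) * q ^ ((Λ \ orb s x).card - 1) * L) * (q * t) := Nat.mul_le_mul_left _ P.hLt
            _ = _ := by ring
        have h4 := Nat.le_of_mul_le_mul_right h3 ht0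
        refine h4.trans ?_
        have h5 : q ^ (a - 1) * (q ^ ((Λ \ orb s x).card - 1) * L) * q =
            q ^ (a - 1 + ((Λ \ orb s x).card - 1) + 1) * L := by ring
        rw [h5]
        exact Nat.mul_le_mul_right _ (Nat.pow_le_pow_right hq0 (by omega))
    · rw [Finset.not_nonempty_iff_eq_empty, Finset.sdiff_eq_empty_iff_subset] at h0
      have hcard : c = a := by
        rw [← hc, ha, ← card_orb (s := s) x]
        exact congrArg _ (Finset.Subset.antisymm h0 (hΛ.orb_subset hx))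
      exact ⟨ua s a, P.pos a hper, P.dvd a, fun y hy => pow_orb hx0 (h0 hy), by rw [hcard]; exact P.hua a hper⟩

include hinj hΛ in
theorem Stab.mem_periodic {x : K} (hx : x ∈ Λ) : x ∈ periodicPts (zp s) :=
  minimalPeriod_pos_iff_mem_periodicPts.1 (hΛ.period hinj hx)

include hinj hΛ in
theorem Stab.period_of_mem {x z : K} (hx : x ∈ Λ) (hz : z ∈ orb s x) :
    minimalPeriod (zp s) z = minimalPeriod (zp s) x := by
  obtain ⟨i, -, rfl⟩ := mem_orb.1 hz
  exact minimalPeriod_apply_iterate (hΛ.mem_periodic hinj hx) i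

theorem orb_eq_singleton {x : K} (h : minimalPeriod (zp s) x = 1) : orb s x = {x} := by
  classical
  rw [orb, h]
  simp

/-- the numerical end of the last case -/
def RestCase (q t L n N M : ℕ) : Prop :=
  (M = 1 ∧ t ^ 2 * N ≤ q ^ (n - 3) * L ^ 3) ∨ ((M = 2 ∨ M = 3) ∧ q * (t ^ 2 * N) ≤ q ^ (n - 3) * L ^ 3) ∨
    (4 ≤ M ∧ (M - 1) * (q * (t ^ 2 * N)) ≤ q ^ (n - 3) * L ^ 3)

include hinj hΛ P in
/-- **The shapes.** -/
theorem Stab.cases {n : ℕ} (hn : n.Prime) (h5 : 3 ≤ n) (m : K → ℕ) (hm1 : ∀ x ∈ Λ, 1 ≤ m x)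
    (hms : ∀ x ∈ Λ, m (zp s x) = m x) (hsum : ∑ x ∈ Λ, m x = n) :
    (∃ x ∈ Λ, Λ = orb s x ∧ minimalPeriod (zp s) x = n ∧ ∀ y ∈ Λ, m y = 1) ∨
    (∃ x ∈ Λ, ∃ y ∈ Λ, y ∉ orb s x ∧ Disjoint (orb s x) (orb s y) ∧
      (∀ z, z ∈ Λ ↔ z ∈ orb s x ∨ z ∈ orb s y) ∧
      minimalPeriod (zp s) x + minimalPeriod (zp s) y = n ∧ ∀ z ∈ Λ, m z = 1) ∨
    (∃ x ∈ Λ, ∃ y ∈ Λ, x ∉ orb s y ∧ (∀ z, z ∈ Λ ↔ z = x ∨ z ∈ orb s y) ∧ minimalPeriod (zp s) x = 1 ∧
      minimalPeriod (zp s) y + 2 = n ∧ m x = 2 ∧ ∀ z ∈ orb s y, m z = 1) ∨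
    (∃ x ∈ Λ, (∀ y ∈ Λ, y = x) ∧ x ^ t = 1 ∧ m x = n) ∨
    (∃ N M, 0 < N ∧ (∀ x ∈ Λ, x ^ N = 1) ∧ (∀ x ∈ Λ, m x ≤ M) ∧ RestCase q t L n N M) := by
  classical
  have ht0 : 0 < t := by have := P.ht2; omega
  have hq := P.hq
  have hq0 : 0 < q := by omega
  have hcard : Λ.card + ∑ x ∈ Λ, (m x - 1) = n := by
    rw [← hsum, Finset.card_eq_sum_ones, ← Finset.sum_add_distrib]
    apply Finset.sum_congr rfl
    intro x hx
    have := hm1 x hx
    omega
  have hne : Λ.Nonempty := by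
    rw [Finset.nonempty_iff_ne_empty]
    rintro rfl
    simp at hsum
    omega
  -- the largest multiplicity
  obtain ⟨x0, hx0, hmax⟩ := Finset.exists_max_image Λ m hne
  set M := m x0 with hM
  have hM1 : 1 ≤ M := hm1 x0 hx0
  have hDM : M - 1 ≤ ∑ x ∈ Λ, (m x - 1) := Finset.single_le_sum (f := fun x => m x - 1) (fun _ _ => Nat.zero_le _) hx0
  set D := ∑ x ∈ Λ, (m x - 1) with hD
  have hpow : 4 ≤ M → M - 1 ≤ q ^ (M - 3) := by
    intro h4
    obtain ⟨k, hk⟩ : ∃ k, M = k + 4 := ⟨M - 4, by omega⟩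
    rw [hk]
    have h1 : ∀ k : ℕ, k + 3 ≤ 3 ^ (k + 1) := by
      intro k
      induction k with
      | zero => norm_num
      | succ k ih => rw [pow_succ]; omega
    have h2 : 3 ^ (k + 1) ≤ q ^ (k + 1) := Nat.pow_le_pow_left hq _
    have h3 : k + 4 - 1 = k + 3 := by omega
    have h4 : k + 4 - 3 = k + 1 := by omega
    rw [h3, h4]
    exact (h1 k).trans h2
  -- the numerical end
  have fin : ∀ N j : ℕ, 0 < N → (∀ x ∈ Λ, x ^ N = 1) → t ^ 2 * N ≤ q ^ j * L ^ 3 → j + 2 + D ≤ n →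
      j + 4 ≤ n ∨ (M = 1 ∧ j + 3 ≤ n) →
      ∃ N M, 0 < N ∧ (∀ x ∈ Λ, x ^ N = 1) ∧ (∀ x ∈ Λ, m x ≤ M) ∧ RestCase q t L n N M := by
    intro N j hN0 hN hle hj hj'
    refine ⟨N, M, hN0, hN, hmax, ?_⟩
    have h1 : M = 1 ∨ (M = 2 ∨ M = 3) ∨ 4 ≤ M := by omega
    rcases h1 with h1 | h1 | h1
    · left
      exact ⟨h1, hle.trans (Nat.mul_le_mul_right _ (Nat.pow_le_pow_right hq0 (by omega)))⟩
    · right; left
      refine ⟨h1, ?_⟩
      calc q * (t ^ 2 * N) ≤ q * (q ^ j * L ^ 3) := Nat.mul_le_mul_left _ hle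
        _ = q ^ (j + 1) * L ^ 3 := by ring
        _ ≤ _ := Nat.mul_le_mul_right _ (Nat.pow_le_pow_right hq0 (by omega))
    · right; right
      refine ⟨h1, ?_⟩
      calc (M - 1) * (q * (t ^ 2 * N)) ≤ q ^ (M - 3) * (q * (q ^ j * L ^ 3)) :=
            Nat.mul_le_mul (hpow h1) (Nat.mul_le_mul_left _ hle)
        _ = q ^ (M - 3 + 1 + j) * L ^ 3 := by ring
        _ ≤ _ := Nat.mul_le_mul_right _ (Nat.pow_le_pow_right hq0 (by omega))
  obtain ⟨x, hx⟩ := hne
  have hxo := hΛ.ne x hx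
  have hpx := hΛ.period hinj hx
  have hmit : ∀ z ∈ Λ, ∀ i : ℕ, m ((zp s)^[i] z) = m z := by
    intro z hz i
    induction i with
    | zero => rfl
    | succ i ih => rw [Function.iterate_succ_apply', hms _ (hΛ.iter hz i), ih]
  have hmo : ∀ z ∈ Λ, ∀ y ∈ orb s z, m y = m z := by
    intro z hz y hy
    obtain ⟨i, -, rfl⟩ := mem_orb.1 hy
    exact hmit z hz i
  by_cases h0 : (Λ \ orb s x).Nonempty
  swap
  · -- one orbit
    rw [Finset.not_nonempty_iff_eq_empty, Finset.sdiff_eq_empty_iff_subset] at h0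
    have hΛx : Λ = orb s x := Finset.Subset.antisymm h0 (hΛ.orb_subset hx)
    have h1 : minimalPeriod (zp s) x * m x = n := by
      rw [← hsum]
      have : ∑ y ∈ Λ, m y = ∑ y ∈ Λ, m x := Finset.sum_congr rfl fun y hy => hmo x hx y (h0 hy)
      rw [this, Finset.sum_const, smul_eq_mul, hΛx, card_orb]
    rcases (Nat.dvd_prime hn).1 ⟨_, h1.symm⟩ with h2 | h2
    · -- one eigenvalue
      right; right; right; left
      rw [h2, one_mul] at h1
      have h3 : ∀ y ∈ Λ, y = x := by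
        intro y hy
        have := h0 hy
        rw [orb_eq_singleton h2] at this
        simpa using this
      refine ⟨x, hx, h3, ?_, h1⟩
      have := pow_orb hxo (hΛ.self_mem_orb hinj hx)
      rwa [h2, ua, pow_one, P.ht] at this
    · left
      refine ⟨x, hx, hΛx, h2, fun y hy => ?_⟩
      rw [hmo x hx y (h0 hy)]
      rw [h2] at h1
      have : n * m x = n * 1 := by rw [h1, mul_one]
      exact Nat.eq_of_mul_eq_mul_left hn.pos this
  have hst1 := hΛ.sdiff hinj hx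
  have hcx : (Λ \ orb s x).card + minimalPeriod (zp s) x = Λ.card := by
    rw [← card_orb (s := s) x, Finset.card_sdiff_add_card_eq_card (hΛ.orb_subset hx)]
  have hxexp : ∀ z ∈ orb s x, z ^ ua s (minimalPeriod (zp s) x) = 1 := fun z hz => pow_orb hxo hz
  obtain ⟨y, hy⟩ := h0
  have hyΛ : y ∈ Λ := (Finset.mem_sdiff.1 hy).1
  have hyx : y ∉ orb s x := (Finset.mem_sdiff.1 hy).2
  have hyo := hΛ.ne y hyΛ
  have hpy := hΛ.period hinj hyΛ
  have hcy : ((Λ \ orb s x) \ orb s y).card + minimalPeriod (zp s) y = (Λ \ orb s x).card := by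
    rw [← card_orb (s := s) y, Finset.card_sdiff_add_card_eq_card (hst1.orb_subset hy)]
  have hdis : Disjoint (orb s x) (orb s y) := by
    rw [Finset.disjoint_left]
    intro z hz1 hz2
    exact (Finset.mem_sdiff.1 (hst1.orb_subset hy hz2)).2 hz1
  set a := minimalPeriod (zp s) x with ha
  set b := minimalPeriod (zp s) y with hb
  have hab : Nat.lcm (ua s a) (ua s b) * t ≤ q ^ (a + b - 2) * L ^ 2 := by
    have h1 := lcm_bound (w := t) ht0 (P.dvd a) (P.dvd b)
    have h2 : ua s a * ua s b ≤ (q ^ (a - 1) * L) * (q ^ (b - 1) * L) :=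
      Nat.mul_le_mul (P.hua a hpx) (P.hua b hpy)
    refine (h1.trans h2).trans (le_of_eq ?_)
    have : a + b - 2 = (a - 1) + (b - 1) := by omega
    rw [this]
    ring
  have habp : 0 < Nat.lcm (ua s a) (ua s b) := Nat.lcm_pos (P.pos _ hpx) (P.pos _ hpy)
  by_cases h1 : ((Λ \ orb s x) \ orb s y).Nonempty
  swap
  · -- two orbits
    rw [Finset.not_nonempty_iff_eq_empty] at h1
    rw [h1, Finset.card_empty, zero_add] at hcy
    have hiff : ∀ z, z ∈ Λ ↔ z ∈ orb s x ∨ z ∈ orb s y := by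
      intro z
      constructor
      · intro hz
        by_contra hcon
        push Not at hcon
        have : z ∈ (Λ \ orb s x) \ orb s y := Finset.mem_sdiff.2 ⟨Finset.mem_sdiff.2 ⟨hz, hcon.1⟩, hcon.2⟩
        rw [h1] at this
        simp at this
      · rintro (hz | hz)
        · exact hΛ.orb_subset hx hz
        · exact hΛ.orb_subset hyΛ hz
    have hexp : ∀ z ∈ Λ, z ^ Nat.lcm (ua s a) (ua s b) = 1 := by
      intro z hz
      rcases (hiff z).1 hz with h | h
      · obtain ⟨k, hk⟩ := Nat.dvd_lcm_left (ua s a) (ua s b)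
        rw [hk, pow_mul, hxexp z h, one_pow]
      · obtain ⟨k, hk⟩ := Nat.dvd_lcm_right (ua s a) (ua s b)
        rw [hk, pow_mul, pow_orb hyo h, one_pow]
    rcases Nat.lt_or_ge D 2 with hD2 | hD2
    · rcases Nat.lt_or_ge D 1 with hD1 | hD1
      · right; left
        refine ⟨x, hx, y, hyΛ, hyx, hdis, hiff, by omega, fun z hz => ?_⟩
        have := hmax z hz
        have := hm1 z hz
        omega
      · right; right; left
        have hD1' : D = 1 := by omega
        -- exactly one element of multiplicity 2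
        have hM2 : M = 2 := by
          have h3 : M ≠ 1 := by
            intro h3
            have : D = 0 := by
              rw [hD]
              apply Finset.sum_eq_zero
              intro z hz
              have := hmax z hz
              omega
            omega
          omega
        have huniq : ∀ z ∈ Λ, z ≠ x0 → m z = 1 := by
          intro z hz hzx
          have h4 : (m x0 - 1) + (m z - 1) ≤ D := by
            rw [hD, ← Finset.sum_pair (f := fun x => m x - 1) hzx.symm]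
            apply Finset.sum_le_sum_of_subset
            intro w hw
            rcases Finset.mem_insert.1 hw with rfl | hw
            · exact hx0
            · rw [Finset.mem_singleton.1 hw]; exact hz
          have := hm1 z hz
          omega
        have hfix : zp s x0 = x0 := by
          by_contra hcon
          have h5 := huniq _ (hΛ.st x0 hx0) hcon
          have h6 := hms x0 hx0
          omega
        have hper0 : minimalPeriod (zp s) x0 = 1 := minimalPeriod_eq_one_iff_isFixedPt.2 hfix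
        rcases (hiff x0).1 hx0 with h7' | h7'
        · have h8 : a = 1 := by rw [ha, ← hΛ.period_of_mem hinj hx h7', hper0]
          have h9 : x0 = x := by
            rw [orb_eq_singleton (by rw [← ha]; exact h8)] at h7'
            simpa using h7'
          refine ⟨x, hx, y, hyΛ, ?_, ?_, h8, by omega, by rw [← h9]; omega, ?_⟩
          · intro h10
            exact Finset.disjoint_left.1 hdis (hΛ.self_mem_orb hinj hx) h10
          · intro z
            rw [hiff z, orb_eq_singleton (by rw [← ha]; exact h8), Finset.mem_singleton]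
          · intro z hz
            apply huniq z (hΛ.orb_subset hyΛ hz)
            rintro rfl
            exact Finset.disjoint_left.1 hdis h7' hz
        · have h8 : b = 1 := by rw [hb, ← hΛ.period_of_mem hinj hyΛ h7', hper0]
          have h9 : x0 = y := by
            rw [orb_eq_singleton (by rw [← hb]; exact h8)] at h7'
            simpa using h7'
          refine ⟨y, hyΛ, x, hx, hyx, ?_, h8, by omega, by rw [← h9]; omega, ?_⟩
          · intro z
            rw [hiff z, orb_eq_singleton (by rw [← hb]; exact h8) (x := y), Finset.mem_singleton, or_comm]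
          · intro z hz
            apply huniq z (hΛ.orb_subset hx hz)
            rintro rfl
            exact Finset.disjoint_left.1 hdis hz h7'
    · right; right; right; right
      refine fin _ (a + b - 2) habp hexp ?_ (by omega) (Or.inl (by omega))
      calc t ^ 2 * Nat.lcm (ua s a) (ua s b) = t * (Nat.lcm (ua s a) (ua s b) * t) := by ring
        _ ≤ L * (q ^ (a + b - 2) * L ^ 2) := Nat.mul_le_mul P.htL hab
        _ = _ := by ring
  · -- at least three orbits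
    right; right; right; right
    have hst2 := hst1.sdiff hinj hy
    have hcp : 1 ≤ ((Λ \ orb s x) \ orb s y).card := h1.card_pos
    obtain ⟨N, hN0, hNd, hN, hle⟩ := hst2.exists_exp hinj P h1
    set c := ((Λ \ orb s x) \ orb s y).card with hc
    have hexp : ∀ z ∈ Λ, z ^ Nat.lcm (Nat.lcm (ua s a) (ua s b)) N = 1 := by
      intro z hz
      by_cases h2 : z ∈ orb s x
      · obtain ⟨k, hk⟩ := (Nat.dvd_lcm_left (ua s a) (ua s b)).trans (Nat.dvd_lcm_left _ N)
        rw [hk, pow_mul, hxexp z h2, one_pow]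
      by_cases h3 : z ∈ orb s y
      · obtain ⟨k, hk⟩ := (Nat.dvd_lcm_right (ua s a) (ua s b)).trans (Nat.dvd_lcm_left _ N)
        rw [hk, pow_mul, pow_orb hyo h3, one_pow]
      · obtain ⟨k, hk⟩ := Nat.dvd_lcm_right (Nat.lcm (ua s a) (ua s b)) N
        rw [hk, pow_mul, hN z (Finset.mem_sdiff.2 ⟨Finset.mem_sdiff.2 ⟨hz, h2⟩, h3⟩), one_pow]
    have h2 : t ^ 2 * Nat.lcm (Nat.lcm (ua s a) (ua s b)) N ≤ q ^ (a + b + c - 3) * L ^ 3 := by
      have h3 := lcm_bound (w := t) ht0 ((P.dvd a).trans (Nat.dvd_lcm_left _ (ua s b))) hNd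
      calc t ^ 2 * Nat.lcm (Nat.lcm (ua s a) (ua s b)) N = t * (Nat.lcm (Nat.lcm (ua s a) (ua s b)) N * t) := by ring
        _ ≤ t * (Nat.lcm (ua s a) (ua s b) * N) := Nat.mul_le_mul_left _ h3
        _ = (Nat.lcm (ua s a) (ua s b) * t) * N := by ring
        _ ≤ (q ^ (a + b - 2) * L ^ 2) * (q ^ (c - 1) * L) := Nat.mul_le_mul hab hle
        _ = q ^ (a + b - 2 + (c - 1)) * L ^ 3 := by ring
        _ = _ := by congr 2; (clear * - hpx hpy hcp; omega)
    refine fin _ (a + b + c - 3) (Nat.lcm_pos habp hN0) hexp h2 (by omega) ?_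
    rcases Nat.lt_or_ge D 1 with hD1 | hD1
    · right
      refine ⟨by omega, by omega⟩
    · left
      omega

end

end Cfsg.Agent.R2.Spec.X7
end

-- part: R2/Spec/X7/Window
section
/-!
# The large element orders of `PSL_n(q)`, `PSU_n(q)`, `n` prime
-/

set_option autoImplicit false

namespace Cfsg.Agent.R2.Spec.X7

open Finset Function
open Cfsg.Agent.H437.Win (pow_scalar scalar_of_map roots_ne_zero)

section

variable {K : Type*} [Field K] {s : ℤ}

theorem iter_zpow_eq {x : K} (hx : x ≠ 0) {W : ℤ} (h : (x ^ W) ^ (s - 1) = 1) (i : ℕ) :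
    ((zp s)^[i] x) ^ W = x ^ W := by
  rw [iter_eq, ← zpow_mul]
  have h1 : s ^ i * W = W + (W * (s - 1)) * es s i := by
    have := es_mul s i
    linear_combination W * (-this)
  rw [h1, zpow_add₀ hx, zpow_mul, zpow_mul, h, one_zpow, mul_one]

theorem es_modEq (s : ℤ) (a : ℕ) : (s - 1) ∣ es s a - a := by
  induction a with
  | zero => simp [es]
  | succ a ih =>
    have h1 : es s (a + 1) = es s a + s ^ a := by rw [es, es, Finset.sum_range_succ]
    rw [h1]
    have h2 := es_mul s a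
    have h3 : es s a + s ^ a - ((a + 1 : ℕ) : ℤ) = (es s a - a) + (s - 1) * es s a := by
      push_cast
      linear_combination -h2
    rw [h3]
    exact dvd_add ih (dvd_mul_right _ _)

theorem pow_natAbs_of_zpow {Λ : Finset K} {W : ℤ} {z : K} (h : ∀ t ∈ Λ, t ^ W = z) :
    ∃ z', ∀ t ∈ Λ, t ^ W.natAbs = z' := by
  rcases Int.natAbs_eq W with h1 | h1
  · refine ⟨z, fun t ht => ?_⟩
    rw [← h t ht, ← zpow_natCast, ← h1]
  · refine ⟨z⁻¹, fun t ht => ?_⟩
    rw [← h t ht, ← zpow_natCast, ← zpow_neg]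
    congr 1
    omega

end

/-- the possible shapes of a (multiple of an) element order -/
def Shape (s : ℤ) (p q t L n c E : ℕ) : Prop :=
  E * (c * t) = ua s n ∨
  (∃ a b, 1 ≤ a ∧ 1 ≤ b ∧ a + b = n ∧ E * (c * t) = ua s a * ua s b) ∨
  E * c = p * ua s (n - 2) ∨
  (∃ k, E = t * p ^ (k + 1) ∧ p ^ k < n) ∨
  t ^ 2 * E ≤ q ^ (n - 3) * L ^ 3

/-- **The window lemma** for matrices. -/
theorem window_mat {F : Type*} [Field F] {K : Type*} [Field K] [IsAlgClosed K] [Algebra F K] {s : ℤ} {p q t L n : ℕ}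
    [Fact p.Prime] [CharP K p] (P : Par s q t L) (hpq : p ≤ q) (hp2 : p ≠ 2) (hn : n.Prime) (h5 : 3 ≤ n)
    (A : Matrix (Fin n) (Fin n) F) (hdetA : A.det = 1) (hinj : Injective (zp s : K → K))
    [DecidableEq K]
    (hcs : ∀ x, (A.map (algebraMap F K)).charpoly.roots.count (zp s x) = (A.map (algebraMap F K)).charpoly.roots.count x) :
    ∃ E, 0 < E ∧ (∃ z : F, A ^ E = z • (1 : Matrix (Fin n) (Fin n) F)) ∧ Shape s p q t L n (Nat.gcd n t) E := by
  set Y : Matrix (Fin n) (Fin n) K := A.map (algebraMap F K) with hY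
  have hdet : Y.det = 1 := by
    rw [hY, show A.map (algebraMap F K) = (algebraMap F K).mapMatrix A from rfl, ← RingHom.map_det, hdetA, map_one]
  set! Λ := Y.charpoly.roots.toFinset with hΛ
  have hmem : ∀ x, x ∈ Λ ↔ 1 ≤ Y.charpoly.roots.count x := by
    intro x
    rw [hΛ, Multiset.mem_toFinset, Multiset.one_le_count_iff_mem]
  have hst : Stab s Λ := by
    refine ⟨fun x hx => roots_ne_zero hdet (Multiset.mem_toFinset.1 hx), fun x hx => ?_⟩
    rw [hmem] at hx ⊢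
    rw [hcs]
    exact hx
  have hsum : ∑ x ∈ Λ, Y.charpoly.roots.count x = n := by
    rw [hΛ, Multiset.toFinset_sum_count_eq, ← (IsAlgClosed.splits Y.charpoly).natDegree_eq_card_roots,
      Matrix.charpoly_natDegree_eq_dim, Fintype.card_fin]
  have hprod : ∏ x ∈ Λ, x ^ Y.charpoly.roots.count x = 1 := by
    rw [hΛ, ← Finset.prod_multiset_count, ← Matrix.det_eq_prod_roots_charpoly, hdet]
  -- the scalar powers
  have key : ∀ k j : ℕ, (∃ z, ∀ x ∈ Λ, x ^ k = z) → (∀ x ∈ Λ, Y.charpoly.roots.count x ≤ p ^ j) →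
      ∃ z : F, A ^ (k * p ^ j) = z • (1 : Matrix (Fin n) (Fin n) F) := by
    rintro k j ⟨z, hz⟩ hc
    exact scalar_of_map A hn.one_lt.le (pow_scalar Y (k := k) (s := j) (z := z)
      (fun x hx => hz x (Multiset.mem_toFinset.2 hx)) (fun x hx => hc x (Multiset.mem_toFinset.2 hx)))
  have hp := (Fact.out : p.Prime)
  have hp3 : 3 ≤ p := by
    have := hp.two_le
    omega
  have ht0 : 0 < t := by have := P.ht2; omega
  have hcn : Nat.gcd n t ∣ n := Nat.gcd_dvd_left _ _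
  obtain ⟨d, hd⟩ := Nat.gcd_dvd_right n t
  set c := Nat.gcd n t with hc
  have hc0 : 0 < c := Nat.gcd_pos_of_pos_left _ hn.pos
  have hd0 : 0 < d := by
    rcases Nat.eq_zero_or_pos d with h | h
    · rw [h, mul_zero] at hd; omega
    · exact h
  -- `s - 1 = c * d'`, `|d'| = d`
  obtain ⟨d', hd', hdd⟩ : ∃ d' : ℤ, s - 1 = c * d' ∧ d'.natAbs = d := by
    have h1 : ((s - 1).natAbs : ℤ) = (c * d : ℕ) := by rw [P.ht, ← hd]
    rcases Int.natAbs_eq (s - 1) with h2 | h2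
    · refine ⟨d, ?_, Int.natAbs_natCast d⟩
      rw [h2, h1]; push_cast; ring
    · refine ⟨-d, ?_, by rw [Int.natAbs_neg, Int.natAbs_natCast]⟩
      rw [h2, h1]; push_cast; ring
  have hdvd : ∀ X : ℤ, (s - 1) ∣ X - n → (c : ℤ) ∣ X := by
    intro X hX
    have h1 : (c : ℤ) ∣ X - n := (Dvd.intro _ hd'.symm).trans hX
    have h2 : (c : ℤ) ∣ n := by exact_mod_cast hcn
    have := dvd_add h1 h2
    rwa [sub_add_cancel] at this
  have hes0 : ∀ a, 1 ≤ a → 0 < (es s a).natAbs := by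
    intro a ha
    have h1 := P.pos a ha
    rw [ua_eq] at h1
    exact Nat.pos_of_mul_pos_right h1 |> fun h => h
  rcases hst.cases hinj P hn h5 (fun x => Y.charpoly.roots.count x) (fun x hx => (hmem x).1 hx)
    (fun x _ => hcs x) hsum with ⟨x, hx, hΛx, hper, hm⟩ | ⟨x, hx, y, hy, hyx, hdis, hiff, hab, hm⟩ |
      ⟨x, hx, y, hy, hxy, hiff, hper, hb, hmx, hmy⟩ | ⟨x, hx, hall, hxt, hmx⟩ | ⟨N, M, hN0, hN, hM, hcase⟩
  · -- one orbit
    have hx0 := hst.ne x hx
    obtain ⟨e, he⟩ := hdvd (es s n) (es_modEq s n)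
    have h1 : x ^ es s n = 1 := by
      have hpo := prod_orb (s := s) hx0
      rw [hper, ← hΛx] at hpo
      rw [← hpo, ← hprod]
      apply Finset.prod_congr rfl
      intro z hz
      rw [hm z hz, pow_one]
    have h2 : (x ^ e) ^ (s - 1) = 1 := by
      rw [← zpow_mul, hd', ← mul_assoc, mul_comm e, ← he, zpow_mul, h1, one_zpow]
    have h3 : ∀ t ∈ Λ, t ^ e = x ^ e := by
      intro t ht
      rw [hΛx] at ht
      obtain ⟨i, -, rfl⟩ := mem_orb.1 ht
      exact iter_zpow_eq hx0 h2 i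
    have h4 := key e.natAbs 0 (pow_natAbs_of_zpow h3) (fun t ht => by rw [hm t ht]; simp)
    rw [pow_zero, mul_one] at h4
    have h5 : e.natAbs * (c * t) = ua s n := by
      rw [ua_eq, he, Int.natAbs_mul, Int.natAbs_natCast, P.ht]
      ring
    refine ⟨e.natAbs, ?_, h4, Or.inl h5⟩
    rcases Nat.eq_zero_or_pos e.natAbs with h6 | h6
    · rw [h6, zero_mul] at h5
      have := P.pos n hn.one_lt.le
      omega
    · exact h6
  · -- two orbits
    have hx0 := hst.ne x hx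
    have hy0 := hst.ne y hy
    have hpx := hst.period hinj hx
    have hpy := hst.period hinj hy
    set a := minimalPeriod (zp s) x with ha
    set b := minimalPeriod (zp s) y with hb
    have hΛ' : Λ = (orb s x).disjUnion (orb s y) hdis := by
      ext z
      rw [hiff z, Finset.mem_disjUnion]
    have h1 : x ^ es s a * y ^ es s b = 1 := by
      rw [← hprod, ha, hb, ← prod_orb hx0, ← prod_orb hy0, hΛ', Finset.prod_disjUnion]
      (with_reducible congr 1)
      · apply Finset.prod_congr rfl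
        intro z hz
        rw [hm z ((hiff z).2 (Or.inl hz)), pow_one]
      · apply Finset.prod_congr rfl
        intro z hz
        rw [hm z ((hiff z).2 (Or.inr hz)), pow_one]
    have h2 : (x ^ es s a) ^ (s - 1) = 1 := by
      rw [← zpow_mul, es_mul, zpow_sub₀ hx0, zpow_one]
      have h3 : (zp s)^[a] x = x := by rw [ha, iterate_minimalPeriod]
      rw [iter_eq] at h3
      rw [h3, div_self hx0]
    have h2y : y ^ es s b = (x ^ es s a)⁻¹ := eq_inv_of_mul_eq_one_right h1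
    obtain ⟨e, he⟩ := hdvd (es s a + es s b) (by
      have h5 := dvd_add (es_modEq s a) (es_modEq s b)
      have h6 : es s a - a + (es s b - b) = es s a + es s b - n := by
        rw [← hab]; push_cast; ring
      rwa [h6] at h5)
    set! W : ℤ := es s a * es s b * d' with hW
    set! w := x ^ es s a with hw; rewrite [← hw] at h2y h2 h1
    have hw0 : w ≠ 0 := zpow_ne_zero _ hx0
    have hxW : x ^ W = w ^ (es s b * d') := by rw [hW, mul_assoc, zpow_mul]
    have hyW : y ^ W = w ^ (es s b * d') := by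
      have h7 : y ^ W = w ^ (-(es s a * d')) := by
        rw [hW, mul_comm (es s a), mul_assoc, zpow_mul, h2y, inv_zpow', ]
      have h8 : w ^ (es s b * d' - (-(es s a * d'))) = 1 := by
        have h9 : es s b * d' - (-(es s a * d')) = (s - 1) * e := by
          rw [hd']
          linear_combination d' * he
        rw [h9, zpow_mul, h2, one_zpow]
      rw [zpow_sub₀ hw0, div_eq_one_iff_eq (zpow_ne_zero _ hw0)] at h8
      rw [h7, h8]
    have hall : ∀ t ∈ Λ, t ^ W = w ^ (es s b * d') := by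
      intro t ht
      have h10 : (w ^ (es s b * d')) ^ (s - 1) = 1 := by
        rw [← zpow_mul, mul_comm, zpow_mul, h2, one_zpow]
      rcases (hiff t).1 ht with h | h
      · obtain ⟨i, -, rfl⟩ := mem_orb.1 h
        rw [iter_zpow_eq hx0 (by rw [hxW]; exact h10) i, hxW]
      · obtain ⟨i, -, rfl⟩ := mem_orb.1 h
        rw [iter_zpow_eq hy0 (by rw [hyW]; exact h10) i, hyW]
    have h4 := key W.natAbs 0 (pow_natAbs_of_zpow hall) (fun t ht => by rw [hm t ht]; simp)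
    rw [pow_zero, mul_one] at h4
    have h5 : W.natAbs * (c * t) = ua s a * ua s b := by
      rw [ua_eq, ua_eq, hW, Int.natAbs_mul, Int.natAbs_mul, hdd, P.ht]
      calc (es s a).natAbs * (es s b).natAbs * d * (c * t) =
          (es s a).natAbs * (es s b).natAbs * ((c * d) * t) := by ring
        _ = _ := by rw [← hd]; ring
    refine ⟨W.natAbs, ?_, h4, Or.inr (Or.inl ⟨a, b, hpx, hpy, hab, h5⟩)⟩
    rw [hW, Int.natAbs_mul, Int.natAbs_mul, hdd]
    exact Nat.mul_pos (Nat.mul_pos (hes0 a hpx) (hes0 b hpy)) hd0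
  · -- a fixed point of multiplicity two
    have hx0 := hst.ne x hx
    have hy0 := hst.ne y hy
    have hpy := hst.period hinj hy
    set b := minimalPeriod (zp s) y with hbdef
    have hxq : x ^ (s - 1) = 1 := by
      have h3 : (zp s)^[1] x = x := by rw [← hper, iterate_minimalPeriod]
      rw [iter_eq, pow_one] at h3
      rw [zpow_sub₀ hx0, zpow_one, h3, div_self hx0]
    have h1 : x ^ (2 : ℤ) * y ^ es s b = 1 := by
      have hΛ' : Λ = ({x} : Finset K).disjUnion (orb s y) (by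
          rw [Finset.disjoint_singleton_left]; exact hxy) := by
        ext z
        rw [hiff z, Finset.mem_disjUnion, Finset.mem_singleton]
      rw [← hprod, hbdef, ← prod_orb hy0, hΛ', Finset.prod_disjUnion, Finset.prod_singleton]
      (with_reducible congr 1)
      · rw [hmx]; norm_cast
      · apply Finset.prod_congr rfl
        intro z hz
        rw [hmy z hz, pow_one]
    have h2 : (y ^ es s b) = x ^ (-2 : ℤ) := by
      rw [zpow_neg]
      exact eq_inv_of_mul_eq_one_right h1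
    obtain ⟨e, he⟩ := hdvd (es s b + 2) (by
      have h5 := es_modEq s b
      have h6 : es s b - b = es s b + 2 - n := by
        rw [← hb]; push_cast; ring
      rwa [h6] at h5)
    set! W : ℤ := es s b * d' with hW
    have hyW : y ^ W = x ^ W := by
      have h7 : y ^ W = x ^ (-2 * d' : ℤ) := by rw [hW, zpow_mul, h2, ← zpow_mul]
      have h8 : x ^ (W - (-2 * d')) = 1 := by
        have h9 : W - (-2 * d') = (s - 1) * e := by
          rw [hd', hW]
          linear_combination d' * he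
        rw [h9, zpow_mul, hxq, one_zpow]
      rw [zpow_sub₀ hx0, div_eq_one_iff_eq (zpow_ne_zero _ hx0)] at h8
      rw [h7, h8]
    have hall : ∀ t ∈ Λ, t ^ W = x ^ W := by
      intro t ht
      have h10 : (x ^ W) ^ (s - 1) = 1 := by
        rw [← zpow_mul, mul_comm, zpow_mul, hxq, one_zpow]
      rcases (hiff t).1 ht with rfl | h
      · rfl
      · obtain ⟨i, -, rfl⟩ := mem_orb.1 h
        rw [iter_zpow_eq hy0 (by rw [hyW]; exact h10) i, hyW]
    have h4 := key W.natAbs 1 (pow_natAbs_of_zpow hall) (fun t ht => by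
      rw [pow_one]
      rcases (hiff t).1 ht with rfl | h
      · rw [hmx]; omega
      · rw [hmy t h]; omega)
    rw [pow_one] at h4
    have h5 : W.natAbs * c = ua s (n - 2) := by
      rw [show n - 2 = b by omega, ua_eq, hW, Int.natAbs_mul, hdd, P.ht, hd]
      ring
    refine ⟨W.natAbs * p, ?_, h4, Or.inr (Or.inr (Or.inl ?_))⟩
    · rw [hW, Int.natAbs_mul, hdd]
      exact Nat.mul_pos (Nat.mul_pos (hes0 b hpy) hd0) hp.pos
    · rw [← h5]; ring
  · -- one eigenvalue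
    have hex : ∃ k, n ≤ p ^ k := ⟨n, (Nat.lt_pow_self hp.one_lt).le⟩
    have h1 := Nat.find_spec hex
    have h2 := fun m (hm : m < Nat.find hex) => Nat.find_min hex hm
    set k := Nat.find hex with hk
    have hk0 : k ≠ 0 := by
      intro h0
      rw [h0, pow_zero] at h1
      omega
    obtain ⟨k', hk'⟩ : ∃ k', k = k' + 1 := ⟨k - 1, by omega⟩
    have h3 := h2 k' (by omega)
    have h4 := key t k ⟨1, fun y hy => by rw [hall y hy]; exact hxt⟩ (fun y hy => by rw [hall y hy]; exact hmx.trans_le h1)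
    rw [hk'] at h4
    exact ⟨t * p ^ (k' + 1), Nat.mul_pos ht0 (pow_pos hp.pos _), h4,
      Or.inr (Or.inr (Or.inr (Or.inl ⟨k', rfl, by omega⟩)))⟩
  · -- the rest
    have hN' : ∃ z, ∀ x ∈ Λ, x ^ N = z := ⟨1, hN⟩
    have htN : 0 < t ^ 2 * N := Nat.mul_pos (pow_pos ht0 2) hN0
    rcases hcase with ⟨rfl, hle⟩ | ⟨hM23, hle⟩ | ⟨hM4, hle⟩
    · have h1 := key N 0 hN' (fun t ht => by rw [pow_zero]; exact hM t ht)
      rw [pow_zero, mul_one] at h1
      exact ⟨N, hN0, h1, Or.inr (Or.inr (Or.inr (Or.inr hle)))⟩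
    · have h1 := key N 1 hN' (fun t ht => by rw [pow_one]; exact (hM t ht).trans (by omega))
      rw [pow_one] at h1
      refine ⟨N * p, Nat.mul_pos hN0 hp.pos, h1, Or.inr (Or.inr (Or.inr (Or.inr (le_trans ?_ hle))))⟩
      calc t ^ 2 * (N * p) = p * (t ^ 2 * N) := by ring
        _ ≤ _ := Nat.mul_le_mul_right _ hpq
    · -- the least `k` with `M ≤ p ^ k`
      have hex : ∃ k, M ≤ p ^ k := ⟨M, (Nat.lt_pow_self hp.one_lt).le⟩
      have h1 := Nat.find_spec hex
      have h2 := fun m (hm : m < Nat.find hex) => Nat.find_min hex hm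
      set k := Nat.find hex with hk
      have hk0 : k ≠ 0 := by
        intro h0
        rw [h0, pow_zero] at h1
        omega
      obtain ⟨k', hk'⟩ : ∃ k', k = k' + 1 := ⟨k - 1, by omega⟩
      have h3 := h2 k' (by omega)
      have h4 : p ^ k ≤ q * (M - 1) := by
        rw [hk', pow_succ, mul_comm]
        exact Nat.mul_le_mul hpq (by omega)
      have h5 := key N k hN' (fun t ht => (hM t ht).trans h1)
      have hps : 0 < p ^ k := pow_pos hp.pos _
      refine ⟨N * p ^ k, Nat.mul_pos hN0 hps, h5, Or.inr (Or.inr (Or.inr (Or.inr (le_trans ?_ hle))))⟩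
      calc t ^ 2 * (N * p ^ k) = (t ^ 2 * N) * p ^ k := by ring
        _ ≤ (t ^ 2 * N) * (q * (M - 1)) := Nat.mul_le_mul_left _ h4
        _ = _ := by ring

end Cfsg.Agent.R2.Spec.X7
end

-- part: R2/Spec/X7/Groups
section
/-!
# The window lemma for `PSL_n(q)`, `PSU_n(q)`
-/

set_option autoImplicit false

namespace Cfsg.Agent.R2.Spec.X7

open Finset Function Cfsg
open Cfsg.Agent.H437.Win (count_stable sg' sg'_injective)

theorem ua_plus {q : ℕ} (hq : 1 ≤ q) (a : ℕ) : ua (q : ℤ) a = q ^ a - 1 := by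
  have h1 : 1 ≤ q ^ a := Nat.one_le_pow _ _ hq
  have h2 : ((q : ℤ) ^ a - 1) = ((q ^ a - 1 : ℕ) : ℤ) := by
    rw [Nat.cast_sub h1]; push_cast; ring
  rw [ua, h2, Int.natAbs_natCast]

theorem ua_minus_even {q a : ℕ} (hq : 1 ≤ q) (ha : Even a) : ua (-(q : ℤ)) a = q ^ a - 1 := by
  rw [ua, ha.neg_pow, ← ua, ua_plus hq]

theorem ua_minus_odd {q a : ℕ} (ha : Odd a) : ua (-(q : ℤ)) a = q ^ a + 1 := by
  have h2 : ((-(q : ℤ)) ^ a - 1) = -((q ^ a + 1 : ℕ) : ℤ) := by
    rw [ha.neg_pow]; push_cast; ring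
  rw [ua, h2, Int.natAbs_neg, Int.natAbs_natCast]

theorem par_plus {q : ℕ} (hq : 3 ≤ q) : Par (q : ℤ) q (q - 1) q := by
  refine ⟨Int.natAbs_natCast q, ?_, hq, by omega, by omega, ?_, ?_, ?_⟩
  · have := ua_plus (q := q) (by omega) 1
    rwa [ua, pow_one, pow_one] at this
  · calc q = q * 1 := (mul_one q).symm
      _ ≤ _ := Nat.mul_le_mul_left _ (by omega)
  · intro a ha
    rw [ua_plus (by omega)]
    obtain ⟨b, rfl⟩ : ∃ b, a = b + 1 := ⟨a - 1, by omega⟩
    rw [Nat.add_sub_cancel, ← pow_succ]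
    omega
  · intro a ha
    rw [ua_plus (by omega)]
    have h1 : 3 ^ 1 ≤ q ^ a := (Nat.pow_le_pow_left hq 1).trans (Nat.pow_le_pow_right (by omega) ha)
    omega

theorem par_minus {q : ℕ} (hq : 3 ≤ q) : Par (-(q : ℤ)) q (q + 1) (q + 1) := by
  refine ⟨by rw [Int.natAbs_neg, Int.natAbs_natCast], ?_, hq, by omega, le_rfl, ?_, ?_, ?_⟩
  · have := ua_minus_odd (q := q) odd_one
    rwa [ua, pow_one, pow_one] at this
  · calc q + 1 = 1 * (q + 1) := (one_mul _).symm
      _ ≤ _ := Nat.mul_le_mul_right _ (by omega)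
  · intro a ha
    obtain ⟨b, rfl⟩ : ∃ b, a = b + 1 := ⟨a - 1, by omega⟩
    have h2 : 1 ≤ q ^ b := Nat.one_le_pow _ _ (by omega)
    have h3 : ua (-(q : ℤ)) (b + 1) ≤ q ^ (b + 1) + 1 := by
      rcases Nat.even_or_odd (b + 1) with h | h
      · rw [ua_minus_even (by omega) h]; omega
      · rw [ua_minus_odd h]
    rw [Nat.add_sub_cancel]
    calc ua (-(q : ℤ)) (b + 1) ≤ q ^ (b + 1) + 1 := h3
      _ ≤ q ^ (b + 1) + q ^ b := by omega
      _ = _ := by ring
  · intro a ha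
    have h1 : 3 ^ 1 ≤ q ^ a := (Nat.pow_le_pow_left hq 1).trans (Nat.pow_le_pow_right (by omega) ha)
    rcases Nat.even_or_odd a with h | h
    · rw [ua_minus_even (by omega) h]
      omega
    · rw [ua_minus_odd h]
      omega

section

variable {F : Type*} [Field F] [Fintype F] {p f q n : ℕ} [Fact p.Prime] [CharP F p]

theorem window_psl (hq : q = p ^ f) (hF : Fintype.card F = q) (hp2 : p ≠ 2) (hn : n.Prime) (h3 : 3 ≤ n)
    (g : Matrix.ProjectiveSpecialLinearGroup (Fin n) F) :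
    ∃ E, 0 < E ∧ orderOf g ∣ E ∧ Shape (q : ℤ) p q (q - 1) q n (Nat.gcd n (q - 1)) E := by
  classical
  have hp := (Fact.out : p.Prime)
  have hf : f ≠ 0 := by
    rintro rfl
    have := Fintype.one_lt_card (α := F)
    rw [hF, hq] at this
    simp at this
  have hpq : p ≤ q := by rw [hq]; exact Nat.le_self_pow hf p
  have hq3 : 3 ≤ q := by
    have := hp.two_le
    omega
  obtain ⟨g, rfl⟩ := QuotientGroup.mk_surjective g
  set! A : Matrix (Fin n) (Fin n) F := ((g : Matrix.SpecialLinearGroup (Fin n) F) : Matrix (Fin n) (Fin n) F) with hA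
  let K := AlgebraicClosure F
  have hCP : CharP K p := charP_of_injective_algebraMap (algebraMap F K).injective p
  have hdetA : A.det = 1 := g.2
  have hzp : (zp (q : ℤ) : K → K) = fun x => x ^ q := by
    funext x
    rw [zp, zpow_natCast]
  have hinj : Injective (zp (q : ℤ) : K → K) := by
    rw [hzp]
    intro x y hxy
    apply (iterateFrobenius K p f).injective
    rw [iterateFrobenius_def, iterateFrobenius_def, ← hq]
    exact hxy
  have hcs : ∀ x, (A.map (algebraMap F K)).charpoly.roots.count (zp (q : ℤ) x) =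
      (A.map (algebraMap F K)).charpoly.roots.count x := by
    intro x
    set Y : Matrix (Fin n) (Fin n) K := A.map (algebraMap F K) with hY
    have h1 : (Y.map (iterateFrobenius K p f)).charpoly.roots = Y.charpoly.roots.map (iterateFrobenius K p f) := by
      rw [Matrix.charpoly_map]
      exact (IsAlgClosed.splits Y.charpoly).roots_map _
    have h2 : Y.map (iterateFrobenius K p f) = Y := by
      ext i j
      rw [hY, Matrix.map_apply, Matrix.map_apply, iterateFrobenius_def, ← map_pow, ← hq, ← hF, FiniteField.pow_card]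
    rw [h2] at h1
    have h3 : Multiset.count (iterateFrobenius K p f x) (Y.charpoly.roots.map (iterateFrobenius K p f)) =
        Y.charpoly.roots.count x := Multiset.count_map_eq_count' _ _ (iterateFrobenius K p f).injective x
    rw [← h1, iterateFrobenius_def, ← hq] at h3
    rw [hzp]
    exact h3
  obtain ⟨E, hE0, ⟨z, hz⟩, hE⟩ := window_mat (par_plus hq3) hpq hp2 hn h3 A hdetA hinj hcs
  refine ⟨E, hE0, ?_, hE⟩
  apply orderOf_dvd_of_pow_eq_one
  have h4 : g ^ E ∈ Subgroup.center (Matrix.SpecialLinearGroup (Fin n) F) := by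
    rw [Subgroup.mem_center_iff]
    intro h
    apply Subtype.ext
    show (h : Matrix (Fin n) (Fin n) F) * ((g ^ E : Matrix.SpecialLinearGroup (Fin n) F) : Matrix (Fin n) (Fin n) F) =
      ((g ^ E : Matrix.SpecialLinearGroup (Fin n) F) : Matrix (Fin n) (Fin n) F) * (h : Matrix (Fin n) (Fin n) F)
    rw [Matrix.SpecialLinearGroup.coe_pow, ← hA, hz, Matrix.mul_smul, Matrix.smul_mul, Matrix.mul_one, Matrix.one_mul]
  rw [← QuotientGroup.mk_pow]
  exact (QuotientGroup.eq_one_iff _).2 h4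

theorem window_psu (hq : q = p ^ f) (hq3 : 3 ≤ q) (hp2 : p ≠ 2) (hn : n.Prime) (h3 : 3 ≤ n) (g : PSU n F q) :
    ∃ E, 0 < E ∧ orderOf g ∣ E ∧ Shape (-(q : ℤ)) p q (q + 1) (q + 1) n (Nat.gcd n (q + 1)) E := by
  classical
  have hp := (Fact.out : p.Prime)
  have hpq : p ≤ q := by
    have hf : f ≠ 0 := by
      rintro rfl
      simp at hq
      omega
    rw [hq]
    exact Nat.le_self_pow hf p
  obtain ⟨g, rfl⟩ := QuotientGroup.mk_surjective g
  set! A : Matrix (Fin n) (Fin n) F := ((g : Matrix.SpecialLinearGroup (Fin n) F) : Matrix (Fin n) (Fin n) F) with hA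
  let K := AlgebraicClosure F
  have hCP : CharP K p := charP_of_injective_algebraMap (algebraMap F K).injective p
  set! Y : Matrix (Fin n) (Fin n) K := A.map (algebraMap F K) with hY
  have hdetA : A.det = 1 := (g : Matrix.SpecialLinearGroup (Fin n) F).2
  have hdet : Y.det = 1 := by
    rw [hY, show A.map (algebraMap F K) = (algebraMap F K).mapMatrix A from rfl, ← RingHom.map_det, hdetA, map_one]
  have hY1 : (Y.map (iterateFrobenius K p f)).charpoly = (Y⁻¹).charpoly := by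
    have h1 := H149.PGU.charpoly_unitary hq g.2
    rw [← hA] at h1
    have h2 : Y.map (iterateFrobenius K p f) = (A.map (iterateFrobenius F p f)).map (algebraMap F K) := by
      ext i j
      simp [hY, Matrix.map_apply, iterateFrobenius_def]
    have h3 : Y⁻¹ = (A⁻¹).map (algebraMap F K) := by
      apply Matrix.inv_eq_right_inv
      rw [hY, ← Matrix.map_mul, Matrix.mul_nonsing_inv _ (by rw [hdetA]; exact isUnit_one), Matrix.map_one _ (map_zero _) (map_one _)]
    rw [h2, h3, Matrix.charpoly_map, h1, Matrix.charpoly_map]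
  have hzp : (zp (-(q : ℤ)) : K → K) = sg' q := by
    funext x
    rw [zp, zpow_neg, zpow_natCast, sg']
  have hinj : Injective (zp (-(q : ℤ)) : K → K) := by
    rw [hzp]
    exact sg'_injective hq
  have hcs : ∀ x, Y.charpoly.roots.count (zp (-(q : ℤ)) x) = Y.charpoly.roots.count x := by
    intro x
    rw [hzp]
    exact count_stable hq hdet hY1 x
  obtain ⟨E, hE0, ⟨z, hz⟩, hE⟩ := window_mat (par_minus hq3) hpq hp2 hn h3 A hdetA hinj hcs
  refine ⟨E, hE0, ?_, hE⟩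
  apply orderOf_dvd_of_pow_eq_one
  rw [← QuotientGroup.mk_pow, QuotientGroup.eq_one_iff, Subgroup.mem_center_iff]
  intro h
  apply Subtype.ext
  apply Subtype.ext
  show ((h : Matrix.SpecialLinearGroup (Fin n) F) : Matrix (Fin n) (Fin n) F) * A ^ E =
    A ^ E * ((h : Matrix.SpecialLinearGroup (Fin n) F) : Matrix (Fin n) (Fin n) F)
  rw [hz, Matrix.mul_smul, Matrix.smul_mul, Matrix.mul_one, Matrix.one_mul]

end

end Cfsg.Agent.R2.Spec.X7
end

-- part: R2/Spec/X7/NC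
section
/-!
# The numerical conditions on the element orders near the isolated number (box X7 of S3435)
-/

set_option autoImplicit false

namespace Cfsg.Agent.R2.Spec.X7

/-- what the `S`-side needs: `R` is the isolated number, `W E` the condition satisfied by the element orders -/
structure NC (p R : ℕ) (W : ℕ → Prop) : Prop where
  hp : p.Prime
  big : R = 61 ∨ R = 121 ∨ R = 521 ∨ R = 547 ∨ R = 781 ∨ R = 1093 ∨ R = 1181 ∨ R = 2101 ∨ 2801 ≤ R
  upper : ∀ E : ℕ, 0 < E → W E → 10 * E ≤ 14 * R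
  near : ∀ E : ℕ, 0 < E → W E → E ≠ R → E ≤ R + 2 → R ≤ E + 2 → False
  neg : ∀ E E' : ℕ, 0 < E' → W E → W E' → 7 * R < 10 * E' → E' < E → E < R →
    23 * ((R : ℤ) - E) < 10 * (R - E') ∨ (10 * ((R : ℤ) - E') ≤ 11 * (R - E) ∧ ((E : ℤ) - E') * (R - E') ≤ R)
  posi : ∀ E E' : ℕ, 0 < E' → W E → W E' → E' < E → R < E' →
    (4 * ((E : ℤ) - R) ≤ 5 * (E' - R) ∧ ((E : ℤ) - E') * (E - R) ≤ 2 * R) ∨ 10 * ((E' : ℤ) - R) ≤ E - R
  opp : ∀ E E' : ℕ, 0 < E' → W E → W E' → 7 * R < 10 * E' → E' < R → R < E →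
    3 * ((R : ℤ) - E') ≤ E - R ∨ 4 * ((E : ℤ) - R) ≤ R - E'
  lT : ∀ u M κ E : ℕ, ¬ p ∣ u → 3 ≤ u → 3 ≤ M → R * κ = u ^ M - 1 → κ * E = (u ^ (M - 1) - 1) * (u - 1) → 0 < E → W E →
    R = 61 ∧ u = 13 ∧ M = 3
  two : ∀ z E : ℕ, 1 ≤ z → R + 1 = 4 * z → E = 3 * (z - 1) → W E → False
  mT : ∀ v M E : ℕ, 0 < v → 4 ≤ M → R * v = (v + 1) ^ M - 1 → E * v ^ 2 = (v + 1) ^ (M + 1) - 1 → 0 < E → W E → False
  uE : ∀ u M κ E : ℕ, ¬ p ∣ u → 2 ≤ u → 6 ≤ M → R * κ = u ^ M - 1 → κ * E = (u ^ (M - 1) + 1) * (u + 1) → 0 < E → W E →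
    False
  uO : ∀ u M κ E : ℕ, ¬ p ∣ u → 2 ≤ u → 4 ≤ M → 0 < κ → R * κ = u ^ M + 1 → κ * E = (u ^ (M - 1) - 1) * (u + 1) → 0 < E →
    W E → False
  uT : ∀ u g E : ℕ, 9 ≤ u → (R : ℤ) * g = (u : ℤ) ^ 2 - u + 1 → (E : ℤ) * g = (u : ℤ) ^ 2 - 1 → 0 < E → W E →
    R = 547 ∧ u = 41
  mO : ∀ u m E : ℕ, ¬ p ∣ u → 3 ≤ u → 4 ≤ m → Even m → 2 * R = u ^ m + 1 → 4 * E = (u ^ (m - 1) - 1) * (u + 1) → 0 < E →
    W E → False
  d3 : ∀ E : ℕ, p ≠ 3 → 9 * ((E : ℤ) - R) = R - 25 → W E → False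
  d5 : ∀ E : ℕ, 5 * ((E : ℤ) - R) = R + 9 → W E → False
  p3 : ∀ E : ℕ, p ≠ 3 → 3 * E = 2 * R + 4 → W E → False
  half : ∀ E : ℕ, R.Prime → 2 * E = R + 1 → W E → R = 61 ∨ R = 1181 ∨ R = 547
  c1093 : R = 1093 → p = 3
  n13 : ¬ 13 ∣ R

/-- the cross product -/
theorem cross {w R κ δ D K A B : ℤ} (h1 : w * δ = D) (h2 : w * R = K) (h3 : R * κ = A) (h4 : κ * δ = B) :
    D * A = K * B := by
  rw [← h1, ← h2, ← h3, ← h4]
  ring

end Cfsg.Agent.R2.Spec.X7
end

-- part: R2/Spec/X7/FamA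
section
/-!
# Elimination of the simple groups with an isolated number `R`: classical groups
-/

set_option autoImplicit false

namespace Cfsg.Agent.R2.Spec.X7

open Cfsg Cfsg.Agent.H182.Orth Cfsg.Agent.H182.Sign Cfsg.Agent.H403.Classify Cfsg.Agent.H360.Iso Matrix
open Cfsg.Agent.LieClassical.OrthForms
open Cfsg.Agent.H437.Win (two_primes exists_minus_elt)

/-- the situation of a composition factor of a group isospectral to `PSL_n(q)`, `PSU_n(q)`, `n = 5, 7` -/
structure SC (T : Type*) [Group T] (p R : ℕ) (W : ℕ → Prop) : Prop where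
  iso : IsoN T R
  nc : NC p R W
  win : ∀ x : T, W (orderOf x)
  s13 : R = 61 → ¬ 13 ∣ Nat.card T
  s31 : R = 61 → ¬ 31 ∣ Nat.card T
  s197 : R = 1181 → ¬ 197 ∣ Nat.card T
  s41 : R = 547 → ¬ 41 ∣ Nat.card T
  s137 : R = 547 → ¬ 137 ∣ Nat.card T

namespace SC

variable {T : Type*} [Group T] {p R : ℕ} {W : ℕ → Prop}

theorem congr {T' : Type*} [Group T'] (h : SC T p R W) (e : T ≃* T') : SC T' p R W := by
  refine ⟨h.iso.congr e, h.nc, ?_, ?_, ?_, ?_, ?_, ?_⟩
  · intro x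
    have h1 := h.win (e.symm x)
    rwa [show orderOf (e.symm x) = orderOf x from orderOf_injective e.symm.toMonoidHom e.symm.injective x] at h1
  · rw [← Nat.card_congr e.toEquiv]; exact h.s13
  · rw [← Nat.card_congr e.toEquiv]; exact h.s31
  · rw [← Nat.card_congr e.toEquiv]; exact h.s197
  · rw [← Nat.card_congr e.toEquiv]; exact h.s41
  · rw [← Nat.card_congr e.toEquiv]; exact h.s137

/-- the window condition for an element order -/
theorem wd (h : SC T p R W) {E : ℕ} (he : ∃ x : T, orderOf x = E) : W E := by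
  obtain ⟨x, rfl⟩ := he
  exact h.win x

theorem R61 (h : SC T p R W) : 61 ≤ R := by
  have := h.nc.big
  omega

/-- orders which are small multiples of an element order -/
theorem upper [Finite T] (h : SC T p R W) {E : ℕ} (he : ∃ x : T, orderOf x = E) : 10 * E ≤ 14 * R := by
  have h1 := h.wd he
  obtain ⟨x, rfl⟩ := he
  exact h.nc.upper _ (orderOf_pos x) h1

theorem p_ne_three (h : SC T p R W) {u k : ℕ} (hpu : ¬ p ∣ u) (hu : u = 3 ^ k) (hk : 1 ≤ k) : p ≠ 3 := by
  rintro rfl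
  exact hpu (hu ▸ dvd_pow_self 3 (by omega))

/-- **`PSL_m(u)`, `m ≥ 3`.** -/
theorem not_psl {F : Type} [Field F] [Fintype F] {m : ℕ} (hm : 3 ≤ m) (hpu : ¬ p ∣ Nat.card F)
    (h : SC (ProjectiveSpecialLinearGroup (Fin m) F) p R W) : False := by
  have hu : 2 ≤ Nat.card F := Finite.one_lt_card
  have hR5 := h.R61
  have hR0 : 0 < R := by omega
  rcases psl_row hm h.iso with ⟨h1, x, hx⟩ | ⟨h0, h1, x, hx⟩
  · -- first row
    have hW := h.win x
    have hxpos := orderOf_pos x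
    generalize orderOf x = E at hx hW hxpos
    obtain ⟨u, hud⟩ : ∃ u, u = Nat.card F := ⟨_, rfl⟩
    rw [← hud] at h1 hx hu hpu
    have hg0 : 0 < Nat.gcd m (u - 1) := Nat.gcd_pos_of_pos_left _ (by omega)
    have hgv : Nat.gcd m (u - 1) ≤ u - 1 := Nat.gcd_le_right _ (by omega)
    generalize hg : Nat.gcd m (u - 1) = g at h1 hx hg0 hgv
    rcases Nat.lt_or_ge u 3 with hu2 | hu3
    · -- `u = 2`
      have hu2' : u = 2 := by omega
      have hg1 : g = 1 := by omega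
      rw [hu2', hg1] at h1
      norm_num at h1
      rcases Nat.even_or_odd m with hme | hmo
      · -- `3 ∣ R`
        apply h.iso.not_three_dvd
        rw [h1]
        obtain ⟨k, hk⟩ := hme
        rw [hk, ← two_mul, pow_mul]
        have := Nat.sub_dvd_pow_sub_pow (2 ^ 2) 1 k
        rw [one_pow] at this
        exact this
      · obtain ⟨k, rfl⟩ : ∃ k, m = 2 + k := ⟨m - 2, by omega⟩
        have hk : Odd k := by
          rcases Nat.even_or_odd k with h4 | h4
          · exact absurd hmo (Nat.not_odd_iff_even.2 ((by decide : Even 2).add h4))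
          · exact h4
        have hE := exists_two (F := F) (by rw [← hud, hu2']) (a := 2) (b := k) (by norm_num) (by omega) (by
          norm_num
          rw [Nat.Prime.coprime_iff_not_dvd Nat.prime_three]
          intro hd
          obtain ⟨j, rfl⟩ := hk
          have h5 : 2 ^ (2 * j + 1) % 3 = 2 := by
            rw [pow_succ, pow_mul, Nat.mul_mod, Nat.pow_mod]
            norm_num
          generalize 2 ^ (2 * j + 1) = z at hd h5
          omega)
        have hWE := h.wd hE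
        have e1 : 2 ^ (2 + k) = 4 * 2 ^ k := by rw [pow_add]; norm_num
        rw [e1] at h1
        norm_num at hWE
        generalize 2 ^ k = z at h1 hWE
        exact h.nc.two z (3 * (z - 1)) (by omega) (by omega) rfl hWE
    · have hK : R * (g * (u - 1)) = u ^ m - 1 := by rw [← h1]; ring
      have hKE : (g * (u - 1)) * E = (u ^ (m - 1) - 1) * (u - 1) := by rw [← hx]; ring
      obtain ⟨h2, h3, h4⟩ := h.nc.lT u m (g * (u - 1)) E hpu hu3 hm hK hKE hxpos hW
      -- `u = 13`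
      subst h4
      have h5 := Cfsg.Agent.S0243.result (F := F) (q := 13) (by rw [← Nat.card_eq_fintype_card, ← hud, h3]) 3 (by norm_num)
      have h6 : 13 ∣ ∏ i : Fin 3, (13 ^ 3 - 13 ^ (i : ℕ)) := by
        rw [Fin.prod_univ_three]
        norm_num
      rw [← h5] at h6
      have hp : Nat.Prime 13 := by norm_num
      refine h.s13 h2 ?_
      rcases (hp.dvd_mul).1 h6 with h7 | h7
      · exfalso
        revert h7
        norm_num
      · rcases (hp.dvd_mul).1 h7 with h8 | h8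
        · exfalso
          revert h8
          norm_num
        · exact h8
  · -- second row
    have hW := h.win x
    have hxpos := orderOf_pos x
    generalize orderOf x = E at hx hW hxpos
    obtain ⟨u, hud⟩ : ∃ u, u = Nat.card F := ⟨_, rfl⟩
    rw [← hud] at h0 h1 hx hu hpu
    obtain ⟨v, rfl⟩ : ∃ v, u = v + 1 := ⟨u - 1, by omega⟩
    rw [Nat.add_sub_cancel] at h0 h1 hx
    obtain ⟨M, rfl⟩ : ∃ M, m = M + 1 := ⟨m - 1, by omega⟩
    rw [Nat.add_sub_cancel] at h1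
    have hv0 : 0 < v := by omega
    have hvm := Nat.le_of_dvd (by omega) h0
    have hM4 : 4 ≤ M := by
      by_contra hcon
      have hM3 : M = 2 ∨ M = 3 := by omega
      rcases hM3 with hM3 | hM3
      · rw [hM3] at h1 hvm
        have h3 : (v + 1) ^ 2 ≤ 4 ^ 2 := Nat.pow_le_pow_left (by omega) 2
        have h4 : R * 1 ≤ R * v := Nat.mul_le_mul_left _ hv0
        omega
      · rw [hM3] at h1 hvm h0
        have hv4 : v = 1 ∨ v = 2 ∨ v = 4 := by
          have : v = 1 ∨ v = 2 ∨ v = 3 ∨ v = 4 := by omega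
          rcases this with h3 | h3 | h3 | h3
          · exact Or.inl h3
          · exact Or.inr (Or.inl h3)
          · rw [h3] at h0; revert h0; norm_num
          · exact Or.inr (Or.inr h3)
        rcases hv4 with h3 | h3 | h3 <;> rw [h3] at h1 <;> norm_num at h1 <;> omega
    exact h.nc.mT v M E hv0 hM4 h1 hx hxpos hW

/-- twin orders -/
theorem not_twin [Finite T] (h : SC T p R W) {A B : ℕ} (hAB : A + 1 = B ∨ A + 2 = B)
    (ht : Twin T R A B) : False := by
  obtain ⟨h1, hA, hB⟩ := ht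
  have hR := h.R61
  rcases h1 with h1 | h1
  · exact h.nc.near B (by omega) (h.wd hB) (by omega) (by omega) (by omega)
  · exact h.nc.near A (by omega) (h.wd hA) (by omega) (by omega) (by omega)

theorem not_psp {F : Type} [Field F] [Fintype F] {m : ℕ} (hm : 2 ≤ m) (h : SC (PSp m F) p R W) : False := by
  have hfin : Finite (PSp m F) := inferInstance
  obtain ⟨A, B, hAB, ht⟩ := psp hm h.iso
  exact h.not_twin hAB ht

theorem not_omegaOdd {F : Type} [Field F] [Fintype F] {m : ℕ} (hm : 3 ≤ m) (ho : Odd (Fintype.card F))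
    (h : SC (POmega F (quadFormOdd m F)) p R W) : False := by
  have hfin : Finite (POmega F (quadFormOdd m F)) := inferInstance
  obtain ⟨A, B, hAB, ht⟩ := omegaOdd (by rwa [Nat.card_eq_fintype_card]) hm h.iso
  exact h.not_twin hAB ht

/-- **`PΩ⁺_{2m}(u)`.** -/
theorem not_plus {F : Type} [Field F] [Fintype F] {m : ℕ} (hm : 4 ≤ m) (hpu : ¬ p ∣ Nat.card F)
    (h : SC (POmega F (quadFormPlus m F)) p R W) : False := by
  have hcard := Cfsg.Agent.S0293.result (F := F) rfl m hm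
  simp only [← Nat.card_eq_fintype_card] at hcard
  have h' := h
  rw [← coe_plusForm] at hcard h'
  have hu : 2 ≤ Nat.card F := Finite.one_lt_card
  have hR5 := h.R61
  have hrow := plus_row (sg_plusForm (F := F) m) hm hcard h'.iso
  obtain ⟨u, hud⟩ : ∃ u, u = Nat.card F := ⟨_, rfl⟩
  rw [← hud] at hrow hu hpu
  have hmul : u * u ^ (m - 1) = u ^ m := by rw [← pow_succ']; congr 1; omega
  rcases hrow with ⟨hmo, h0, h1, x, hx⟩ | ⟨hmo, huo, h1, x, hx⟩ | ⟨hme, h0, h1, x, hx⟩ | ⟨hme, h0, h1, x, hx⟩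
  · have hup := h'.upper ⟨x, hx⟩
    have e1 : 2 ^ m = 2 * 2 ^ (m - 1) := by rw [← pow_succ']; congr 1; omega
    rw [e1] at h1
    omega
  · have hW := h'.win x
    have hxpos := (orderOf_pos x :)
    have hup := h'.nc.upper _ hxpos hW
    generalize orderOf x = E at hx hW hxpos hup
    have hcase : u = 3 ∨ u = 5 ∨ 7 ≤ u := by
      obtain ⟨k, hk⟩ := huo
      omega
    have hone : 1 ≤ u ^ (m - 1) := Nat.one_le_pow _ _ (by omega)
    rcases hcase with hu3 | hu5 | hu7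
    · -- `u = 3`
      have hp3 : p ≠ 3 := h.p_ne_three (u := u) (k := 1) hpu (by rw [pow_one]; exact hu3) le_rfl
      rw [hu3] at h1 hx hmul hone
      norm_num only [] at h1 hx
      rw [← hmul] at h1
      exact h.nc.p3 E hp3 (by (clear * - hone h1 hx; omega)) hW
    · -- `u = 5`
      rw [hu5] at h1 hx hmul hone
      norm_num only [] at h1 hx
      rw [← hmul] at h1
      exact h.nc.d5 E (by omega) hW
    · -- `7 ≤ u`
      obtain ⟨z, hz⟩ : ∃ z, u ^ (m - 1) = z + 1 := ⟨u ^ (m - 1) - 1, by omega⟩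
      rw [hz] at hx hmul
      rw [← hmul] at h1
      obtain ⟨y, rfl⟩ : ∃ y, u = y + 7 := ⟨u - 7, by omega⟩
      have e1 : y + 7 - 1 = y + 6 := by omega
      have e2 : (y + 7) * (z + 1) - 1 = (y + 7) * z + (y + 6) := by
        have : (y + 7) * (z + 1) = (y + 7) * z + (y + 6) + 1 := by ring
        (clear * - this; omega)
      rw [e1, e2] at h1
      have h3 : 40 * (E * (y + 6)) ≤ 56 * (R * (y + 6)) := by nlinarith only [hup]
      have h4 : 40 * (E * (y + 6)) = 10 * ((z + 1 + 1) * (y + 7 + 1)) * (y + 6) := by rw [← hx]; ring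
      rw [h4, h1] at h3
      ring_nf at h3
      linarith only [h3, Nat.zero_le (y * z), Nat.zero_le (y ^ 2 * z), _root_.sq_nonneg (↑y : ℤ), _root_.Nat.cast_nonneg (α := ℤ) (z), _root_.Nat.cast_nonneg (α := ℤ) (y)]
  · have hup := h'.upper ⟨x, hx⟩
    have e1 : 2 ^ m = 2 * 2 ^ (m - 1) := by rw [← pow_succ']; congr 1; omega
    rw [e1] at hup
    (clear * - hR5 h1 hup; omega)
  · have hW := h'.win x
    have hxpos := (orderOf_pos x :)
    generalize orderOf x = E at hx hW hxpos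
    exact h.nc.near E hxpos hW (by omega) (by omega) (by omega)

/-- **`PΩ⁻_{2m}(u)`.** -/
theorem not_minus {F : Type} [Field F] [Fintype F] {m : ℕ} (hm : 4 ≤ m) {a b : F}
    (hab : ∀ z₁ z₂ : F, z₁ ^ 2 + a * z₁ * z₂ + b * z₂ ^ 2 = 0 → z₁ = 0 ∧ z₂ = 0) (hpu : ¬ p ∣ Nat.card F)
    (h : SC (POmega F (quadFormMinus (m - 1) F a b)) p R W) : False := by
  have hcard := Cfsg.Agent.S0294.result (F := F) rfl m hm a b hab
  have hbd := (Cfsg.Agent.S2265.result (F := F) m).2.2 hm a b hab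
  simp only [← Nat.card_eq_fintype_card] at hcard hbd
  have hs := sg_minusForm (F := F) (m - 1) hab
  rw [Nat.sub_add_cancel (by omega)] at hs
  have h' := h
  rw [← coe_minusForm] at hcard h' hbd
  have hu : 2 ≤ Nat.card F := Finite.one_lt_card
  have hR5 := h.R61
  have hrow := minus_row hs hm hcard h'.iso
  have helt := fun h1 h2 => exists_minus_elt hs hm h1 h2
  obtain ⟨u, hud⟩ : ∃ u, u = Nat.card F := ⟨_, rfl⟩
  rw [← hud] at hrow helt hu hpu hbd
  have hmul : u * u ^ (m - 1) = u ^ m := by rw [← pow_succ']; congr 1; omega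
  have hmul2 : u ^ 2 * u ^ (m - 2) = u ^ m := by rw [← pow_add]; congr 1; omega
  rcases hrow with ⟨hme, -, h1, x, hx⟩ | ⟨hme, huo, h1, x, hx⟩ | ⟨hmo, huo, h1, -⟩ | ⟨hmo, h0, h1, x, hx⟩ | ⟨h0, A, B, a, b, -, -, hA, hB, hcase, h1⟩
  · -- `m` even, `u` even
    have hW := h'.win x
    have hxpos := (orderOf_pos x :)
    rw [hx] at hW hxpos
    exact h.nc.uO u m 1 _ hpu hu hm one_pos (by rw [mul_one, h1]) (by rw [one_mul]) hxpos hW
  · -- `m` even, `u` odd
    have hu3 : 3 ≤ u := by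
      obtain ⟨k, hk⟩ := huo
      omega
    exact h.nc.mO u m _ hpu hu3 hm hme h1 hx ((orderOf_pos x :)) (h'.win x)
  · -- `m` odd, `u` odd
    obtain ⟨x, hx⟩ := helt hmo huo
    have hW := h'.win x
    have hxpos := orderOf_pos x
    have hup := h'.nc.upper _ hxpos hW
    generalize orderOf x = E at hx hW hxpos hup
    have hu3 : 3 ≤ u := by
      obtain ⟨k, hk⟩ := huo
      omega
    have hone : 1 ≤ u ^ (m - 2) := Nat.one_le_pow _ _ (by omega)
    have hbig : 27 ≤ u ^ (m - 2) := by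
      calc 27 = 3 ^ 3 := by norm_num
        _ ≤ u ^ 3 := Nat.pow_le_pow_left hu3 3
        _ ≤ _ := Nat.pow_le_pow_right (by omega) (by
          obtain ⟨k, hk⟩ := hmo
          omega)
    rcases Nat.eq_or_lt_of_le hu3 with hu3' | hu4
    · -- `u = 3`
      have hp3 : p ≠ 3 := h.p_ne_three (u := u) (k := 1) hpu (by rw [pow_one]; exact hu3'.symm) le_rfl
      rw [← hu3'] at h1 hx hmul2
      norm_num only [] at h1 hx
      rw [← hmul2] at h1
      have hcR : 9 * ((E : ℤ) - R) = R - 25 := by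
        have hone3 : 1 ≤ 3 ^ (m - 2) := Nat.one_le_pow _ _ (by omega)
        (clear * - h1 hx; solve | lia | omega)
      exact h.nc.d3 E hp3 hcR hW
    · have hu5 : 5 ≤ u := by
        obtain ⟨k, hk⟩ := huo
        omega
      obtain ⟨z, hz⟩ : ∃ z, u ^ (m - 2) = z + 1 := ⟨u ^ (m - 2) - 1, by omega⟩
      rw [hz] at hx hbig hmul2
      rw [Nat.add_sub_cancel] at hx
      rw [← hmul2] at h1
      have h3 : 40 * (E * (u + 1)) ≤ 56 * (R * (u + 1)) := by nlinarith only [hup]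
      have h4 : 40 * (E * (u + 1)) = 10 * ((u ^ 2 + 1) * z) * (u + 1) := by rw [← hx]; ring
      rw [h4, h1] at h3
      obtain ⟨y, rfl⟩ : ∃ y, u = y + 5 := ⟨u - 5, by omega⟩
      obtain ⟨t, rfl⟩ : ∃ t, z = t + 26 := ⟨z - 26, by omega⟩
      ring_nf at h3
      linarith only [h3, Nat.zero_le (y * t), Nat.zero_le (y ^ 2 * t), Nat.zero_le (y ^ 3 * t), Nat.zero_le (y ^ 3), _root_.sq_nonneg (↑y : ℤ), _root_.Nat.cast_nonneg (α := ℤ) (y), _root_.Nat.cast_nonneg (α := ℤ) (t)]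
  · -- `m` odd, `u = 2`
    have hup := h'.upper ⟨x, hx⟩
    have e1 : 2 ^ m = 2 * 2 ^ (m - 1) := by rw [← pow_succ']; congr 1; omega
    rw [e1] at hup
    omega
  · -- `u = 3`
    rw [h0] at hbd
    have e1 : 3 ^ m = 3 * 3 ^ (m - 1) := by rw [← pow_succ']; congr 1; omega
    have e2 : 3 ^ (m - 1) = 3 * 3 ^ (m - 2) := by rw [← pow_succ']; congr 1; omega
    rcases h1 with ⟨h1, x, hx⟩ | h1
    · have hup := h'.upper ⟨x, hx⟩
      rcases hcase with ⟨-, ha, hb⟩ | ⟨-, ha, hb⟩ <;> rw [ha] at hA <;> rw [hb] at hB <;> (clear * - hR5 hA hB e1 e2 h1 hup; omega)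
    · obtain ⟨x, hx⟩ := h'.iso.elt
      have h2 := hbd x
      rw [hx, h1] at h2
      have h3 : 8 * (A * B) = (3 ^ m + 1) * (3 ^ (m - 1) + 1) := by
        rw [hA, hB]
        rcases hcase with ⟨-, ha, hb⟩ | ⟨-, ha, hb⟩ <;> rw [ha, hb] <;> ring
      have h4 : 3 ^ (m + 1) = 3 * 3 ^ m := pow_succ' _ _
      norm_num at h2
      rw [h4] at h2
      have h5 : m ≠ 4 := by
        rintro rfl
        norm_num at h3
        omega
      have h6 : 3 ^ 4 ≤ 3 ^ (m - 1) := Nat.pow_le_pow_right (by norm_num) (by omega)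
      generalize 3 ^ (m - 1) = z at *
      rw [e1] at h2 h3
      nlinarith only [h2, h3, h6]

end SC

end Cfsg.Agent.R2.Spec.X7
end

-- part: R2/Spec/X7/FamB
section
/-!
# Elimination of `PSU_m(u)`, `PSL_2(u)`
-/

set_option autoImplicit false

namespace Cfsg.Agent.R2.Spec.X7

open Cfsg Cfsg.Agent.H360.Iso Cfsg.Agent.H948.UProd Cfsg.Agent.H948.UMain

namespace SC

variable {p R : ℕ} {W : ℕ → Prop}

/-- the numbers `R K = ph u (M - 1)`, `E = ph u (M - 2) / g` -/
theorem uType {T : Type*} [Group T] (h : SC T p R W) {u M g E : ℕ} (hu : 2 ≤ u) (hpu : ¬ p ∣ u) (hM : 5 ≤ M)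
    (hg0 : 0 < g) (hK : R * g * (u + 1) = ph u (M - 1)) (hE : E * g = ph u (M - 2)) (hE0 : 0 < E) (hW : W E) :
    False := by
  have hK0 : 0 < g * (u + 1) := Nat.mul_pos hg0 (by omega)
  rcases Nat.even_or_odd M with hMe | hMo
  · have ho1 : ¬ Even (M - 1) := by
      rw [Nat.not_even_iff_odd]
      obtain ⟨k, hk⟩ := hMe
      exact ⟨k - 1, by omega⟩
    have he2 : Even (M - 2) := by
      obtain ⟨k, hk⟩ := hMe
      exact ⟨k - 1, by omega⟩
    rw [ph_odd ho1, show M - 1 + 1 = M by omega] at hK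
    rw [ph_even he2, show M - 2 + 1 = M - 1 by omega] at hE
    have h1 : R * (g * (u + 1)) = u ^ M - 1 := by rw [← hK]; ring
    have h2 : g * (u + 1) * E = (u ^ (M - 1) + 1) * (u + 1) := by rw [← hE]; ring
    have hM6 : 6 ≤ M := by
      obtain ⟨k, hk⟩ := hMe
      omega
    exact h.nc.uE u M _ E hpu hu hM6 h1 h2 hE0 hW
  · have ho1 : Even (M - 1) := by
      obtain ⟨k, hk⟩ := hMo
      exact ⟨k, by omega⟩
    have he2 : ¬ Even (M - 2) := by
      rw [Nat.not_even_iff_odd]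
      obtain ⟨k, hk⟩ := hMo
      exact ⟨k - 1, by omega⟩
    rw [ph_even ho1, show M - 1 + 1 = M by omega] at hK
    rw [ph_odd he2, show M - 2 + 1 = M - 1 by omega] at hE
    have h1 : R * (g * (u + 1)) = u ^ M + 1 := by rw [← hK]; ring
    have h2 : g * (u + 1) * E = (u ^ (M - 1) - 1) * (u + 1) := by rw [← hE]; ring
    exact h.nc.uO u M _ E hpu hu (by omega) hK0 h1 h2 hE0 hW

/-- **`PSU_m(u)`** -/
theorem not_psu {F : Type} [Field F] [Fintype F] {m u : ℕ} (hF : Fintype.card F = u ^ 2) (hm : 3 ≤ m)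
    (h32 : ¬ (m = 3 ∧ u = 2)) (hpu : ¬ p ∣ u) (h : SC (PSU m F u) p R W) : False := by
  have hu : 2 ≤ u := LieClassical.HermBasic.two_le hF
  have hR5 := h.R61
  rcases psu_row hF hm h32 h.iso with ⟨h1, x, hx⟩ | ⟨hm4, h0, h1, h2⟩ | ⟨-, -, h1⟩ | ⟨-, -, h1⟩
  · have hW := h.win x
    have hxpos := (orderOf_pos x :)
    generalize orderOf x = E at hx hW hxpos
    have hg0 : 0 < Nat.gcd m (u + 1) := Nat.gcd_pos_of_pos_left _ (by omega)
    have hgv : Nat.gcd m (u + 1) ≤ u + 1 := Nat.gcd_le_right _ (by omega)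
    have hgm : Nat.gcd m (u + 1) ≤ m := Nat.gcd_le_left _ (by omega)
    generalize hg : Nat.gcd m (u + 1) = g at h1 hx hg0 hgv hgm
    rcases Nat.lt_or_ge m 5 with hm5 | hm5
    · rcases Nat.eq_or_lt_of_le hm with hm3 | hm4
      · -- `m = 3`
        subst hm3
        rw [ph_even (by decide)] at h1
        rw [ph_odd (by decide)] at hx
        obtain ⟨v, rfl⟩ : ∃ v, u = v + 1 := ⟨u - 1, by omega⟩
        have hRg : R * g = v ^ 2 + v + 1 := by
          apply Nat.eq_of_mul_eq_mul_right (show 0 < v + 1 + 1 by omega)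
          rw [h1]
          ring
        have hRZ : (R : ℤ) * g = ((v + 1 : ℕ) : ℤ) ^ 2 - ((v + 1 : ℕ) : ℤ) + 1 := by
          have h5 : ((R * g : ℕ) : ℤ) = ((v ^ 2 + v + 1 : ℕ) : ℤ) := by rw [hRg]
          push_cast at h5 ⊢
          linarith only [hRg]
        have hEZ : (E : ℤ) * g = ((v + 1 : ℕ) : ℤ) ^ 2 - 1 := by
          have h3 : ((E * g : ℕ) : ℤ) = (((v + 1) ^ (3 - 2 + 1) - 1 : ℕ) : ℤ) := by rw [hx]
          rw [Nat.cast_sub (Nat.one_le_pow _ _ (by omega))] at h3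
          push_cast at h3 ⊢
          exact h3
        have hv : 8 ≤ v := by
          by_contra hcon
          have h3 : v ≤ 7 := by omega
          have h4 : v ^ 2 ≤ 7 ^ 2 := Nat.pow_le_pow_left h3 2
          have h5 : R ≤ R * g := Nat.le_mul_of_pos_right _ hg0
          omega
        obtain ⟨hR547, hu41⟩ := h.nc.uT (v + 1) g E (by omega) hRZ hEZ hxpos hW
        refine h.s41 hR547 ?_
        have hcard := Cfsg.Agent.S0280.result (F := F) (q := v + 1) hF 3 (by norm_num)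
        have h41 : 41 ∣ Nat.gcd 3 (v + 1 + 1) * ((v + 1 + 1) * Nat.card (PSU 3 F (v + 1))) := by
          rw [hcard]
          refine Dvd.dvd.mul_right ?_ _
          rw [hu41]
          norm_num
        have hc1 : Nat.Coprime 41 (Nat.gcd 3 (v + 1 + 1)) := by rw [show v + 1 + 1 = 42 by omega]; decide
        have hc2 : Nat.Coprime 41 (v + 1 + 1) := by rw [show v + 1 + 1 = 42 by omega]; decide
        exact hc2.dvd_of_dvd_mul_left (hc1.dvd_of_dvd_mul_left h41)
      · -- `m = 4`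
        have hm4 : m = 4 := by omega
        subst hm4
        rw [ph_odd (by decide)] at h1
        obtain ⟨v, rfl⟩ : ∃ v, u = v + 1 := ⟨u - 1, by omega⟩
        have hRg : R * g = v * ((v + 1) ^ 2 + 1) := by
          apply Nat.eq_of_mul_eq_mul_right (show 0 < v + 1 + 1 by omega)
          rw [h1]
          have : (v + 1) ^ (4 - 1 + 1) = v * ((v + 1) ^ 2 + 1) * (v + 1 + 1) + 1 := by ring
          omega
        have hE2 := exists_blockU hF (n := 4) (k := 2) (by norm_num) (by norm_num)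
        rw [ph_odd (by decide)] at hE2
        have hcop : Nat.Coprime R v := by
          refine Nat.coprime_of_dvd fun r hr hrR hrv => ?_
          have h3 : v * (v + 2) = (v + 1) ^ (2 - 1 + 1) - 1 := by
            have : (v + 1) ^ (2 - 1 + 1) = v * (v + 2) + 1 := by ring
            omega
          have h4 : r ∣ (v + 1) ^ (2 - 1 + 1) - 1 := by rw [← h3]; exact hrv.mul_right _
          have h5 := h.iso.dvd_of_elt hE2 hr hrR h4
          rw [← h3] at h5
          have h6 : v * (v + 2) ∣ v * ((v + 1) ^ 2 + 1) := by rw [← hRg]; exact h5.mul_right _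
          have h7 := Nat.dvd_of_mul_dvd_mul_left (by omega) h6
          have h8 : (v + 1) ^ 2 + 1 = (v + 2) * v + 2 := by ring
          rw [h8, Nat.dvd_add_right (dvd_mul_right _ _)] at h7
          have := Nat.le_of_dvd (by norm_num) h7
          omega
        have hRd : R ∣ (v + 1) ^ 2 + 1 := by
          refine hcop.dvd_of_dvd_mul_left ?_
          rw [← hRg]
          exact dvd_mul_right _ _
        obtain ⟨j, hj⟩ := hRd
        have hj0 : 0 < j := by
          rcases Nat.eq_zero_or_pos j with h3 | h3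
          · rw [h3, mul_zero] at hj; omega
          · exact h3
        have hvj : g = v * j := by
          apply Nat.eq_of_mul_eq_mul_left (show 0 < R by omega)
          rw [hRg, hj]
          ring
        have hv4 : v ≤ 4 := by
          have : v ≤ v * j := Nat.le_mul_of_pos_right _ hj0
          omega
        have h3 : (v + 1) ^ 2 ≤ 5 ^ 2 := Nat.pow_le_pow_left (by omega) 2
        have h4 : R ≤ R * j := Nat.le_mul_of_pos_right _ hj0
        omega
    · exact h.uType hu hpu hm5 hg0 h1 hx hxpos hW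
  · -- second row
    have hum := Nat.le_of_dvd (by omega) h0
    rcases Nat.lt_or_ge m 6 with hm6 | hm6
    · have hm45 : m = 4 ∨ m = 5 := by omega
      rcases hm45 with rfl | rfl
      · have hu3 : u = 3 := by
          have : u = 2 ∨ u = 3 := by omega
          rcases this with h3 | h3
          · rw [h3] at h0; revert h0; norm_num
          · exact h3
        rw [hu3, ph_even (by decide)] at h1
        norm_num at h1
        omega
      · have hu4 : u = 4 := by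
          have : u = 2 ∨ u = 3 ∨ u = 4 := by omega
          rcases this with h3 | h3 | h3
          · rw [h3] at h0; revert h0; norm_num
          · rw [h3] at h0; revert h0; norm_num
          · exact h3
        rw [hu4, ph_odd (by decide)] at h1
        norm_num at h1
        omega
    · obtain ⟨x, hx⟩ := exists_blockU hF (n := m) (k := m - 2) (by omega) (by omega)
      have hW := h.win x
      have hxpos := (orderOf_pos x :)
      rw [hx] at hW hxpos
      refine h.uType (M := m - 1) (g := 1) hu hpu (by omega) one_pos ?_ ?_ hxpos hW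
      · rw [mul_one, h1, show m - 1 - 1 = m - 2 by omega]
      · rw [mul_one, show m - 2 - 1 = m - 1 - 2 by omega]
  · omega
  · have := h.nc.big
    omega

theorem not_psl2 {F : Type} [Field F] [Fintype F] (h4 : 4 ≤ Fintype.card F)
    (h : SC (Matrix.ProjectiveSpecialLinearGroup (Fin 2) F) p R W) : False := by
  obtain ⟨r, hp⟩ := CharP.exists F
  have hpf : Fact r.Prime := ⟨CharP.char_is_prime F r⟩
  obtain ⟨hA, hB, hk⟩ := psl2_row r h4 h.iso
  have hR5 := h.R61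
  set u := Fintype.card F with hud
  obtain ⟨t, hpr, ht⟩ := FiniteField.card F r
  rw [← hud] at ht
  have ht0 := t.pos
  rcases Nat.even_or_odd u with he | ho
  · have hg : Nat.gcd 2 (u - 1) = 1 := Nat.coprime_two_left.2 (Nat.Even.sub_odd (by omega) he odd_one)
    rw [hg, Nat.div_one, Nat.div_one] at hk
    rw [hg, Nat.div_one] at hA hB
    rcases hk with h1 | h1 | h1
    · exact h.nc.near (u + 1) (by omega) (h.wd hB) (by omega) (by omega) (by omega)
    · exact h.nc.near (u - 1) (by omega) (h.wd hA) (by omega) (by omega) (by omega)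
    · have h2 : r = 2 := by
        have h3 : 2 ∣ r ^ (t : ℕ) := ht ▸ even_iff_two_dvd.1 he
        exact ((Nat.prime_dvd_prime_iff_eq Nat.prime_two hpr).1 (Nat.prime_two.dvd_of_dvd_pow h3)).symm
      omega
  · obtain ⟨a, ha⟩ := ho
    have hg : Nat.gcd 2 (u - 1) = 2 := Nat.gcd_eq_left ⟨a, by omega⟩
    rw [hg] at hk hA hB
    have e1 : (u - 1) / 2 = a := by (clear * - ha; omega)
    have e2 : (u + 1) / 2 = a + 1 := by omega
    rw [e1] at hA hk
    rw [e2] at hB hk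
    rcases hk with h1 | h1 | h1
    · exact h.nc.near (a + 1) (by omega) (h.wd hB) (by omega) (by omega) (by omega)
    · exact h.nc.near a (by omega) (h.wd hA) (by omega) (by omega) (by omega)
    · rcases Nat.lt_or_ge 1 (t : ℕ) with h2 | h2
      · have hfin : Finite (Matrix.ProjectiveSpecialLinearGroup (Fin 2) F) := inferInstance
        have hup := h.upper hB
        have h3 : R ^ 2 ≤ u := by
          rw [ht, h1]
          exact Nat.pow_le_pow_right hpr.pos h2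
        have h6 : 61 * R ≤ R ^ 2 := by
          rw [pow_two]; exact Nat.mul_le_mul_right _ hR5
        omega
      · have h3 : (t : ℕ) = 1 := by omega
        rw [h3, pow_one, ← h1] at ht
        have hRp : R.Prime := by rw [h1]; exact hpr
        have hW := h.wd hB
        have hBd : a + 1 ∣ Nat.card (Matrix.ProjectiveSpecialLinearGroup (Fin 2) F) := by
          obtain ⟨x, hx⟩ := hB
          rw [← hx]
          exact orderOf_dvd_natCard x
        rcases h.nc.half (a + 1) hRp (by omega) hW with h5 | h5 | h5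
        · exact h.s31 h5 (dvd_trans (by rw [show a + 1 = 31 by omega]) hBd)
        · exact h.s197 h5 (dvd_trans ⟨3, by omega⟩ hBd)
        · exact h.s137 h5 (dvd_trans ⟨2, by omega⟩ hBd)

end SC

end Cfsg.Agent.R2.Spec.X7
end

-- part: R2/Spec/X7/LtP
section
/-!
# The equation `(q^n - 1) (z + u - 2) = D (u z - 1)`, `z = u^(M-1)`, for the special numbers `D` of `PSL_n(q)`, `n = 5, 7`
-/

set_option autoImplicit false

namespace Cfsg.Agent.R2.Spec.X7

theorem pos_le {X Y : ℤ} (h : 0 ≤ Y - X) : X ≤ Y := by linarith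

theorem pos_lt {X Y : ℤ} (h : 0 < Y - X) : X < Y := by linarith

/-- the solutions `u` of `z (N u - Φ) = N + (u - 2) Φ`, `u² ≤ z`, lie between `lo` and `hi` -/
theorem trich {N Φ z u lo hi : ℤ} (h : z * (N * u - Φ) = N + (u - 2) * Φ) (hz : u ^ 2 ≤ z) (hu : 2 ≤ u) (hN : 0 < N)
    (hN2 : N < 2 * Φ) (hlo : N * lo ≤ Φ) (hhi : 0 ≤ N * hi - Φ) (hhi' : Φ ≤ hi * (N * hi - Φ)) (h0 : 0 ≤ hi) :
    lo < u ∧ u < hi := by
  have hz0 : 0 ≤ z := (sq_nonneg _).trans hz
  have hΦ : 0 < Φ := by linarith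
  constructor
  · by_contra hcon
    have h1 : N * u ≤ N * lo := mul_le_mul_of_nonneg_left (not_lt.1 hcon) hN.le
    have h2 : z * (N * u - Φ) ≤ 0 := mul_nonpos_of_nonneg_of_nonpos hz0 (by linarith)
    have h3 : 0 ≤ (u - 2) * Φ := mul_nonneg (by linarith) hΦ.le
    linarith
  · by_contra hcon
    have hcon' := not_lt.1 hcon
    have h1 : N * hi ≤ N * u := mul_le_mul_of_nonneg_left hcon' hN.le
    have h2 : u ^ 2 * (N * u - Φ) ≤ z * (N * u - Φ) := mul_le_mul_of_nonneg_right hz (by linarith)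
    have h3 : hi * (N * hi - Φ) ≤ u * (N * u - Φ) := mul_le_mul hcon' (by linarith) hhi (by linarith)
    have h4 : u * Φ ≤ u * (u * (N * u - Φ)) := mul_le_mul_of_nonneg_left (hhi'.trans h3) (by linarith)
    have h5 : u * (u * (N * u - Φ)) = u ^ 2 * (N * u - Φ) := by ring
    linarith

/-- `n = 5`, `D = q⁴ + q - 2` -/
theorem p5D1 {q u z : ℤ} (hq : 3 ≤ q) (hu : 2 ≤ u) (hz : u ^ 2 ≤ z)
    (h : (q ^ 4 + q - 2) * (u * z - 1) = (q ^ 5 - 1) * (z + u - 2)) : u = q := by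
  have h1 : z * ((q ^ 3 + q ^ 2 + q + 2) * u - (q ^ 4 + q ^ 3 + q ^ 2 + q + 1)) =
      (q ^ 3 + q ^ 2 + q + 2) + (u - 2) * (q ^ 4 + q ^ 3 + q ^ 2 + q + 1) := by
    apply mul_left_cancel₀ (show q - 1 ≠ 0 by omega)
    linear_combination h
  obtain ⟨a, rfl⟩ : ∃ a : ℕ, q = a + 3 := ⟨(q - 3).toNat, by omega⟩
  have := trich (lo := (a : ℤ) + 3 - 1) (hi := (a : ℤ) + 3 + 1) h1 hz hu (by clear * -; positivity)
    (pos_lt (by clear * -; ring_nf; positivity)) (pos_le (by clear * -; ring_nf; positivity)) (by clear * -; ring_nf; positivity)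
    (pos_le (by clear * -; ring_nf; positivity)) (by clear * -; positivity)
  omega

/-- `n = 5`, `D = q⁴ + q² - q - 1` -/
theorem p5D1' {q u z : ℤ} (hq : 3 ≤ q) (hu : 2 ≤ u) (hz : u ^ 2 ≤ z)
    (h : (q ^ 4 + q ^ 2 - q - 1) * (u * z - 1) = (q ^ 5 - 1) * (z + u - 2)) : u = q := by
  have h1 : z * ((q ^ 3 + q ^ 2 + 2 * q + 1) * u - (q ^ 4 + q ^ 3 + q ^ 2 + q + 1)) =
      (q ^ 3 + q ^ 2 + 2 * q + 1) + (u - 2) * (q ^ 4 + q ^ 3 + q ^ 2 + q + 1) := by
    apply mul_left_cancel₀ (show q - 1 ≠ 0 by omega)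
    linear_combination h
  obtain ⟨a, rfl⟩ : ∃ a : ℕ, q = a + 3 := ⟨(q - 3).toNat, by omega⟩
  have := trich (lo := (a : ℤ) + 3 - 1) (hi := (a : ℤ) + 3 + 1) h1 hz hu (by clear * -; positivity)
    (pos_lt (by clear * -; ring_nf; positivity)) (pos_le (by clear * -; ring_nf; positivity)) (by clear * -; ring_nf; positivity)
    (pos_le (by clear * -; ring_nf; positivity)) (by clear * -; positivity)
  omega

/-- `n = 5`, `D = q³ + q² - 2` -/
theorem p5D2 {q u z : ℤ} (hq : 3 ≤ q) (hu : 2 ≤ u) (hz : z = u ^ 2 ∨ u ^ 3 ≤ z)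
    (h : (q ^ 3 + q ^ 2 - 2) * (u * z - 1) = (q ^ 5 - 1) * (z + u - 2)) : False := by
  have h1 : z * ((q ^ 2 + 2 * q + 2) * u - (q ^ 4 + q ^ 3 + q ^ 2 + q + 1)) =
      (q ^ 2 + 2 * q + 2) + (u - 2) * (q ^ 4 + q ^ 3 + q ^ 2 + q + 1) := by
    apply mul_left_cancel₀ (show q - 1 ≠ 0 by omega)
    linear_combination h
  have hz2 : u ^ 2 ≤ z := by
    rcases hz with hz | hz
    · exact hz.ge
    · exact le_trans (pow_le_pow_right₀ (by omega) (by norm_num)) hz
  obtain ⟨a, rfl⟩ : ∃ a : ℕ, q = a + 3 := ⟨(q - 3).toNat, by omega⟩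
  have h2 := trich (lo := ((a : ℤ) + 3) ^ 2 - (a + 3) + 1) (hi := ((a : ℤ) + 3) ^ 2 - (a + 3) + 3) h1 hz2 hu (by clear * -; positivity)
    (pos_lt (by clear * -; ring_nf; positivity)) (pos_le (by clear * -; ring_nf; positivity)) (by clear * -; ring_nf; positivity)
    (pos_le (by clear * -; ring_nf; positivity)) (by clear * -; ring_nf; positivity)
  obtain rfl : u = ((a : ℤ) + 3) ^ 2 - (a + 3) + 2 := by omega
  have e1 : (((a : ℤ) + 3) ^ 2 + 2 * (a + 3) + 2) * (((a : ℤ) + 3) ^ 2 - (a + 3) + 2) -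
      (((a : ℤ) + 3) ^ 4 + (a + 3) ^ 3 + (a + 3) ^ 2 + (a + 3) + 1) = (a + 3) ^ 2 + (a + 3) + 3 := by ring
  rw [e1] at h1
  rcases hz with hz | hz
  · subst hz
    have h3 : (a : ℤ) = 0 ∨ (a : ℤ) = 1 ∨ (a : ℤ) = 2 ∨ 3 ≤ (a : ℤ) := by omega
    rcases h3 with h3 | h3 | h3 | h3
    · rw [h3] at h1; norm_num at h1
    · rw [h3] at h1; norm_num at h1
    · rw [h3] at h1; norm_num at h1
    · obtain ⟨b, hb⟩ : ∃ b : ℕ, (a : ℤ) = b + 3 := ⟨(a - 3 : ℤ).toNat, by omega⟩
      rw [hb] at h1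
      have h4 : (0 : ℤ) < ((((b : ℤ) + 3 + 3) ^ 2 + 2 * (b + 3 + 3) + 2) + (((b : ℤ) + 3 + 3) ^ 2 - (b + 3 + 3) + 2 - 2) *
          (((b : ℤ) + 3 + 3) ^ 4 + (b + 3 + 3) ^ 3 + (b + 3 + 3) ^ 2 + (b + 3 + 3) + 1)) -
          (((b : ℤ) + 3 + 3) ^ 2 - (b + 3 + 3) + 2) ^ 2 * (((b : ℤ) + 3 + 3) ^ 2 + (b + 3 + 3) + 3) := by
        clear * -
        ring_nf
        positivity
      linarith
  · have h3 : (((a : ℤ) + 3) ^ 2 - (a + 3) + 2) ^ 3 * (((a : ℤ) + 3) ^ 2 + (a + 3) + 3) ≤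
        z * (((a : ℤ) + 3) ^ 2 + (a + 3) + 3) := mul_le_mul_of_nonneg_right hz (by clear * -; positivity)
    have h4 : (0 : ℤ) < (((a : ℤ) + 3) ^ 2 - (a + 3) + 2) ^ 3 * (((a : ℤ) + 3) ^ 2 + (a + 3) + 3) -
        ((((a : ℤ) + 3) ^ 2 + 2 * (a + 3) + 2) + (((a : ℤ) + 3) ^ 2 - (a + 3) + 2 - 2) *
          (((a : ℤ) + 3) ^ 4 + (a + 3) ^ 3 + (a + 3) ^ 2 + (a + 3) + 1)) := by
      clear * -
      ring_nf
      positivity
    linarith

/-- `n = 7`, `D = q⁶ + q - 2` -/
theorem p7D1 {q u z : ℤ} (hq : 3 ≤ q) (hu : 2 ≤ u) (hz : u ^ 2 ≤ z)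
    (h : (q ^ 6 + q - 2) * (u * z - 1) = (q ^ 7 - 1) * (z + u - 2)) : u = q := by
  have h1 : z * ((q ^ 5 + q ^ 4 + q ^ 3 + q ^ 2 + q + 2) * u - (q ^ 6 + q ^ 5 + q ^ 4 + q ^ 3 + q ^ 2 + q + 1)) =
      (q ^ 5 + q ^ 4 + q ^ 3 + q ^ 2 + q + 2) + (u - 2) * (q ^ 6 + q ^ 5 + q ^ 4 + q ^ 3 + q ^ 2 + q + 1) := by
    apply mul_left_cancel₀ (show q - 1 ≠ 0 by omega)
    linear_combination h
  obtain ⟨a, rfl⟩ : ∃ a : ℕ, q = a + 3 := ⟨(q - 3).toNat, by omega⟩
  have := trich (lo := (a : ℤ) + 3 - 1) (hi := (a : ℤ) + 3 + 1) h1 hz hu (by clear * -; positivity)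
    (pos_lt (by clear * -; ring_nf; positivity)) (pos_le (by clear * -; ring_nf; positivity)) (by clear * -; ring_nf; positivity)
    (pos_le (by clear * -; ring_nf; positivity)) (by clear * -; positivity)
  omega

/-- `n = 7`, `D = q⁶ + q² - q - 1` -/
theorem p7D1' {q u z : ℤ} (hq : 3 ≤ q) (hu : 2 ≤ u) (hz : u ^ 2 ≤ z)
    (h : (q ^ 6 + q ^ 2 - q - 1) * (u * z - 1) = (q ^ 7 - 1) * (z + u - 2)) : u = q := by
  have h1 : z * ((q ^ 5 + q ^ 4 + q ^ 3 + q ^ 2 + 2 * q + 1) * u - (q ^ 6 + q ^ 5 + q ^ 4 + q ^ 3 + q ^ 2 + q + 1)) =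
      (q ^ 5 + q ^ 4 + q ^ 3 + q ^ 2 + 2 * q + 1) + (u - 2) * (q ^ 6 + q ^ 5 + q ^ 4 + q ^ 3 + q ^ 2 + q + 1) := by
    apply mul_left_cancel₀ (show q - 1 ≠ 0 by omega)
    linear_combination h
  obtain ⟨a, rfl⟩ : ∃ a : ℕ, q = a + 3 := ⟨(q - 3).toNat, by omega⟩
  have := trich (lo := (a : ℤ) + 3 - 1) (hi := (a : ℤ) + 3 + 1) h1 hz hu (by clear * -; positivity)
    (pos_lt (by clear * -; ring_nf; positivity)) (pos_le (by clear * -; ring_nf; positivity)) (by clear * -; ring_nf; positivity)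
    (pos_le (by clear * -; ring_nf; positivity)) (by clear * -; positivity)
  omega

/-- `n = 7`, `D = q⁵ + q² - 2` -/
theorem p7D2 {q u z : ℤ} (hq : 3 ≤ q) (hu : 2 ≤ u) (hz : u ^ 2 ≤ z)
    (h : (q ^ 5 + q ^ 2 - 2) * (u * z - 1) = (q ^ 7 - 1) * (z + u - 2)) : u = q ^ 2 := by
  have h1 : z * ((q ^ 4 + q ^ 3 + q ^ 2 + 2 * q + 2) * u - (q ^ 6 + q ^ 5 + q ^ 4 + q ^ 3 + q ^ 2 + q + 1)) =
      (q ^ 4 + q ^ 3 + q ^ 2 + 2 * q + 2) + (u - 2) * (q ^ 6 + q ^ 5 + q ^ 4 + q ^ 3 + q ^ 2 + q + 1) := by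
    apply mul_left_cancel₀ (show q - 1 ≠ 0 by omega)
    linear_combination h
  obtain ⟨a, rfl⟩ : ∃ a : ℕ, q = a + 3 := ⟨(q - 3).toNat, by omega⟩
  have := trich (lo := ((a : ℤ) + 3) ^ 2 - 1) (hi := ((a : ℤ) + 3) ^ 2 + 1) h1 hz hu (by clear * -; positivity)
    (pos_lt (by clear * -; ring_nf; positivity)) (pos_le (by clear * -; ring_nf; positivity)) (by clear * -; ring_nf; positivity)
    (pos_le (by clear * -; ring_nf; positivity)) (by clear * -; positivity)
  omega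

/-- `n = 7`, `D = q⁴ + q³ - 2` -/
theorem p7D3 {q u z : ℤ} (hq : 3 ≤ q) (hu : 2 ≤ u) (hz : u ^ 2 ≤ z)
    (h : (q ^ 4 + q ^ 3 - 2) * (u * z - 1) = (q ^ 7 - 1) * (z + u - 2)) : u = q ^ 3 - q ^ 2 + q := by
  have h1 : z * ((q ^ 3 + 2 * q ^ 2 + 2 * q + 2) * u - (q ^ 6 + q ^ 5 + q ^ 4 + q ^ 3 + q ^ 2 + q + 1)) =
      (q ^ 3 + 2 * q ^ 2 + 2 * q + 2) + (u - 2) * (q ^ 6 + q ^ 5 + q ^ 4 + q ^ 3 + q ^ 2 + q + 1) := by
    apply mul_left_cancel₀ (show q - 1 ≠ 0 by omega)
    linear_combination h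
  obtain ⟨a, rfl⟩ : ∃ a : ℕ, q = a + 3 := ⟨(q - 3).toNat, by omega⟩
  have := trich (lo := ((a : ℤ) + 3) ^ 3 - (a + 3) ^ 2 + (a + 3) - 1) (hi := ((a : ℤ) + 3) ^ 3 - (a + 3) ^ 2 + (a + 3) + 1)
    h1 hz hu (by clear * -; positivity)
    (pos_lt (by clear * -; ring_nf; positivity)) (pos_le (by clear * -; ring_nf; positivity)) (by clear * -; ring_nf; positivity)
    (pos_le (by clear * -; ring_nf; positivity)) (by clear * -; ring_nf; positivity)
  omega

end Cfsg.Agent.R2.Spec.X7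
end

-- part: R2/Spec/X7/ExcX
section
/-!
# The exceptional families: the numerical contradictions
-/

set_option autoImplicit false

namespace Cfsg.Agent.R2.Spec.X7

namespace NC

variable {p R : ℕ} {W : ℕ → Prop} (h : NC p R W)

include h

theorem R61 : 61 ≤ R := by
  have := h.big
  omega

theorem negZ {E E' : ℕ} (hW : W E) (hW' : W E') (h7 : 7 * (R : ℤ) < 10 * E')
    (h1 : (E' : ℤ) < E) (h2 : (E : ℤ) < R) :
    23 * ((R : ℤ) - E) < 10 * (R - E') ∨ (10 * ((R : ℤ) - E') ≤ 11 * (R - E) ∧ ((E : ℤ) - E') * (R - E') ≤ R) :=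
  h.neg E E' (by have := h.R61; omega) hW hW' (by omega) (by omega) (by omega)

theorem posZ {E E' : ℕ} (hW : W E) (hW' : W E') (h1 : (E' : ℤ) < E) (h2 : (R : ℤ) < E') :
    (4 * ((E : ℤ) - R) ≤ 5 * (E' - R) ∧ ((E : ℤ) - E') * (E - R) ≤ 2 * R) ∨ 10 * ((E' : ℤ) - R) ≤ E - R :=
  h.posi E E' (by omega) hW hW' (by omega) (by omega)

theorem oppZ {E E' : ℕ} (hW : W E) (hW' : W E') (h7 : 7 * (R : ℤ) < 10 * E')
    (h1 : (E' : ℤ) < R) (h2 : (R : ℤ) < E) : 3 * ((R : ℤ) - E') ≤ E - R ∨ 4 * ((E : ℤ) - R) ≤ R - E' :=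
  h.opp E E' (by have := h.R61; omega) hW hW' (by omega) (by omega) (by omega)

/-- `G₂(u)` -/
theorem gTwo {u A B C : ℕ} (hA : (A : ℤ) = (u : ℤ) ^ 2 + u + 1) (hB : (B : ℤ) = (u : ℤ) ^ 2 - u + 1)
    (hC : (C : ℤ) = (u : ℤ) ^ 2 - 1) (hWA : W A) (hWB : W B) (hWC : W C)
    (hR : R = A ∨ R = B) : False := by
  have hR0 := h.R61
  have hu : 8 ≤ u := by
    by_contra hcon
    have h1 : u = 0 ∨ u = 1 ∨ u = 2 ∨ u = 3 ∨ u = 4 ∨ u = 5 ∨ u = 6 ∨ u = 7 := by (clear * - hB hC hcon; omega)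
    rcases h1 with rfl | rfl | rfl | rfl | rfl | rfl | rfl | rfl <;> norm_num only [_root_.Nat.cast_eq_one] at hA hB <;>
      rcases hR with h3 | h3 <;> omega
  obtain ⟨t, rfl⟩ : ∃ t, u = t + 8 := ⟨u - 8, by omega⟩
  push_cast at hA hB hC
  rcases hR with h3 | h3
  · have h4 : (R : ℤ) = A := by exact_mod_cast h3
    rcases h.negZ hWC hWB (by rw [h4, hA, hB]; nlinarith only []) (by rw [hB, hC]; linarith only [])
      (by rw [h4, hA, hC]; linarith only []) with h5 | ⟨h5, -⟩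
    · rw [h4, hA, hB, hC] at h5
      linarith only [h5]
    · rw [h4, hA, hB, hC] at h5
      linarith only [h5]
  · have h4 : (R : ℤ) = B := by exact_mod_cast h3
    rcases h.posZ hWA hWC (by rw [hA, hC]; linarith only []) (by rw [h4, hB, hC]; linarith only []) with ⟨h5, -⟩ | h5
    · rw [h4, hA, hB, hC] at h5
      linarith only [h5]
    · rw [h4, hA, hB, hC] at h5
      linarith only [h5]

/-- `³D₄(u)`, `F₄(u)` -/
theorem dFour {u A B : ℕ} (hA : (A : ℤ) = ((u : ℤ) ^ 3 - 1) * (u + 1)) (hB : (B : ℤ) = ((u : ℤ) ^ 3 + 1) * (u - 1))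
    (hWA : W A) (hWB : W B)
    (hR : (R : ℤ) = (u : ℤ) ^ 4 - (u : ℤ) ^ 2 + 1 ∨ (R : ℤ) = (u : ℤ) ^ 4 + 1) : False := by
  have hR0 := h.big
  have hu : 4 ≤ u := by
    by_contra hcon
    have h1 : u = 0 ∨ u = 1 ∨ u = 2 ∨ u = 3 := by omega
    rcases h1 with rfl | rfl | rfl | rfl <;> norm_num at hR <;> omega
  obtain ⟨t, rfl⟩ : ∃ t, u = t + 4 := ⟨u - 4, by omega⟩
  push_cast at hA hB hR
  rcases hR with h4 | h4
  · rcases h.oppZ hWA hWB (by rw [h4, hB]; apply pos_lt; clear * -; ring_nf; positivity)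
      (by rw [h4, hB]; apply pos_lt; clear * -; ring_nf; positivity)
      (by rw [h4, hA]; apply pos_lt; clear * -; ring_nf; positivity) with h5 | h5
    · rw [h4, hA, hB] at h5
      refine absurd h5 (not_le.2 (pos_lt ?_))
      clear * -; ring_nf; positivity
    · rw [h4, hA, hB] at h5
      refine absurd h5 (not_le.2 (pos_lt ?_))
      clear * -; ring_nf; positivity
  · rcases h.oppZ hWA hWB (by rw [h4, hB]; apply pos_lt; clear * -; ring_nf; positivity)
      (by rw [h4, hB]; apply pos_lt; clear * -; ring_nf; positivity)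
      (by rw [h4, hA]; apply pos_lt; clear * -; ring_nf; positivity) with h5 | h5
    · rw [h4, hA, hB] at h5
      refine absurd h5 (not_le.2 (pos_lt ?_))
      clear * -; ring_nf; positivity
    · rw [h4, hA, hB] at h5
      refine absurd h5 (not_le.2 (pos_lt ?_))
      clear * -; ring_nf; positivity

/-- `E₆(u)` -/
theorem eSix {u g A B : ℕ} (hg : g = 1 ∨ g = 3) (hR : (R : ℤ) * g = (u : ℤ) ^ 6 + (u : ℤ) ^ 3 + 1)
    (hA : (A : ℤ) * g = ((u : ℤ) ^ 2 + u + 1) * ((u : ℤ) ^ 4 - (u : ℤ) ^ 2 + 1))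
    (hB : (B : ℤ) * g = ((u : ℤ) ^ 5 - 1) * (u + 1)) (hWA : W A) (hWB : W B) : False := by
  have hR0 := h.big
  have hgZ : (g : ℤ) = 1 ∨ (g : ℤ) = 3 := by
    rcases hg with h1 | h1
    · left; exact_mod_cast h1
    · right; exact_mod_cast h1
  have hg0 : (0 : ℤ) < g := by rcases hgZ with h1 | h1 <;> omega
  have hu : 4 ≤ u := by
    by_contra hcon
    have h1 : u = 0 ∨ u = 1 ∨ u = 2 ∨ u = 3 := by omega
    rcases h1 with rfl | rfl | rfl | rfl <;> rcases hgZ with h2 | h2 <;> rw [h2] at hR <;> norm_num only [_root_.mul_one, _root_.Nat.cast_eq_one, _root_.mul_eq_right₀] at hR <;>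
      (clear * - hR0 hR; omega)
  obtain ⟨t, rfl⟩ : ∃ t, u = t + 4 := ⟨u - 4, by omega⟩
  push_cast at hA hB hR
  have hAB : (A : ℤ) < B := by
    apply lt_of_mul_lt_mul_right _ hg0.le
    rw [hA, hB]
    apply pos_lt
    clear * -; ring_nf; positivity
  have hRA : (R : ℤ) < A := by
    apply lt_of_mul_lt_mul_right _ hg0.le
    rw [hA, hR]
    apply pos_lt
    clear * -; ring_nf; positivity
  have e1 : (B : ℤ) * g - A * g = ((t : ℤ) + 4) ^ 3 - 2 * ((t : ℤ) + 4) - 2 := by rw [hA, hB]; ring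
  have e2 : (B : ℤ) * g - R * g = ((t : ℤ) + 4) ^ 5 - ((t : ℤ) + 4) ^ 3 - ((t : ℤ) + 4) - 2 := by rw [hB, hR]; ring
  have h5 : ((B : ℤ) - A) * (B - R) ≤ 2 * R := by
    rcases h.posZ hWB hWA hAB hRA with ⟨-, h5⟩ | h5
    · exact h5
    · exfalso
      have h6 := mul_le_mul_of_nonneg_right h5 hg0.le
      have h7 : 10 * (((B : ℤ) * g - R * g) - (B * g - A * g)) ≤ B * g - R * g := by linarith only [h6]
      rw [e1, e2] at h7
      refine absurd h7 (not_le.2 (pos_lt ?_))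
      clear * -; ring_nf; positivity
  have h6 : ((B : ℤ) * g - A * g) * (B * g - R * g) ≤ 2 * (R * g) * g := by
    have := mul_le_mul_of_nonneg_right (mul_le_mul_of_nonneg_right h5 hg0.le) hg0.le
    linarith only [this]
  have h8 : (0 : ℤ) < R * g := by rw [hR]; clear * -; positivity
  have h7 : 2 * ((R : ℤ) * g) * g ≤ 2 * (R * g) * 3 :=
    mul_le_mul_of_nonneg_left (by rcases hgZ with h1 | h1 <;> omega) (by linarith only [h8])
  rw [e1, e2] at h6
  rw [hR] at h7 h6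
  refine absurd (h6.trans h7) (not_le.2 (pos_lt ?_))
  clear * -; ring_nf; positivity

/-- `²E₆(u)` -/
theorem eSixT {u g A B : ℕ} (hg : g = 1 ∨ g = 3) (hR : (R : ℤ) * g = (u : ℤ) ^ 6 - (u : ℤ) ^ 3 + 1)
    (hA : (A : ℤ) * g = ((u : ℤ) ^ 2 - u + 1) * ((u : ℤ) ^ 4 - (u : ℤ) ^ 2 + 1))
    (hB : (B : ℤ) * g = ((u : ℤ) ^ 5 + 1) * (u - 1)) (hWA : W A) (hWB : W B) : False := by
  have hR0 := h.big
  have hgZ : (g : ℤ) = 1 ∨ (g : ℤ) = 3 := by
    rcases hg with h1 | h1
    · left; exact_mod_cast h1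
    · right; exact_mod_cast h1
  have hg0 : (0 : ℤ) < g := by rcases hgZ with h1 | h1 <;> omega
  have hu : 4 ≤ u := by
    by_contra hcon
    have h1 : u = 0 ∨ u = 1 ∨ u = 2 ∨ u = 3 := by omega
    rcases h1 with rfl | rfl | rfl | rfl <;> rcases hgZ with h2 | h2 <;> rw [h2] at hR <;> norm_num only [_root_.mul_one, _root_.Nat.cast_eq_one] at hR <;>
      (clear * - hR0 hR; omega)
  obtain ⟨t, rfl⟩ : ∃ t, u = t + 4 := ⟨u - 4, by omega⟩
  push_cast at hA hB hR
  have hAB : (B : ℤ) < A := by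
    apply lt_of_mul_lt_mul_right _ hg0.le
    rw [hA, hB]
    apply pos_lt
    clear * -; ring_nf; positivity
  have hRA : (A : ℤ) < R := by
    apply lt_of_mul_lt_mul_right _ hg0.le
    rw [hA, hR]
    apply pos_lt
    clear * -; ring_nf; positivity
  have h7 : 7 * (R : ℤ) < 10 * B := by
    apply lt_of_mul_lt_mul_right _ hg0.le
    rw [mul_assoc, mul_assoc, hB, hR]
    apply pos_lt
    clear * -; ring_nf; positivity
  have e1 : (R : ℤ) * g - A * g = ((t : ℤ) + 4) ^ 5 - 2 * ((t : ℤ) + 4) ^ 3 + ((t : ℤ) + 4) := by rw [hA, hR]; ring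
  have e2 : (R : ℤ) * g - B * g = ((t : ℤ) + 4) ^ 5 - ((t : ℤ) + 4) ^ 3 - ((t : ℤ) + 4) + 2 := by rw [hB, hR]; ring
  have e3 : (A : ℤ) * g - B * g = ((t : ℤ) + 4) ^ 3 - 2 * ((t : ℤ) + 4) + 2 := by rw [hA, hB]; ring
  rcases h.negZ hWA hWB h7 hAB hRA with h5 | ⟨-, h5⟩
  · have h6 : 23 * ((R : ℤ) * g - A * g) < 10 * (R * g - B * g) := by
      have := mul_lt_mul_of_pos_right h5 hg0
      linarith only [this]
    rw [e1, e2] at h6
    refine absurd h6 (not_lt.2 (pos_le ?_))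
    clear * -; ring_nf; positivity
  · have h6 : ((A : ℤ) * g - B * g) * (R * g - B * g) ≤ (R * g) * g := by
      have := mul_le_mul_of_nonneg_right (mul_le_mul_of_nonneg_right h5 hg0.le) hg0.le
      linarith only [this]
    have h8 : (0 : ℤ) ≤ R * g := by (clear * - hg0; positivity)
    have h7 : ((R : ℤ) * g) * g ≤ (R * g) * 3 :=
      mul_le_mul_of_nonneg_left (by rcases hgZ with h1 | h1 <;> omega) h8
    rw [e3, e2] at h6
    rw [hR] at h7 h6
    refine absurd (h6.trans h7) (not_le.2 (pos_lt ?_))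
    clear * -; ring_nf; positivity

omit h in
theorem eEight_aux (t : ℕ) {A B C D : ℤ}
    (hA : A = ((t : ℤ) + 3) ^ 8 - ((t : ℤ) + 3) ^ 7 + ((t : ℤ) + 3) ^ 5 - ((t : ℤ) + 3) ^ 4 + ((t : ℤ) + 3) ^ 3 -
      ((t : ℤ) + 3) + 1)
    (hB : B = ((t : ℤ) + 3) ^ 8 - ((t : ℤ) + 3) ^ 6 + ((t : ℤ) + 3) ^ 4 - ((t : ℤ) + 3) ^ 2 + 1)
    (hC : C = ((t : ℤ) + 3) ^ 8 - ((t : ℤ) + 3) ^ 4 + 1)
    (hD : D = ((t : ℤ) + 3) ^ 8 + ((t : ℤ) + 3) ^ 7 - ((t : ℤ) + 3) ^ 5 - ((t : ℤ) + 3) ^ 4 - ((t : ℤ) + 3) ^ 3 +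
      ((t : ℤ) + 3) + 1) :
    0 < C - B ∧ 2 * (C - B) < C - A ∧ 0 < A ∧ 7 * D < 10 * B ∧ 7 * B < 10 * A ∧
      7 * C < 10 * A ∧ D < (C - B) * (C - A) ∧ D - C = C - A := by
  subst hA hB hC hD
  refine ⟨?_, pos_lt ?_, ?_, pos_lt ?_, pos_lt ?_, pos_lt ?_, pos_lt ?_, by ring⟩ <;> ring_nf <;> positivity

/-- `E₈(u)` -/
theorem eEight {u A B C D : ℕ}
    (hA : (A : ℤ) = (u : ℤ) ^ 8 - (u : ℤ) ^ 7 + (u : ℤ) ^ 5 - (u : ℤ) ^ 4 + (u : ℤ) ^ 3 - u + 1)
    (hB : (B : ℤ) = (u : ℤ) ^ 8 - (u : ℤ) ^ 6 + (u : ℤ) ^ 4 - (u : ℤ) ^ 2 + 1)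
    (hC : (C : ℤ) = (u : ℤ) ^ 8 - (u : ℤ) ^ 4 + 1)
    (hD : (D : ℤ) = (u : ℤ) ^ 8 + (u : ℤ) ^ 7 - (u : ℤ) ^ 5 - (u : ℤ) ^ 4 - (u : ℤ) ^ 3 + u + 1)
    (hWA : W A) (hWB : W B) (hWC : W C) (hWD : W D)
    (hR : R = A ∨ R = B ∨ R = C ∨ R = D) : False := by
  have hR0 := h.big
  have hu : 3 ≤ u := by
    by_contra hcon
    have h1 : u = 0 ∨ u = 1 ∨ u = 2 := by omega
    rcases h1 with rfl | rfl | rfl <;> norm_num at hA hB hC hD <;>
      rcases hR with h2 | h2 | h2 | h2 <;> (clear * - hR0 hA h2 hB hC hD; omega)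
  obtain ⟨t, rfl⟩ : ∃ t, u = t + 3 := ⟨u - 3, by omega⟩
  push_cast at hA hB hC hD
  obtain ⟨p1, p2, p5, p6, p7, p8, p9, e5⟩ := eEight_aux t hA hB hC hD
  rcases hR with h3 | h3 | h3 | h3
  · have h4 : (R : ℤ) = A := by exact_mod_cast h3
    rcases h.posZ hWD hWC (by linarith only [hA, hC, hD, p1, p2]) (by linarith only [p1, p2, h3]) with ⟨h5, -⟩ | h5
    · rw [h4] at h5
      linarith only [hA, hC, hD, p1, p2, h5]
    · rw [h4] at h5
      linarith only [hA, hC, hD, p1, p2, h5]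
  · have h4 : (R : ℤ) = B := by exact_mod_cast h3
    rcases h.oppZ hWD hWA (by linarith only [p1, p8, h3]) (by linarith only [p1, p2, h3]) (by linarith) with h5 | h5
    · rw [h4] at h5
      linarith only [hA, hC, hD, p2, h5]
    · rw [h4] at h5
      linarith only [hA, hC, hD, p1, p2, h5]
  · have h4 : (R : ℤ) = C := by exact_mod_cast h3
    rcases h.oppZ hWD hWA (by linarith only [p8, h3]) (by linarith only [p1, p2, h3]) (by linarith) with h5 | h5 <;> linarith
  · have h4 : (R : ℤ) = D := by exact_mod_cast h3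
    rcases h.negZ hWC hWB (by linarith only [p6, h3]) (by linarith only [p1]) (by linarith) with h5 | ⟨-, h5⟩
    · rw [h4] at h5
      linarith only [hA, hC, hD, p1, p2, h5]
    · rw [h4] at h5
      have h6 : ((C : ℤ) - B) * (C - A) ≤ (C - B) * (D - B) := mul_le_mul_of_nonneg_left (by linarith only [hA, hC, hD, p1]) p1.le
      linarith only [p9, h5, h6]

/-- Suzuki and small Ree groups -/
theorem szRee {u s A B C : ℕ} (hs : ((s : ℤ) ^ 2 = 2 * u ∧ 16 ≤ s) ∨ ((s : ℤ) ^ 2 = 3 * u ∧ 27 ≤ s))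
    (hA : (A : ℤ) = (u : ℤ) + s + 1)
    (hB : (B : ℤ) = (u : ℤ) - s + 1) (hC : (C : ℤ) = (u : ℤ) - 1) (hWA : W A) (hWB : W B)
    (hWC : W C) (hR : R = A ∨ R = B ∨ R = C) : False := by
  have hs2 : 16 ≤ s ∧ 17 * (s : ℤ) < 3 * u + 3 := by
    rcases hs with ⟨h1, h2⟩ | ⟨h1, h2⟩
    · refine ⟨h2, ?_⟩
      have h3 : (16 : ℤ) * s ≤ (s : ℤ) ^ 2 := by
        rw [pow_two]; exact mul_le_mul_of_nonneg_right (by exact_mod_cast h2) (by positivity)
      have h4 : (16 : ℤ) ≤ s := by exact_mod_cast h2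
      omega
    · refine ⟨by omega, ?_⟩
      have h3 : (27 : ℤ) * s ≤ (s : ℤ) ^ 2 := by
        rw [pow_two]; exact mul_le_mul_of_nonneg_right (by exact_mod_cast h2) (by positivity)
      have h4 : (27 : ℤ) ≤ s := by exact_mod_cast h2
      omega
  obtain ⟨hs16, h20⟩ := hs2
  rcases hR with h3 | h3 | h3
  · have h4 : (R : ℤ) = A := by exact_mod_cast h3
    rcases h.negZ hWC hWB (by omega) (by omega) (by omega) with h5 | ⟨h5, -⟩ <;> (clear * - hA hB hC hs16 h3 h5; omega)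
  · have h4 : (R : ℤ) = B := by exact_mod_cast h3
    rcases h.posZ hWA hWC (by omega) (by omega) with ⟨h5, -⟩ | h5 <;> omega
  · have h4 : (R : ℤ) = C := by exact_mod_cast h3
    rcases h.oppZ hWA hWB (by omega) (by omega) (by omega) with h5 | h5 <;> omega

/-- `²F₄(u)`, `u = 2 r²` -/
theorem fFourT {r A B C : ℕ} (hr : 6 ≤ r) (hA : (A : ℤ) = 4 * (r : ℤ) ^ 4 + 4 * (r : ℤ) ^ 3 + 2 * (r : ℤ) ^ 2 + 2 * r + 1)
    (hB : (B : ℤ) = 4 * (r : ℤ) ^ 4 - 4 * (r : ℤ) ^ 3 + 2 * (r : ℤ) ^ 2 - 2 * r + 1)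
    (hC : (C : ℤ) = 4 * (r : ℤ) ^ 4 - 2 * (r : ℤ) ^ 2 + 1) (hWA : W A)
    (hWB : W B) (hWC : W C) (hR : R = A ∨ R = B) : False := by
  obtain ⟨t, rfl⟩ : ∃ t, r = t + 6 := ⟨r - 6, by omega⟩
  push_cast at hA hB hC
  rcases hR with h3 | h3
  · have h4 : (R : ℤ) = A := by exact_mod_cast h3
    rcases h.negZ hWC hWB (by rw [h4, hA, hB]; apply pos_lt; clear * -; ring_nf; positivity)
      (by rw [hB, hC]; apply pos_lt; clear * -; ring_nf; positivity)
      (by rw [h4, hA, hC]; apply pos_lt; clear * -; ring_nf; positivity) with h5 | ⟨h5, -⟩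
    · rw [h4, hA, hB, hC] at h5
      refine absurd h5 (not_lt.2 (pos_le ?_))
      clear * -; ring_nf; positivity
    · rw [h4, hA, hB, hC] at h5
      refine absurd h5 (not_le.2 (pos_lt ?_))
      clear * -; ring_nf; positivity
  · have h4 : (R : ℤ) = B := by exact_mod_cast h3
    rcases h.posZ hWA hWC (by rw [hA, hC]; apply pos_lt; clear * -; ring_nf; positivity)
      (by rw [h4, hB, hC]; apply pos_lt; clear * -; ring_nf; positivity) with ⟨h5, -⟩ | h5
    · rw [h4, hA, hB, hC] at h5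
      refine absurd h5 (not_le.2 (pos_lt ?_))
      clear * -; ring_nf; positivity
    · rw [h4, hA, hB, hC] at h5
      refine absurd h5 (not_le.2 (pos_lt ?_))
      clear * -; ring_nf; positivity

end NC

end Cfsg.Agent.R2.Spec.X7
end

-- part: R2/Spec/X7/FamC
section
/-!
# Elimination of the exceptional families; all groups of Lie type
-/

set_option autoImplicit false

namespace Cfsg.Agent.R2.Spec.X7

open Cfsg Cfsg.Lie Cfsg.Agent.H360.Iso Cfsg.Agent.H437.Iso Cfsg.Agent.H366.Iso Cfsg.Agent.H414.Iso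
open Cfsg.Agent.H437.Win (not_dvd_card)
open Cfsg.Agent.H437.Win.UWin (castA castB)

universe u

namespace SC

variable {p R : ℕ} {W : ℕ → Prop}

theorem not_g2 {F : Type u} [Field F] [Finite F] (h : SC ↥(chevG2.group F) p R W) : False := by
  have hu : 1 ≤ Nat.card F := Finite.one_lt_card.le
  refine h.nc.gTwo (u := Nat.card F) (by push_cast; ring) (g2_cast6 _)
    (by rw [Nat.cast_sub (Nat.one_le_pow _ _ hu)]; push_cast; ring) (h.wd (g2_order3 (F := F)))
    (h.wd (g2_order6 (F := F))) (h.wd (g2_order1 (F := F))) (g2_row h.iso)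

theorem not_f4 {F : Type u} [Field F] [Finite F] (h : SC ↥(chevF4.group F) p R W) : False := by
  have hu : 1 ≤ Nat.card F := Finite.one_lt_card.le
  refine h.nc.dFour (u := Nat.card F) (castA hu) (castB hu) (h.wd (f4_orderA (F := F)))
    (h.wd (f4_orderB (F := F))) ?_
  rcases f4_row h.iso with h1 | ⟨-, h1⟩
  · left; rw [h1, f4_cast12]
  · right; rw [h1]; push_cast; ring

theorem not_d4t {K : Type u} [Field K] [Fintype K] {u : ℕ} (hu : IsPrimePow u) (hK : Fintype.card K = u ^ 3)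
    (h : SC ↥(twistedD4 K u) p R W) : False := by
  have hu1 : 1 ≤ u := hu.one_lt.le
  refine h.nc.dFour (u := u) (castA hu1) (castB hu1) (h.wd (d4_orderA hu hK)) (h.wd (d4_orderB hu hK)) ?_
  left
  rw [d4_row hu hK h.iso, f4_cast12]

theorem not_e6 {F : Type u} [Field F] [Finite F] (h : SC ↥(chevE6.group F) p R W) : False := by
  have h2 : 1 < Nat.card F := Finite.one_lt_card
  have hA := h.wd (e6_orderA (F := F))
  have hC := h.wd (e6_orderC (F := F))
  have hR := e6_row h.iso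
  have hgA : Nat.gcd 3 (Nat.card F - 1) ∣ (Nat.card F ^ 5 - 1) * (Nat.card F + 1) := by
    refine Dvd.dvd.mul_right ((Nat.gcd_dvd_right _ _).trans ?_) _
    have := Nat.sub_dvd_pow_sub_pow (Nat.card F) 1 5
    rwa [one_pow] at this
  have hgC : Nat.gcd 3 (Nat.card F - 1) ∣ (Nat.card F ^ 2 + Nat.card F + 1) * (Nat.card F ^ 4 - Nat.card F ^ 2 + 1) :=
    Dvd.dvd.mul_right (g3_dvd _ h2.le) _
  refine h.nc.eSix (u := Nat.card F) ((Nat.dvd_prime Nat.prime_three).1 (Nat.gcd_dvd_left 3 (Nat.card F - 1)))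
    (by exact_mod_cast hR) ?_ ?_ hC hA
  · rw [← Nat.cast_mul, Nat.div_mul_cancel hgC, Nat.cast_mul, f4_cast12]
    push_cast
    ring
  · rw [← Nat.cast_mul, Nat.div_mul_cancel hgA, Nat.cast_mul, Nat.cast_sub (Nat.one_le_pow _ _ h2.le)]
    push_cast
    ring

theorem not_e6t {K : Type u} [Field K] [Fintype K] {u : ℕ} (hu : IsPrimePow u) (hK : Fintype.card K = u ^ 2)
    (h : SC ↥(twistedE6 K u) p R W) : False := by
  have h2 : 1 < u := hu.one_lt
  have hA := h.wd (e6t_orderA hu hK)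
  have hC := h.wd (e6t_orderC hu hK)
  rcases e6t_row hu hK h.iso with hR | ⟨-, hR⟩
  · have hgA : Nat.gcd 3 (u + 1) ∣ (u ^ 5 + 1) * (u - 1) := (gt3_dvd5 u).mul_right _
    have hgC : Nat.gcd 3 (u + 1) ∣ (u ^ 2 - u + 1) * (u ^ 4 - u ^ 2 + 1) := (gt3_dvd6 u).mul_right _
    refine h.nc.eSixT (u := u) ((Nat.dvd_prime Nat.prime_three).1 (Nat.gcd_dvd_left 3 (u + 1)))
      (by rw [← e6t_cast18]; exact_mod_cast hR) ?_ ?_ hC hA
    · rw [← Nat.cast_mul, Nat.div_mul_cancel hgC, Nat.cast_mul, e6t_cast12, e6t_cast6]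
    · rw [← Nat.cast_mul, Nat.div_mul_cancel hgA, Nat.cast_mul, Nat.cast_sub h2.le]
      push_cast
      ring
  · -- `R ∣ 13 * 17 * 19`, `13 ∤ R`
    have h13 : Nat.Coprime R 13 := ((Nat.Prime.coprime_iff_not_dvd (by norm_num)).2 h.nc.n13).symm
    have h3 : R ∣ 17 * 19 := by
      refine h13.dvd_of_dvd_mul_left ?_
      rw [show 13 * (17 * 19) = 13 * 17 * 19 by norm_num]
      exact hR
    have h4 := Nat.le_of_dvd (by norm_num) h3
    rcases h.nc.big with h5 | h5 | h5 | h5 | h5 | h5 | h5 | h5 | h5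
    · rw [h5] at h3; revert h3; norm_num
    · rw [h5] at h3; revert h3; norm_num
    all_goals omega

theorem not_e7 {F : Type u} [Field F] [Finite F] (hpu : ¬ p ∣ Nat.card F) (h : SC ↥(chevE7.group F) p R W) : False := by
  have h4 := h.nc.big
  rcases e7_row h.iso with ⟨-, h1 | h1⟩ | ⟨h0, h1 | h1⟩
  · omega
  · omega
  · omega
  · rw [h0, h.nc.c1093 h1] at hpu
    exact hpu dvd_rfl

theorem not_e8 {F : Type u} [Field F] [Finite F] (h : SC ↥(chevE8.group F) p R W) : False := by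
  have h2 : 2 ≤ Nat.card F := Finite.one_lt_card
  exact h.nc.eEight (u := Nat.card F) (cast15 h2) (cast20 h2) (cast24 h2) (cast30 h2) (h.wd (e8_order15 (F := F)))
    (h.wd (e8_order20 (F := F))) (h.wd (e8_order24 (F := F))) (h.wd (e8_order30 (F := F))) (e8_row h.iso)

theorem not_f4t {K : Type u} [Field K] [Fintype K] {m : ℕ} (hm : 1 ≤ m) (hK : Fintype.card K = 2 ^ (2 * m + 1))
    (h : SC ↥(twistedF4 K (2 ^ m)) p R W) : False := by
  obtain ⟨b, hb⟩ : ∃ b, b = 2 ^ m := ⟨_, rfl⟩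
  have hb1 : 1 ≤ b := by rw [hb]; exact Nat.one_le_two_pow
  obtain ⟨c, hc⟩ : ∃ c, b = c + 1 := ⟨b - 1, by omega⟩
  obtain ⟨M, hM⟩ : ∃ M : ℕ, (M : ℤ) = 4 * (b : ℤ) ^ 4 - 4 * (b : ℤ) ^ 3 + 2 * (b : ℤ) ^ 2 - 2 * b + 1 := by
    refine ⟨4 * c ^ 4 + 12 * c ^ 3 + 14 * c ^ 2 + 6 * c + 1, ?_⟩
    rw [hc]
    push_cast
    ring
  obtain ⟨N, hN⟩ : ∃ N : ℕ, (N : ℤ) = 4 * (b : ℤ) ^ 4 - 2 * (b : ℤ) ^ 2 + 1 := by
    refine ⟨4 * c ^ 4 + 16 * c ^ 3 + 22 * c ^ 2 + 12 * c + 3, ?_⟩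
    rw [hc]
    push_cast
    ring
  have hM' : M + 4 * b ^ 3 + 2 * b = 4 * b ^ 4 + 2 * b ^ 2 + 1 := by
    have : ((M + 4 * b ^ 3 + 2 * b : ℕ) : ℤ) = ((4 * b ^ 4 + 2 * b ^ 2 + 1 : ℕ) : ℤ) := by
      push_cast
      rw [hM]
      ring
    exact_mod_cast this
  have hP := h.wd (f4t_plus hK hb)
  have hMw := h.wd (f4t_minus hK hb hM')
  have hNw := h.wd (f4t_order6 hK hb hN)
  have hrow := f4t_row' hK hm hb h.iso
  have hbig := h.nc.big
  have hb8 : 6 ≤ b := by
    have h1 : m = 1 ∨ m = 2 ∨ 3 ≤ m := by omega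
    rcases h1 with h1 | h1 | h1
    · rw [h1] at hb
      norm_num at hb
      rw [hb] at hrow
      norm_num at hrow
      rcases hrow with h2 | h2 <;> omega
    · rw [h1] at hb
      norm_num at hb
      rw [hb] at hrow
      norm_num at hrow
      rcases hrow with h2 | h2 <;> omega
    · have : 2 ^ 3 ≤ 2 ^ m := Nat.pow_le_pow_right (by norm_num) h1
      omega
  refine h.nc.fFourT (r := b) hb8 ?_ hM hN hP hMw hNw ?_
  · push_cast; ring
  · rcases hrow with h1 | h1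
    · exact Or.inl h1
    · right; (clear * - hM' h1; omega)

/-- **Ree groups** -/
theorem not_ree {K : Type u} [Field K] [Fintype K] {m : ℕ} (hm : 1 ≤ m) (hK : Fintype.card K = 3 ^ (2 * m + 1))
    (h : SC ↥(twistedG2 K (3 ^ m)) p R W) : False := by
  have hb := h.iso.big
  have hR61 := h.R61
  have hsp := S1159.result (K := K) hm hK
  obtain ⟨t, ht, ht3⟩ : ∃ t, 3 ^ m = t ∧ 3 ≤ t := ⟨3 ^ m, rfl, by
    calc 3 = 3 ^ 1 := by norm_num
      _ ≤ 3 ^ m := Nat.pow_le_pow_right (by norm_num) hm⟩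
  have e1 : 3 ^ (2 * m + 1) = 3 * t ^ 2 := by
    rw [← ht, ← pow_mul, pow_succ]
    ring
  have e2 : 3 ^ (m + 1) = 3 * t := by
    rw [← ht]
    ring
  have hto : Odd t := by
    rw [← ht]
    exact (by decide : Odd 3).pow
  rw [e1, e2] at hsp
  have hexi : ∀ d, (d ∣ 6 ∨ d ∣ 9 ∨ d ∣ 3 * t ^ 2 - 1 ∨ d ∣ (3 * t ^ 2 + 1) / 2 ∨ d ∣ 3 * t ^ 2 - 3 * t + 1 ∨
      d ∣ 3 * t ^ 2 + 3 * t + 1) → ∃ g : ↥(Cfsg.Lie.twistedG2 K (3 ^ m)), orderOf g = d := fun d hd => (hsp d).2 hd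
  obtain ⟨a, ha⟩ := hto
  have ht2 : t ^ 2 = 4 * a ^ 2 + 4 * a + 1 := by rw [ha]; ring
  have hC := hexi _ (Or.inr (Or.inr (Or.inr (Or.inr (Or.inl dvd_rfl)))))
  have hB := hexi _ (Or.inr (Or.inr (Or.inr (Or.inr (Or.inr dvd_rfl)))))
  have hA := hexi _ (Or.inr (Or.inr (Or.inl dvd_rfl)))
  have hD := hexi _ (Or.inr (Or.inr (Or.inr (Or.inl dvd_rfl))))
  have htt : 3 * t ≤ t ^ 2 := by nlinarith only [ht3]
  obtain ⟨r, hr, hrn⟩ := h.iso.exists_prime
  have key : R = 3 * t ^ 2 + 3 * t + 1 ∨ R = 3 * t ^ 2 - 3 * t + 1 := by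
    rcases (hsp R).1 h.iso.elt with h1 | h1 | h1 | h1 | h1 | h1
    · have := Nat.le_of_dvd (by norm_num) h1
      omega
    · have := Nat.le_of_dvd (by norm_num) h1
      omega
    · exfalso
      refine h.iso.not_two_dvd (dvd_trans ?_ (h.iso.dvd_of_elt hA hr hrn (hrn.trans h1)))
      exact ⟨6 * a ^ 2 + 6 * a + 1, by (clear * - ht2; omega)⟩
    · exfalso
      refine h.iso.not_two_dvd (dvd_trans ?_ (h.iso.dvd_of_elt hD hr hrn (hrn.trans h1)))
      exact ⟨3 * a ^ 2 + 3 * a + 1, by (clear * - ht2; omega)⟩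
    · exact Or.inr (Nat.dvd_antisymm h1 (h.iso.dvd_of_elt hC hr hrn (hrn.trans h1)))
    · exact Or.inl (Nat.dvd_antisymm h1 (h.iso.dvd_of_elt hB hr hrn (hrn.trans h1)))
  have ht9 : 9 ≤ t := by
    rcases Nat.eq_or_lt_of_le hm with h1 | h1
    · rw [← h1, pow_one] at ht
      rw [← ht] at key
      norm_num at key
      omega
    · have : 3 ^ 2 ≤ 3 ^ m := Nat.pow_le_pow_right (by norm_num) h1
      omega
  refine h.nc.szRee (u := 3 * t ^ 2) (s := 3 * t) (Or.inr ⟨by push_cast; ring, by omega⟩) ?_ ?_ ?_ (h.wd hB) (h.wd hC)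
    (h.wd hA) (key.imp id Or.inl)
  · push_cast; ring
  · rw [Nat.cast_add, Nat.cast_sub (by (clear * - htt; omega))]
    push_cast
    ring
  · rw [Nat.cast_sub (by (clear * - ht2; omega))]
    push_cast
    ring

/-- **Suzuki groups** -/
theorem not_sz {F : Type} [Field F] [Fintype F] {m : ℕ} (hm : 1 ≤ m) (hF : Fintype.card F = 2 ^ (2 * m + 1))
    (h : SC (Cfsg.Sz F m) p R W) : False := by
  have hR61 := h.R61
  obtain ⟨hs, hA, hB, hC⟩ := Cfsg.Agent.H372.SzSpec.spec (F := F) hm hF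
  obtain ⟨t, ht, ht2⟩ : ∃ t, 2 ^ m = t ∧ 2 ≤ t := ⟨2 ^ m, rfl, by
    calc 2 = 2 ^ 1 := by norm_num
      _ ≤ 2 ^ m := Nat.pow_le_pow_right (by norm_num) hm⟩
  have e1 : 2 ^ (2 * m + 1) = 2 * t ^ 2 := by
    rw [← ht, ← pow_mul, pow_succ]
    ring
  have e2 : 2 ^ (m + 1) = 2 * t := by
    rw [← ht]
    ring
  rw [e1, e2] at hs hB hC
  rw [e1] at hA
  have hww : 2 * t ≤ t ^ 2 := by nlinarith only [ht2]
  obtain ⟨x, hx⟩ := h.iso.elt
  obtain ⟨r, hr, hrn⟩ := h.iso.exists_prime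
  have hso := hs x (by rw [hx]; exact h.iso.odd)
  rw [hx] at hso
  have key : R = 2 * t ^ 2 + 2 * t + 1 ∨ R = 2 * t ^ 2 - 2 * t + 1 ∨ R = 2 * t ^ 2 - 1 := by
    rcases hso with h1 | h1 | h1
    · exact Or.inr (Or.inr (Nat.dvd_antisymm h1 (h.iso.dvd_of_elt hA hr hrn (hrn.trans h1))))
    · exact Or.inl (Nat.dvd_antisymm h1 (h.iso.dvd_of_elt hB hr hrn (hrn.trans h1)))
    · exact Or.inr (Or.inl (Nat.dvd_antisymm h1 (h.iso.dvd_of_elt hC hr hrn (hrn.trans h1))))
  have ht8 : 8 ≤ t := by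
    have h1 : m = 1 ∨ m = 2 ∨ 3 ≤ m := by omega
    rcases h1 with h1 | h1 | h1
    · rw [h1] at ht
      norm_num at ht
      rw [← ht] at key
      norm_num at key
      omega
    · rw [h1] at ht
      norm_num at ht
      rw [← ht] at key
      norm_num at key
      omega
    · have : 2 ^ 3 ≤ 2 ^ m := Nat.pow_le_pow_right (by norm_num) h1
      omega
  refine h.nc.szRee (u := 2 * t ^ 2) (s := 2 * t) (Or.inl ⟨by push_cast; ring, by omega⟩) ?_ ?_ ?_ (h.wd hB) (h.wd hC)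
    (h.wd hA) key
  · push_cast; ring
  · rw [Nat.cast_add, Nat.cast_sub (by omega)]
    push_cast
    ring
  · rw [Nat.cast_sub (by omega)]
    push_cast
    ring

/-- **The groups of Lie type in characteristic `r ≠ p`.** -/
theorem not_lie {T : Type*} [Group T] {r : ℕ} (h : SC T p R W) (hr : r.Prime) (hrp : r ≠ p) :
    ¬ IsLieTypeChar r T := by
  have hp := h.nc.hp
  rintro (h1 | h1 | h1 | h1 | h1 | h1 | h1 | h1 | ⟨-, h1⟩ | ⟨-, h1⟩ | ⟨-, h1⟩)
  · obtain ⟨F, _, _, _, m, hm, h2, ⟨e⟩⟩ := h1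
    rcases Nat.eq_or_lt_of_le hm with hm2 | hm3
    · subst hm2
      exact (h.congr e).not_psl2 (h2 rfl)
    · refine (h.congr e).not_psl hm3 ?_
      rw [Nat.card_eq_fintype_card]
      exact not_dvd_card hr hp hrp
  · obtain ⟨F, _, _, _, m, hm, -, ⟨e⟩⟩ := h1
    exact (h.congr e).not_psp hm
  · obtain ⟨F, _, _, _, m, u, hF, hm, h32, ⟨e⟩⟩ := h1
    refine (h.congr e).not_psu hF hm h32 fun hd => ?_
    have h3 := not_dvd_card (F := F) hr hp hrp
    rw [hF] at h3
    exact h3 (dvd_pow hd (by norm_num))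
  · obtain ⟨F, _, _, _, m, hm, ho, ⟨e⟩⟩ := h1
    exact (h.congr e).not_omegaOdd hm ho
  · obtain ⟨F, _, _, _, m, hm, ⟨e⟩⟩ := h1
    refine (h.congr e).not_plus hm ?_
    rw [Nat.card_eq_fintype_card]
    exact not_dvd_card hr hp hrp
  · obtain ⟨F, _, _, _, m, a, b, hm, hab, ⟨e⟩⟩ := h1
    refine (h.congr e).not_minus hm hab ?_
    rw [Nat.card_eq_fintype_card]
    exact not_dvd_card hr hp hrp
  · obtain ⟨F, _, _, _, ⟨-, ⟨e⟩⟩ | ⟨⟨e⟩⟩ | ⟨⟨e⟩⟩ | ⟨⟨e⟩⟩ | ⟨⟨e⟩⟩⟩ := h1
    · exact (h.congr e).not_g2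
    · exact (h.congr e).not_f4
    · exact (h.congr e).not_e6
    · refine (h.congr e).not_e7 ?_
      rw [Nat.card_eq_fintype_card]
      exact not_dvd_card hr hp hrp
    · exact (h.congr e).not_e8
  · obtain ⟨K, _, _, _, u, hu, ⟨hK, ⟨e⟩⟩ | ⟨hK, ⟨e⟩⟩⟩ := h1
    · exact (h.congr e).not_e6t hu hK
    · exact (h.congr e).not_d4t hu hK
  · obtain ⟨F, _, _, m, hm, hF, ⟨e⟩⟩ := h1
    obtain ⟨i⟩ := Cfsg.Agent.OddCyclic.ClaimC.SzIso.iso hm hF
    exact (h.congr (e.trans i.symm)).not_sz hm hF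
  · obtain ⟨K, _, _, m, hm, hK, ⟨e⟩⟩ := h1
    exact (h.congr e).not_f4t hm hK
  · obtain ⟨K, _, _, m, hm, hK, ⟨e⟩⟩ := h1
    exact (h.congr e).not_ree hm hK

end SC

end Cfsg.Agent.R2.Spec.X7
end

-- part: R2/Spec/X7/Top
section
/-!
# The isolated class; the frame
-/

set_option autoImplicit false

namespace Cfsg.Agent.R2.Spec.X7

open Finset Function Cfsg Subgroup Cfsg.Agent.H420.QR Cfsg.Agent.H360.Iso
open Cfsg.Agent.H437.Win (pow_scalar scalar_of_map roots_ne_zero exists_elt_factor count_stable sg' sg'_injective)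

/-- an element whose order is divisible by a prime of the class `n` -/
theorem top_mat {F : Type*} [Field F] {K : Type*} [Field K] [IsAlgClosed K] [Algebra F K] {s : ℤ} {p q t L n : ℕ}
    [Fact p.Prime] [CharP K p] (P : Par s q t L) (hn : 1 ≤ n)
    (A : Matrix (Fin n) (Fin n) F) (hdetA : A.det = 1) (hinj : Injective (zp s : K → K))
    [DecidableEq K]
    (hcs : ∀ x, (A.map (algebraMap F K)).charpoly.roots.count (zp s x) = (A.map (algebraMap F K)).charpoly.roots.count x)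
    {r : ℕ} (hr : r.Prime) (hrp : r ≠ p) (hra : ∀ a, 1 ≤ a → a < n → ¬ r ∣ ua s a)
    (hA : ∀ E, (∃ z : F, A ^ E = z • (1 : Matrix (Fin n) (Fin n) F)) → r ∣ E) :
    ∃ E, (∃ z : F, A ^ E = z • (1 : Matrix (Fin n) (Fin n) F)) ∧ E * (Nat.gcd n t * t) = ua s n := by
  set Y : Matrix (Fin n) (Fin n) K := A.map (algebraMap F K) with hY
  have hdet : Y.det = 1 := by
    rw [hY, show A.map (algebraMap F K) = (algebraMap F K).mapMatrix A from rfl, ← RingHom.map_det, hdetA, map_one]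
  set! Λ := Y.charpoly.roots.toFinset with hΛ
  have hmem : ∀ x, x ∈ Λ ↔ 1 ≤ Y.charpoly.roots.count x := by
    intro x
    rw [hΛ, Multiset.mem_toFinset, Multiset.one_le_count_iff_mem]
  have hst : Stab s Λ := by
    refine ⟨fun x hx => roots_ne_zero hdet (Multiset.mem_toFinset.1 hx), fun x hx => ?_⟩
    rw [hmem] at hx ⊢
    rw [hcs]
    exact hx
  have hsum : ∑ x ∈ Λ, Y.charpoly.roots.count x = n := by
    rw [hΛ, Multiset.toFinset_sum_count_eq, ← (IsAlgClosed.splits Y.charpoly).natDegree_eq_card_roots,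
      Matrix.charpoly_natDegree_eq_dim, Fintype.card_fin]
  have hprod : ∏ x ∈ Λ, x ^ Y.charpoly.roots.count x = 1 := by
    rw [hΛ, ← Finset.prod_multiset_count, ← Matrix.det_eq_prod_roots_charpoly, hdet]
  have key : ∀ k j : ℕ, (∃ z, ∀ x ∈ Λ, x ^ k = z) → (∀ x ∈ Λ, Y.charpoly.roots.count x ≤ p ^ j) →
      ∃ z : F, A ^ (k * p ^ j) = z • (1 : Matrix (Fin n) (Fin n) F) := by
    rintro k j ⟨z, hz⟩ hc
    exact scalar_of_map A hn (pow_scalar Y (k := k) (s := j) (z := z)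
      (fun x hx => hz x (Multiset.mem_toFinset.2 hx)) (fun x hx => hc x (Multiset.mem_toFinset.2 hx)))
  have hp := (Fact.out : p.Prime)
  have hcount : ∀ x ∈ Λ, Y.charpoly.roots.count x ≤ n := by
    intro x hx
    exact (Finset.single_le_sum (f := fun x => Y.charpoly.roots.count x) (fun _ _ => Nat.zero_le _) hx).trans hsum.le
  -- an eigenvalue of period `n`
  obtain ⟨x, hx, hxn⟩ : ∃ x ∈ Λ, n ≤ minimalPeriod (zp s) x := by
    by_contra hcon
    push Not at hcon
    have h1 : ∀ x ∈ Λ, x ^ (∏ a ∈ Finset.Ico 1 n, ua s a) = 1 := by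
      intro x hx
      have h2 := pow_orb (hst.ne x hx) (hst.self_mem_orb hinj hx)
      obtain ⟨k, hk⟩ := Finset.dvd_prod_of_mem (fun a => ua s a)
        (Finset.mem_Ico.2 ⟨hst.period hinj hx, hcon x hx⟩)
      rw [hk, pow_mul, h2, one_pow]
    have h2 := hA _ (key _ n ⟨1, h1⟩ fun x hx => (hcount x hx).trans (Nat.lt_pow_self hp.one_lt).le)
    rcases (hr.dvd_mul).1 h2 with h3 | h3
    · obtain ⟨a, ha, h4⟩ := (Prime.dvd_finsetProd_iff (Nat.prime_iff.1 hr) _).1 h3
      rw [Finset.mem_Ico] at ha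
      exact hra a ha.1 ha.2 h4
    · exact hrp ((Nat.prime_dvd_prime_iff_eq hr hp).1 (hr.dvd_of_dvd_pow h3))
  have hcard : Λ.card ≤ n := by
    refine le_trans ?_ hsum.le
    rw [Finset.card_eq_sum_ones]
    exact Finset.sum_le_sum fun x hx => (hmem x).1 hx
  have hsub := hst.orb_subset hx
  have horb : (orb s x).card ≤ Λ.card := Finset.card_le_card hsub
  rw [card_orb] at horb
  have hper : minimalPeriod (zp s) x = n := le_antisymm (horb.trans hcard) hxn
  have hΛx : Λ = orb s x := (Finset.eq_of_subset_of_card_le hsub (by rw [card_orb, hper]; exact hcard)).symm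
  have hcardn : Λ.card = n := by rw [hΛx, card_orb, hper]
  have hm : ∀ y ∈ Λ, Y.charpoly.roots.count y = 1 := by
    have h1 : ∑ x ∈ Λ, 1 = ∑ x ∈ Λ, Y.charpoly.roots.count x := by
      rw [hsum, ← Finset.card_eq_sum_ones, hcardn]
    intro y hy
    exact ((Finset.sum_eq_sum_iff_of_le (fun x hx => (hmem x).1 hx)).1 h1 y hy).symm
  have hx0 := hst.ne x hx
  have ht0 : 0 < t := by have := P.ht2; omega
  have hcn : Nat.gcd n t ∣ n := Nat.gcd_dvd_left _ _
  obtain ⟨d, hd⟩ := Nat.gcd_dvd_right n t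
  set c := Nat.gcd n t with hc
  obtain ⟨d', hd'⟩ : ∃ d' : ℤ, s - 1 = c * d' := by
    have h1 : ((s - 1).natAbs : ℤ) = (c * d : ℕ) := by rw [P.ht, ← hd]
    rcases Int.natAbs_eq (s - 1) with h2 | h2
    · refine ⟨d, ?_⟩
      rw [h2, h1]; push_cast; ring
    · refine ⟨-d, ?_⟩
      rw [h2, h1]; push_cast; ring
  have hdvd : ∀ X : ℤ, (s - 1) ∣ X - n → (c : ℤ) ∣ X := by
    intro X hX
    have h1 : (c : ℤ) ∣ X - n := (Dvd.intro _ hd'.symm).trans hX
    have h2 : (c : ℤ) ∣ n := by exact_mod_cast hcn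
    have := dvd_add h1 h2
    rwa [sub_add_cancel] at this
  obtain ⟨e, he⟩ := hdvd (es s n) (es_modEq s n)
  have h1 : x ^ es s n = 1 := by
    have hpo := prod_orb (s := s) hx0
    rw [hper, ← hΛx] at hpo
    rw [← hpo, ← hprod]
    apply Finset.prod_congr rfl
    intro z hz
    rw [hm z hz, pow_one]
  have h2 : (x ^ e) ^ (s - 1) = 1 := by
    rw [← zpow_mul, hd', ← mul_assoc, mul_comm e, ← he, zpow_mul, h1, one_zpow]
  have h3 : ∀ t ∈ Λ, t ^ e = x ^ e := by
    intro t ht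
    rw [hΛx] at ht
    obtain ⟨i, -, rfl⟩ := mem_orb.1 ht
    exact iter_zpow_eq hx0 h2 i
  have h4 := key e.natAbs 0 (pow_natAbs_of_zpow h3) (fun t ht => by rw [hm t ht]; simp)
  rw [pow_zero, mul_one] at h4
  refine ⟨e.natAbs, h4, ?_⟩
  rw [ua_eq, he, Int.natAbs_mul, Int.natAbs_natCast, P.ht]
  ring

section

variable {F : Type*} [Field F] [Fintype F] {p f q n : ℕ} [Fact p.Prime] [CharP F p]

/-- the element orders divisible by a prime of the class `n` in `PSL_n(q)` -/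
theorem top_psl (hq : q = p ^ f) (hF : Fintype.card F = q) (hq3 : 3 ≤ q) (hn : 1 ≤ n)
    {r : ℕ} (hr : r.Prime) (hrp : r ≠ p) (hra : ∀ a, 1 ≤ a → a < n → ¬ r ∣ ua (q : ℤ) a)
    (g : Matrix.ProjectiveSpecialLinearGroup (Fin n) F) (hg : r ∣ orderOf g) :
    ∃ E, orderOf g ∣ E ∧ E * (Nat.gcd n (q - 1) * (q - 1)) = ua (q : ℤ) n := by
  classical
  obtain ⟨g, rfl⟩ := QuotientGroup.mk_surjective g
  set! A : Matrix (Fin n) (Fin n) F := ((g : Matrix.SpecialLinearGroup (Fin n) F) : Matrix (Fin n) (Fin n) F) with hA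
  let K := AlgebraicClosure F
  have hCP : CharP K p := charP_of_injective_algebraMap (algebraMap F K).injective p
  have hdetA : A.det = 1 := g.2
  have hzp : (zp (q : ℤ) : K → K) = fun x => x ^ q := by
    funext x
    rw [zp, zpow_natCast]
  have hinj : Injective (zp (q : ℤ) : K → K) := by
    rw [hzp]
    intro x y hxy
    apply (iterateFrobenius K p f).injective
    rw [iterateFrobenius_def, iterateFrobenius_def, ← hq]
    exact hxy
  have hcs : ∀ x, (A.map (algebraMap F K)).charpoly.roots.count (zp (q : ℤ) x) =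
      (A.map (algebraMap F K)).charpoly.roots.count x := by
    intro x
    set Y : Matrix (Fin n) (Fin n) K := A.map (algebraMap F K) with hY
    have h1 : (Y.map (iterateFrobenius K p f)).charpoly.roots = Y.charpoly.roots.map (iterateFrobenius K p f) := by
      rw [Matrix.charpoly_map]
      exact (IsAlgClosed.splits Y.charpoly).roots_map _
    have h2 : Y.map (iterateFrobenius K p f) = Y := by
      ext i j
      rw [hY, Matrix.map_apply, Matrix.map_apply, iterateFrobenius_def, ← map_pow, ← hq, ← hF, FiniteField.pow_card]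
    rw [h2] at h1
    have h3 : Multiset.count (iterateFrobenius K p f x) (Y.charpoly.roots.map (iterateFrobenius K p f)) =
        Y.charpoly.roots.count x := Multiset.count_map_eq_count' _ _ (iterateFrobenius K p f).injective x
    rw [← h1, iterateFrobenius_def, ← hq] at h3
    rw [hzp]
    exact h3
  have hscal : ∀ E, (∃ z : F, A ^ E = z • (1 : Matrix (Fin n) (Fin n) F)) →
      orderOf (QuotientGroup.mk g : Matrix.ProjectiveSpecialLinearGroup (Fin n) F) ∣ E := by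
    rintro E ⟨z, hz⟩
    apply orderOf_dvd_of_pow_eq_one
    have h4 : g ^ E ∈ Subgroup.center (Matrix.SpecialLinearGroup (Fin n) F) := by
      rw [Subgroup.mem_center_iff]
      intro h
      apply Subtype.ext
      show (h : Matrix (Fin n) (Fin n) F) * ((g ^ E : Matrix.SpecialLinearGroup (Fin n) F) : Matrix (Fin n) (Fin n) F) =
        ((g ^ E : Matrix.SpecialLinearGroup (Fin n) F) : Matrix (Fin n) (Fin n) F) * (h : Matrix (Fin n) (Fin n) F)
      rw [Matrix.SpecialLinearGroup.coe_pow, ← hA, hz, Matrix.mul_smul, Matrix.smul_mul, Matrix.mul_one, Matrix.one_mul]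
    rw [← QuotientGroup.mk_pow]
    exact (QuotientGroup.eq_one_iff _).2 h4
  obtain ⟨E, hz, hE⟩ := top_mat (par_plus hq3) hn A hdetA hinj hcs hr hrp hra
    (fun E hE => hg.trans (hscal E hE))
  exact ⟨E, hscal E hz, hE⟩

end

end Cfsg.Agent.R2.Spec.X7
end

private theorem dce_1b0b6d8a5ac4 : _root_.True := by
  try have : _root_.True := by simp only [_root_.Cfsg.Agent.R2.Spec.X7.ua.eq_1]
  try have : _root_.True := by simp only [_root_.Cfsg.Agent.R2.Spec.X7.zp.eq_1]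
  try have : _root_.True := by simp only [_root_.Cfsg.Agent.R2.Spec.X7.es.eq_1]
  try have : _root_.True := by simp only [_root_.Cfsg.Agent.R2.Spec.X7.orb.eq_1]
  exact _root_.True.intro
end

-- part: R2/Spec/X2/NonSol
section
set_option linter.all false
open scoped Cfsg.Agent.FastGrp

-- part: R2/Spec/X2/FrobSol
section
/-!
# Frobenius complements and 2-Frobenius groups: element orders (helper16)

* `zpowers_eq` : in a solvable group with a fixed-point-free action all elements of prime order `p ≥ 5` generate the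
  same subgroup;
* `exists_mul` : if moreover `y` has order `p`, and `w` has order prime to `p` then there is an element of order
  `p * (|w| / gcd(|w|, p - 1))`;
* `nonsolv_complement` : nonsolvable Frobenius complements have no elements of order 9, 16, 24;
* `not_isSolvable` : a criterion for nonsolvability.
-/

set_option autoImplicit false
set_option linter.unusedSectionVars false
set_option linter.unusedVariables false

namespace Cfsg.Agent.R2.Spec.X2

open Cfsg Cfsg.Agent.H348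

/-- a normal subgroup of order `p` in a Z-group with a fixed-point-free action -/
theorem exists_normalized {G : Type*} [Group G] [Finite G] [IsZGroup G] (h : HasFPF G) {p : ℕ} (hp : p.Prime)
    (hd : p ∣ Nat.card G) : ∃ y : G, orderOf y = p ∧ ∀ w : G, ∃ l : ℤ, w * y * w⁻¹ = y ^ l := by
  obtain ⟨x, y, r, hyN, hcl, hcard, hcop, hrel, hr1, hrc, hrn⟩ := zgroup_structure (G := G)
  have hn0 : 0 < orderOf x := orderOf_pos x
  have hm0 : 0 < orderOf y := orderOf_pos y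
  rw [← hcard] at hd
  by_cases hpm : p ∣ orderOf y
  · refine ⟨y ^ (orderOf y / p), ?_, ?_⟩
    · rw [orderOf_pow_of_dvd (Nat.div_pos (Nat.le_of_dvd hm0 hpm) hp.pos).ne' (Nat.div_dvd_of_dvd hpm),
        Nat.div_div_self hpm hm0.ne']
    · intro w
      have h1 : w * y * w⁻¹ ∈ Subgroup.zpowers y := by
        rw [hyN]
        refine Subgroup.Normal.conj_mem (inferInstance : (commutator G).Normal) y ?_ w
        rw [← hyN]
        exact Subgroup.mem_zpowers y
      obtain ⟨l, hl⟩ := h1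
      refine ⟨l, ?_⟩
      rw [← conj_pow]
      change y ^ l = _ at hl
      rw [← hl, ← zpow_natCast, ← zpow_natCast, ← zpow_mul, ← zpow_mul, mul_comm]
  · have hpn : p ∣ orderOf x := (hp.dvd_mul.1 hd).resolve_right hpm
    have hpc := h.pow_condition hcop hrel hrn
    set t := x ^ (orderOf x / p) with ht
    have hto : orderOf t = p := by
      rw [ht, orderOf_pow_of_dvd (Nat.div_pos (Nat.le_of_dvd hn0 hpn) hp.pos).ne' (Nat.div_dvd_of_dvd hpn),
        Nat.div_div_self hpn hn0.ne']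
    have hty : t⁻¹ * y * t = y := by
      have h1 : t⁻¹ * y * t = y ^ (r ^ (orderOf x / p)) := conj_pow_of_rel hrel (orderOf x / p)
      rw [h1]
      conv_rhs => rw [← pow_one y]
      rw [pow_eq_pow_iff_modEq]
      -- `rad n ∣ n`, `n / rad n ∣ n / p`
      have h2 : (∏ q ∈ (orderOf x).primeFactors, q) ∣ orderOf x := Nat.prod_primeFactors_dvd _
      have h3 : p ∣ ∏ q ∈ (orderOf x).primeFactors, q :=
        Finset.dvd_prod_of_mem _ (Nat.mem_primeFactors.2 ⟨hp, hpn, hn0.ne'⟩)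
      obtain ⟨a, ha⟩ := h3
      obtain ⟨b, hb⟩ := h2
      have hab : orderOf x / p = (orderOf x / ∏ q ∈ (orderOf x).primeFactors, q) * a := by
        have hR : 0 < ∏ q ∈ (orderOf x).primeFactors, q :=
          Finset.prod_pos fun q hq => (Nat.prime_of_mem_primeFactors hq).pos
        have h4 : orderOf x / ∏ q ∈ (orderOf x).primeFactors, q = b :=
          Nat.div_eq_of_eq_mul_right hR hb
        rw [h4]
        apply Nat.div_eq_of_eq_mul_right hp.pos
        calc orderOf x = (∏ q ∈ (orderOf x).primeFactors, q) * b := hb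
          _ = p * a * b := by rw [ha]
          _ = _ := by ring
      rw [hab, pow_mul]
      have h5 : r ^ (orderOf x / ∏ q ∈ (orderOf x).primeFactors, q) ≡ 1 [MOD orderOf y] := hpc
      have h6 := h5.pow a
      rwa [one_pow] at h6
    have hcy : Commute t y := by
      have h1 : y * t = t * y := by
        calc y * t = t * (t⁻¹ * y * t) := by group
          _ = t * y := by rw [hty]
      exact h1.symm
    have hcx : Commute t x := (Commute.refl x).pow_left _
    have hcent : t ∈ Subgroup.centralizer (Subgroup.closure {x, y} : Set G) := by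
      rw [Subgroup.centralizer_closure, Subgroup.mem_centralizer_iff]
      rintro a (rfl | rfl)
      · exact hcx.symm
      · exact hcy.symm
    refine ⟨t, hto, fun w => ⟨1, ?_⟩⟩
    rw [hcl, Subgroup.mem_centralizer_iff] at hcent
    have h1 : w * t = t * w := hcent w (Subgroup.mem_top w)
    rw [h1, zpow_one, mul_inv_cancel_right]

/-- powers of an automorphism given by an exponent -/
theorem conj_pow_zpow {G : Type*} [Group G] {w y : G} {l : ℤ} (h : w * y * w⁻¹ = y ^ l) (k : ℕ) :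
    w ^ k * y * (w ^ k)⁻¹ = y ^ (l ^ k) := by
  induction k with
  | zero => simp
  | succ k ih =>
    have h1 : w ^ (k + 1) * y * (w ^ (k + 1))⁻¹ = w * (w ^ k * y * (w ^ k)⁻¹) * w⁻¹ := by
      rw [pow_succ']
      group
    rw [h1, ih, ← conj_zpow, h, ← zpow_mul, pow_succ']

/-- an element of order `p` normalizing a subgroup of order `p` centralizes it; generally `w ^ (p - 1)` centralizes it -/
theorem commute_pow {G : Type*} [Group G] [Finite G] {p : ℕ} (hp : p.Prime) {w y : G} (hy : orderOf y = p) {l : ℤ}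
    (h : w * y * w⁻¹ = y ^ l) : Commute (w ^ (p - 1)) y ∧ (orderOf w = p → Commute w y) := by
  have hf : Fact p.Prime := ⟨hp⟩
  have hl0 : ((l : ℤ) : ZMod p) ≠ 0 := by
    intro h0
    rw [ZMod.intCast_zmod_eq_zero_iff_dvd] at h0
    have h1 : y ^ l = 1 := orderOf_dvd_iff_zpow_eq_one.1 (by rw [hy]; exact h0)
    rw [h1] at h
    have h2 : y = 1 := by
      have : y = w⁻¹ * (w * y * w⁻¹) * w := by group
      rw [this, h]
      group
    rw [h2, orderOf_one] at hy
    exact hp.one_lt.ne hy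
  have key : ∀ k : ℕ, ((l : ℤ) : ZMod p) ^ k = 1 → Commute (w ^ k) y := by
    intro k hk
    have h1 := conj_pow_zpow h k
    have h2 : y ^ (l ^ k) = y := by
      have h3 : ((l ^ k - 1 : ℤ) : ZMod p) = 0 := by
        push_cast
        rw [hk, sub_self]
      rw [ZMod.intCast_zmod_eq_zero_iff_dvd] at h3
      have h4 : y ^ (l ^ k - 1) = 1 := orderOf_dvd_iff_zpow_eq_one.1 (by rw [hy]; exact h3)
      rw [zpow_sub, zpow_one, mul_inv_eq_one] at h4
      exact h4
    rw [h2] at h1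
    exact mul_inv_eq_iff_eq_mul.1 h1
  refine ⟨key _ (ZMod.pow_card_sub_one_eq_one hl0), ?_⟩
  intro hw
  have h1 : ((l : ℤ) : ZMod p) = 1 := by
    have h2 := conj_pow_zpow h p
    rw [← hw, pow_orderOf_eq_one, one_mul, inv_one, mul_one, hw] at h2
    have h3 : y ^ (l ^ p - 1) = 1 := by
      rw [zpow_sub, ← h2, zpow_one, mul_inv_cancel]
    have h4 : (orderOf y : ℤ) ∣ l ^ p - 1 := orderOf_dvd_iff_zpow_eq_one.2 h3
    rw [hy] at h4
    have h5 := (ZMod.intCast_zmod_eq_zero_iff_dvd (l ^ p - 1) p).2 h4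
    push_cast at h5
    rw [ZMod.pow_card] at h5
    exact sub_eq_zero.1 h5
  have h2 := key 1 (by rw [h1, one_pow])
  rwa [pow_one] at h2

/-- **elements of order `p ≥ 5`** -/
theorem zpowers_eq {C : Type*} [Group C] [Finite C] [Group.IsSolvable C] (h : HasFPF C) {p : ℕ} (hp : p.Prime)
    (hp5 : 5 ≤ p) {z z' : C} (hz : orderOf z = p) (hz' : orderOf z' = p) :
    Subgroup.zpowers z = Subgroup.zpowers z' := by
  obtain ⟨G₀, hn, ⟨f, hf⟩, hZ⟩ := h.solvable
  have hmem : ∀ z : C, orderOf z = p → z ∈ G₀ := by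
    intro z hz
    rw [← hf, MonoidHom.mem_ker, ← orderOf_eq_one_iff]
    have h1 : orderOf (f z) ∣ p := by rw [← hz]; exact orderOf_map_dvd f z
    have h2 : orderOf (f z) ∣ Nat.card (Equiv.Perm (Fin 4)) := orderOf_dvd_natCard _
    have h3 : Nat.card (Equiv.Perm (Fin 4)) = 24 := by
      rw [Nat.card_eq_fintype_card, Fintype.card_perm, Fintype.card_fin]
      rfl
    rw [h3] at h2
    rcases (Nat.dvd_prime hp).1 h1 with h4 | h4
    · exact h4
    · exfalso
      rw [h4] at h2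
      have h5 : (24 : ℕ) = 2 ^ 3 * 3 := by norm_num
      rw [h5] at h2
      rcases hp.dvd_mul.1 h2 with h6 | h6
      · have := (Nat.prime_dvd_prime_iff_eq hp Nat.prime_two).1 (hp.dvd_of_dvd_pow h6)
        omega
      · have := (Nat.prime_dvd_prime_iff_eq hp Nat.prime_three).1 h6
        omega
  have h0 := h.subgroup G₀
  have hpG : p ∣ Nat.card G₀ := by
    have h1 := orderOf_dvd_natCard (⟨z, hmem z hz⟩ : G₀)
    rwa [Subgroup.orderOf_mk, hz] at h1
  obtain ⟨y, hy, hyn⟩ := exists_normalized h0 hp hpG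
  have key : ∀ z : C, ∀ hz : orderOf z = p, Subgroup.zpowers (⟨z, hmem z hz⟩ : G₀) = Subgroup.zpowers y := by
    intro z hz
    have hzo : orderOf (⟨z, hmem z hz⟩ : G₀) = p := by rw [Subgroup.orderOf_mk, hz]
    obtain ⟨l, hl⟩ := hyn ⟨z, hmem z hz⟩
    have hc := (commute_pow hp hy hl).2 hzo
    exact h0.zpowers_eq hc (hzo.trans hy.symm)
  have h1 := (key z hz).trans (key z' hz').symm
  have h2 := congrArg (Subgroup.map G₀.subtype) h1
  rw [MonoidHom.map_zpowers, MonoidHom.map_zpowers] at h2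
  exact h2

/-- **elements of composite order in solvable Frobenius complements** -/
theorem exists_mul {C : Type*} [Group C] [Finite C] [Group.IsSolvable C] (h : HasFPF C) {p : ℕ} (hp : p.Prime)
    (hp5 : 5 ≤ p) {y w : C} (hy : orderOf y = p) (hw : ¬ p ∣ orderOf w) :
    ∃ z : C, orderOf z = p * (orderOf w / Nat.gcd (orderOf w) (p - 1)) := by
  have h1 : orderOf (w * y * w⁻¹) = p := by
    rw [← hy]
    exact MulEquiv.orderOf_eq (MulAut.conj w) y
  have h2 : w * y * w⁻¹ ∈ Subgroup.zpowers y := by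
    rw [← zpowers_eq h hp hp5 h1 hy]
    exact Subgroup.mem_zpowers _
  obtain ⟨l, hl⟩ := h2
  have hc := (commute_pow hp hy hl.symm).1
  have hp1 : p - 1 ≠ 0 := by omega
  have ho : orderOf (w ^ (p - 1)) = orderOf w / Nat.gcd (orderOf w) (p - 1) := orderOf_pow' w hp1
  have hcop : Nat.Coprime (orderOf (w ^ (p - 1))) (orderOf y) := by
    rw [hy, Nat.coprime_comm, Nat.Prime.coprime_iff_not_dvd hp, ho]
    intro hd
    exact hw (hd.trans (Nat.div_dvd_of_dvd (Nat.gcd_dvd_left _ _)))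
  refine ⟨w ^ (p - 1) * y, ?_⟩
  rw [hc.orderOf_mul_eq_mul_orderOf_of_coprime hcop, ho, hy, mul_comm]

/-- Frobenius complements act fixed-point-freely (any universe) -/
theorem hasFPF_complement {G : Type*} [Group G] [Finite G] {C : Subgroup G} (hC : IsFrobeniusComplement C) :
    HasFPF C := by
  let f : G ≃* Shrink.{0} G := Shrink.mulEquiv.symm
  have hfin : Finite (Shrink.{0} G) := Finite.of_equiv G f.toEquiv
  exact hasFPF_of_exists ⟨Shrink.{0} G, inferInstance, hfin, C.map f.toMonoidHom,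
    H495.Frob.isFrobeniusComplement_map f hC, ⟨C.equivMapOfInjective f.toMonoidHom f.injective⟩⟩

open Cfsg.Agent.PermutationGroups.AutSL25 in
theorem SL25_eight : ∀ x : SL25, x ^ 8 = 1 → x ^ 4 = 1 := by (set_option synthInstance.maxSize 20000 in open scoped Cfsg.Agent.Lib.MatDec in decide +kernel)

open Cfsg.Agent.PermutationGroups.AutSL25 in
theorem SL25_nine : ∀ x : SL25, x ^ 9 = 1 → x ^ 3 = 1 := by (set_option synthInstance.maxSize 20000 in open scoped Cfsg.Agent.Lib.MatDec in decide +kernel)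

open Cfsg.Agent.PermutationGroups.AutSL25 in
theorem SL25_twelve : ∀ x : SL25, x ^ 12 = 1 → x ^ 4 = 1 ∨ x ^ 6 = 1 := by (set_option synthInstance.maxSize 20000 in open scoped Cfsg.Agent.Lib.MatDec in decide +kernel)

open Matrix in
/-- **Nonsolvable Frobenius complements**: no elements of order 9, 16, 24; the order is divisible by 30; elements of order
`3 s`. -/
theorem nonsolv_complement {G : Type*} [Group G] [Finite G] {C : Subgroup G} (hC : IsFrobeniusComplement C)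
    (hns : ¬ Group.IsSolvable C) : 30 ∣ Nat.card C ∧ (¬ ∃ x : C, orderOf x = 9) ∧ (¬ ∃ x : C, orderOf x = 16) ∧
      (¬ ∃ x : C, orderOf x = 24) ∧ ∀ s : ℕ, s.Prime → 7 ≤ s → s ∣ Nat.card C → ∃ x : C, orderOf x = 3 * s := by
  classical
  let f : G ≃* Shrink.{0} G := Shrink.mulEquiv.symm
  have hfin : Finite (Shrink.{0} G) := Finite.of_equiv G f.toEquiv
  obtain ⟨G₀, hG₀, hidx, S, M, hSM, hinf, hcomm, ⟨e⟩, -, hcop⟩ :=
    Cfsg.Agent.S3359.result (G := C) hns
      ⟨Shrink.{0} G, inferInstance, hfin, C.map f.toMonoidHom, H495.Frob.isFrobeniusComplement_map f hC,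
        ⟨C.equivMapOfInjective f.toMonoidHom f.injective⟩⟩
  have hS : Nat.card S = 120 := by
    rw [Nat.card_congr e.toEquiv]
    exact Cfsg.Agent.PermutationGroups.AutSL25.natCard
  have hG0 : Nat.card G₀ = 120 * Nat.card M := by
    rw [← hSM, Cfsg.Agent.OddOrderLocal.CommProd.card_sup_of_comm hcomm hinf, hS]
  have h5 : 30 ∣ Nat.card C := by
    refine dvd_trans ?_ (Subgroup.card_subgroup_dvd_card G₀)
    rw [hG0]
    exact Dvd.dvd.mul_right (by norm_num) _
  have key : ∀ x : C, (∀ r : ℕ, r.Prime → r ∣ orderOf x → r ∣ 30) →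
      ∃ s : Matrix.SpecialLinearGroup (Fin 2) (ZMod 5), orderOf s = orderOf (x ^ 2) := by
    intro x hx
    have h1 : x ^ 2 ∈ G₀ := by
      have h2 := Subgroup.pow_index_mem G₀ x
      rcases hidx with h3 | h3
      · rw [h3, pow_one] at h2
        exact G₀.pow_mem h2 2
      · rwa [h3] at h2
    rw [← hSM, Cfsg.Agent.OddOrderLocal.CommProd.mem_sup_of_comm hcomm] at h1
    obtain ⟨s, hs, m, hm, hsm⟩ := h1
    have hc : Commute s m := hcomm s hs m hm
    have hcopM : Nat.Coprime (orderOf (x ^ 2)) (Nat.card M) := by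
      refine Nat.Coprime.coprime_dvd_left (orderOf_pow_dvd 2) ?_
      refine Nat.coprime_of_dvd fun r hr h3 h4 => ?_
      exact hr.one_lt.ne' (Nat.eq_one_of_dvd_coprimes hcop h4 (hx r hr h3))
    have h3 : (x ^ 2) ^ Nat.card M = s ^ Nat.card M := by
      rw [hsm, hc.mul_pow]
      have : m ^ Nat.card M = 1 := by
        have := pow_card_eq_one' (x := (⟨m, hm⟩ : M))
        exact congrArg Subtype.val this
      rw [this, mul_one]
    have h4 : orderOf ((x ^ 2) ^ Nat.card M) = orderOf (x ^ 2) := Nat.Coprime.orderOf_pow hcopM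
    have h5 : s ^ Nat.card M ∈ S := S.pow_mem hs _
    refine ⟨e ⟨s ^ Nat.card M, h5⟩, ?_⟩
    rw [MulEquiv.orderOf_eq, Subgroup.orderOf_mk, ← h3, h4]
  refine ⟨h5, ?_, ?_, ?_, ?_⟩
  · rintro ⟨x, hx⟩
    obtain ⟨s, hs⟩ := key x (by
      intro r hr hd
      rw [hx] at hd
      have h9 : (9 : ℕ) = 3 ^ 2 := by norm_num
      rw [h9] at hd
      rw [(Nat.prime_dvd_prime_iff_eq hr Nat.prime_three).1 (hr.dvd_of_dvd_pow hd)]
      norm_num)
    have h1 : orderOf s = 9 := by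
      rw [hs, orderOf_pow' x (by norm_num), hx]
      norm_num
    have h2 := SL25_nine s (by rw [← h1]; exact pow_orderOf_eq_one s)
    have h3 := orderOf_dvd_of_pow_eq_one h2
    rw [h1] at h3
    norm_num at h3
  · rintro ⟨x, hx⟩
    obtain ⟨s, hs⟩ := key x (by
      intro r hr hd
      rw [hx] at hd
      have h9 : (16 : ℕ) = 2 ^ 4 := by norm_num
      rw [h9] at hd
      rw [(Nat.prime_dvd_prime_iff_eq hr Nat.prime_two).1 (hr.dvd_of_dvd_pow hd)]
      norm_num)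
    have h1 : orderOf s = 8 := by
      rw [hs, orderOf_pow' x (by norm_num), hx]
      norm_num
    have h2 := SL25_eight s (by rw [← h1]; exact pow_orderOf_eq_one s)
    have h3 := orderOf_dvd_of_pow_eq_one h2
    rw [h1] at h3
    norm_num at h3
  · rintro ⟨x, hx⟩
    obtain ⟨s, hs⟩ := key x (by
      intro r hr hd
      rw [hx] at hd
      have h9 : (24 : ℕ) = 2 ^ 3 * 3 := by norm_num
      rw [h9] at hd
      rcases hr.dvd_mul.1 hd with hd | hd
      · rw [(Nat.prime_dvd_prime_iff_eq hr Nat.prime_two).1 (hr.dvd_of_dvd_pow hd)]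
        norm_num
      · rw [(Nat.prime_dvd_prime_iff_eq hr Nat.prime_three).1 hd]
        norm_num)
    have h1 : orderOf s = 12 := by
      rw [hs, orderOf_pow' x (by norm_num), hx]
      norm_num
    rcases SL25_twelve s (by rw [← h1]; exact pow_orderOf_eq_one s) with h2 | h2
    · have h3 := orderOf_dvd_of_pow_eq_one h2
      rw [h1] at h3
      norm_num at h3
    · have h3 := orderOf_dvd_of_pow_eq_one h2
      rw [h1] at h3
      norm_num at h3
  · intro s hs hs7 hsC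
    have h1 : s ∣ 240 * Nat.card M := by
      have h2 := Subgroup.card_mul_index G₀
      rw [← h2, hG0] at hsC
      rcases hidx with h | h
      · rw [h, mul_one] at hsC
        exact hsC.trans (mul_dvd_mul_right (by norm_num) _)
      · rw [h, mul_right_comm] at hsC
        exact hsC
    have h2 : s ∣ Nat.card M := by
      rcases hs.dvd_mul.1 h1 with h2 | h2
      · exfalso
        have e240 : 240 = 2 ^ 4 * 3 * 5 := by norm_num
        rw [e240] at h2
        rcases hs.dvd_mul.1 h2 with h3 | h3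
        · rcases hs.dvd_mul.1 h3 with h4 | h4
          · have := (Nat.prime_dvd_prime_iff_eq hs Nat.prime_two).1 (hs.dvd_of_dvd_pow h4)
            omega
          · have := (Nat.prime_dvd_prime_iff_eq hs Nat.prime_three).1 h4
            omega
        · have := (Nat.prime_dvd_prime_iff_eq hs Nat.prime_five).1 h3
          omega
      · exact h2
    have hsf : Fact s.Prime := ⟨hs⟩
    obtain ⟨m, hm⟩ := exists_prime_orderOf_dvd_card' (G := M) s h2
    have hm' : orderOf (m : C) = s := by rw [Subgroup.orderOf_coe, hm]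
    have hcs : Nat.Coprime 3 s := (Nat.coprime_primes Nat.prime_three hs).2 (by omega)
    have h3f : Fact (Nat.Prime 3) := ⟨Nat.prime_three⟩
    obtain ⟨z, hz⟩ := exists_prime_orderOf_dvd_card' (G := S) 3 (by rw [hS]; norm_num)
    have h3 : orderOf (z : C) = 3 := by rw [Subgroup.orderOf_coe, hz]
    have h4 : Commute (z : C) (m : C) := hcomm _ z.2 _ m.2
    refine ⟨(z : C) * (m : C), ?_⟩
    rw [h4.orderOf_mul_eq_mul_orderOf_of_coprime (by rw [h3, hm']; exact hcs), h3, hm']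

/-- **2-Frobenius groups** -/
theorem two_frob_data {G : Type*} [Group G] [Finite G] (H K : Subgroup G) [H.Normal] [K.Normal] (hlt : H < K)
    (hK : ∃ C : Subgroup ↥K, IsFrobeniusComplement C ∧ frobeniusKernel C = (H.subgroupOf K : Set ↥K))
    (hGH : ∃ C : Subgroup (G ⧸ H), IsFrobeniusComplement C ∧
      frobeniusKernel C = (K.map (QuotientGroup.mk' H) : Set (G ⧸ H))) :
    Group.IsNilpotent H ∧ IsCyclic (↥K ⧸ H.subgroupOf K) ∧
      Nat.card (↥K ⧸ H.subgroupOf K) % Nat.card (G ⧸ K) = 1 % Nat.card (G ⧸ K) := by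
  obtain ⟨C, hC, hCk⟩ := hK
  obtain ⟨D, hD, hDk⟩ := hGH
  set N : Subgroup K := H.subgroupOf K with hN
  set M : Subgroup (G ⧸ H) := K.map (QuotientGroup.mk' H) with hM
  obtain ⟨hNn, hNnil, hNc, hNne, hNf, hNcop⟩ := H496.TwoFrob.basic hC hCk
  obtain ⟨hMn, hMnil, hMc, hMne, hMf, hMcop⟩ := H496.TwoFrob.basic hD hDk
  have e0 : Nonempty (K ⧸ N ≃* M) := by
    let f : K →* M := (QuotientGroup.mk' H).subgroupMap K
    have hf : Function.Surjective f := (QuotientGroup.mk' H).subgroupMap_surjective K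
    have hker : f.ker = N := by
      ext x
      rw [MonoidHom.mem_ker, hN, Subgroup.mem_subgroupOf, Subtype.ext_iff]
      exact QuotientGroup.eq_one_iff (x : G)
    exact ⟨(QuotientGroup.quotientMulEquivOfEq hker.symm).trans
      (QuotientGroup.quotientKerEquivOfSurjective f hf)⟩
  obtain ⟨e0⟩ := e0
  have e1 : K ⧸ N ≃* C := hNc.symm.QuotientMulEquiv
  have e2 : (G ⧸ H) ⧸ M ≃* D := hMc.symm.QuotientMulEquiv
  have e3 : (G ⧸ H) ⧸ M ≃* G ⧸ K := QuotientGroup.quotientQuotientEquivQuotient H K hlt.le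
  have e4 : C ≃* M := e1.symm.trans e0
  have e5 : N ≃* H := Subgroup.subgroupOfEquivOfLe hlt.le
  have hodd : Odd (Nat.card C) := H496.TwoFrob.odd_of_kernel hC hCk hD hDk e4
  have hCnil : Group.IsNilpotent C := Group.nilpotent_of_mulEquiv e4.symm
  have hHnil : Group.IsNilpotent H := Group.nilpotent_of_mulEquiv e5
  have hCcyc : IsCyclic C := H496.TwoFrob.isCyclic_of_odd hC hCk hCnil hodd
  refine ⟨hHnil, isCyclic_of_surjective e1.symm e1.symm.surjective, ?_⟩
  have h1 := (Cfsg.Agent.S0034.result D hD).2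
  have h2 : D.index = Nat.card M := hMc.index_eq_card
  have hcM : Nat.card (K ⧸ N) = Nat.card M := Nat.card_congr e0.toEquiv
  have hcD : Nat.card (G ⧸ K) = Nat.card D := Nat.card_congr (e3.symm.trans e2).toEquiv
  rw [hcM, hcD, ← h2]
  exact h1

end Cfsg.Agent.R2.Spec.X2
end

-- part: R2/Spec/X2/NonSol
section
/-!
# A criterion for nonsolvability (helper16)
-/

set_option autoImplicit false

namespace Cfsg.Agent.R2.Spec.X2

open Cfsg Cfsg.Agent.H348
open scoped Pointwise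

/-- the prime graph is disconnected -/
theorem disc {G : Type*} [Group G] [Finite G] {n : ℕ} (hn : ∃ g : G, orderOf g = n) (hn1 : 1 < n) (hno : Odd n)
    (hiso : ∀ (g : G) (r : ℕ), r.Prime → r ∣ n → r ∣ orderOf g → orderOf g ∣ n) (h2 : 2 ∣ Nat.card G) :
    (∃ B : Set ℕ, (∃ a ∈ B, a.Prime ∧ a ∣ Nat.card G) ∧ (∃ b ∉ B, b.Prime ∧ b ∣ Nat.card G) ∧
      ∀ a ∈ B, ∀ b ∉ B, a.Prime → b.Prime → a ∣ Nat.card G → b ∣ Nat.card G → ¬ ∃ g : G, orderOf g = a * b) := by
  obtain ⟨r, hr, hrn⟩ := Nat.exists_prime_and_dvd hn1.ne'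
  obtain ⟨g, hg⟩ := hn
  refine ⟨{a | a ∣ n}, ⟨r, hrn, hr, ?_⟩, ⟨2, ?_, Nat.prime_two, h2⟩, ?_⟩
  · refine hrn.trans ?_
    rw [← hg]
    exact orderOf_dvd_natCard g
  · show ¬ 2 ∣ n
    rw [← even_iff_two_dvd, Nat.not_even_iff_odd]
    exact hno
  · rintro a ha b hb hap _ _ _ ⟨g, hg⟩
    have h1 := hiso g a hap ha (by rw [hg]; exact dvd_mul_right a b)
    rw [hg] at h1
    exact hb ((dvd_mul_left b a).trans h1)

/-- elements of a Frobenius group -/
theorem mem_of_dvd_kernel {G : Type*} [Group G] [Finite G] {K C : Subgroup G}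
    (hcop : (Nat.card K).Coprime (Nat.card C)) (hall : ∀ x : G, x ∈ K ∨ ∃ g : G, x ∈ MulAut.conj g • C) {x : G} {r : ℕ}
    (hr : r.Prime) (hx : r ∣ orderOf x) :
    (r ∣ Nat.card K → x ∈ K) ∧ (r ∣ Nat.card C → ∃ c : C, orderOf c = orderOf x) := by
  rcases hall x with h1 | ⟨g, h1⟩
  · refine ⟨fun _ => h1, fun h2 => ?_⟩
    exfalso
    have h3 : r ∣ Nat.card K := hx.trans (Subgroup.orderOf_dvd_natCard K h1)
    exact hr.one_lt.ne' (Nat.eq_one_of_dvd_coprimes hcop h3 h2)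
  · obtain ⟨c, hc, rfl⟩ := h1
    have ho : orderOf (MulAut.conj g c) = orderOf c := MulEquiv.orderOf_eq _ _
    refine ⟨fun h2 => ?_, fun _ => ⟨⟨c, hc⟩, ?_⟩⟩
    · exfalso
      change r ∣ orderOf (MulAut.conj g c) at hx
      rw [ho] at hx
      have h3 : r ∣ Nat.card C := hx.trans (Subgroup.orderOf_dvd_natCard C hc)
      exact hr.one_lt.ne' (Nat.eq_one_of_dvd_coprimes hcop h2 h3)
    · rw [Subgroup.orderOf_mk]
      exact ho.symm

/-- **A criterion for nonsolvability.** -/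
theorem not_isSolvable {G : Type*} [Group G] [Finite G] {n p a w : ℕ} (hp : p.Prime) (hp5 : 5 ≤ p)
    (hn : ∃ g : G, orderOf g = n) (hn1 : 1 < n) (hno : Odd n)
    (hiso : ∀ (g : G) (r : ℕ), r.Prime → r ∣ n → r ∣ orderOf g → orderOf g ∣ n)
    (h2p : ∃ g : G, orderOf g = 2 * p)
    (hw : ∃ g : G, orderOf g = w) (hw2 : 2 ∣ w) (hwp : ¬ p ∣ w)
    (hwno : ¬ ∃ g : G, orderOf g = p * (w / Nat.gcd w (p - 1)))
    (ha : ∃ g : G, orderOf g = 2 ^ (a + 1)) (ha1 : 1 ≤ a) (hano : ¬ ∃ g : G, orderOf g = 2 ^ a * p)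
    (hnp : ¬ p ∣ n - 1) (hn4 : ¬ 4 ∣ n - 1) : ¬ Group.IsSolvable G := by
  classical
  intro hsol
  have hp2 : p ≠ 2 := by omega
  obtain ⟨g2, hg2⟩ := ha
  obtain ⟨gp, hgp⟩ := h2p
  obtain ⟨gw, hgw⟩ := hw
  obtain ⟨gn, hgn⟩ := id hn
  have h22 : 2 ∣ orderOf g2 := by
    rw [hg2, pow_succ]
    exact dvd_mul_left 2 _
  have h2G : 2 ∣ Nat.card G := h22.trans (orderOf_dvd_natCard g2)
  -- the element of order `p`
  obtain ⟨y, hy⟩ : ∃ y : G, orderOf y = p ∧ ∃ k : ℕ, y = gp ^ k := by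
    refine ⟨gp ^ 2, ?_, 2, rfl⟩
    rw [orderOf_pow' gp (by norm_num), hgp, Nat.gcd_mul_right_left, Nat.mul_div_cancel_left _ (by norm_num)]
  have hpn : ¬ p ∣ n := by
    intro h
    have h1 := hiso gp p hp h (by rw [hgp]; exact dvd_mul_left _ _)
    rw [hgp] at h1
    exact (Nat.not_even_iff_odd.2 hno) (even_iff_two_dvd.2 ((dvd_mul_right 2 p).trans h1))
  rcases S3856.result (G := G) (even_iff_two_dvd.2 h2G) (disc hn hn1 hno hiso h2G) with ⟨C, hC⟩ |
    ⟨H0, K0, hH0, hK0, hlt, h1, h2⟩ | ⟨N, M, hN, hM, hNM, -, -, h3, h4⟩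
  · -- Frobenius
    obtain ⟨K, -, hKn, hKnil, hKC, hcop, -, hall⟩ := H495.Frob.frob_data C hC
    have hyp := hy.1
    have hdy : p ∣ orderOf y := by rw [hyp]
    have hd := H495.Frob.orderOf_dvd hall gp
    rw [hgp] at hd
    rcases hd with hd | hd
    · -- the kernel
      have h2K : 2 ∣ Nat.card K := (dvd_mul_right _ _).trans hd
      have hpK : p ∣ Nat.card K := (dvd_mul_left _ _).trans hd
      have hg2K := (mem_of_dvd_kernel hcop hall Nat.prime_two h22).1 h2K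
      have hyK := (mem_of_dvd_kernel hcop hall hp hdy).1 hpK
      have hc : Commute (⟨g2, hg2K⟩ : K) ⟨y, hyK⟩ := by
        apply Lib.NilpotentCoprime.commute_of_coprime_orderOf
        rw [Subgroup.orderOf_mk, Subgroup.orderOf_mk, hg2, hyp]
        exact Nat.Coprime.pow_left _ ((Nat.coprime_primes Nat.prime_two hp).2 hp2.symm)
      have hc' : Commute g2 y := congrArg Subtype.val hc
      obtain ⟨z, hz⟩ := H496.TwoFrob.exists_of_commute (p := 2 ^ a) (q := p)
        (Nat.Coprime.pow_left _ ((Nat.coprime_primes Nat.prime_two hp).2 hp2.symm))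
        (x := g2) (y := y) (by rw [hg2]; exact pow_dvd_pow 2 (Nat.le_succ a)) hdy hc'
      exact hano ⟨z, hz⟩
    · -- the complement
      have h2C : 2 ∣ Nat.card C := (dvd_mul_right _ _).trans hd
      have hpC : p ∣ Nat.card C := (dvd_mul_left _ _).trans hd
      obtain ⟨w', hw'⟩ := (mem_of_dvd_kernel hcop hall Nat.prime_two (x := gw) (by rw [hgw]; exact hw2)).2 h2C
      obtain ⟨y', hy'⟩ := (mem_of_dvd_kernel hcop hall hp hdy).2 hpC
      rw [hgw] at hw'
      rw [hyp] at hy'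
      obtain ⟨z, hz⟩ := exists_mul (hasFPF_complement hC) hp hp5 hy' (w := w') (by rw [hw']; exact hwp)
      refine hwno ⟨(z : G), ?_⟩
      rw [Subgroup.orderOf_coe, hz, hw']
  · -- 2-Frobenius
    have := hH0
    have := hK0
    obtain ⟨hnil, hcyc, hmod⟩ := two_frob_data H0 K0 hlt h1 h2
    obtain ⟨-, hodd, hcop, -, hgraph⟩ := S4001.result H0 K0 hlt h1 h2
    set B := Nat.card (↥K0 ⧸ H0.subgroupOf K0) with hB
    have hcop1 : Nat.Coprime B (Nat.card H0) := Nat.Coprime.coprime_dvd_right (dvd_mul_right _ _) hcop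
    have hcop2 : Nat.Coprime B (Nat.card (G ⧸ K0)) := Nat.Coprime.coprime_dvd_right (dvd_mul_left _ _) hcop
    have h2B : ¬ 2 ∣ B := by
      rw [← even_iff_two_dvd, Nat.not_even_iff_odd]
      exact hodd
    have hpG : p ∣ Nat.card G := by
      rw [← hy.1]
      exact orderOf_dvd_natCard y
    -- primes of `n`
    have hnB : ∀ r : ℕ, r.Prime → r ∣ n → r ∣ B := by
      intro r hr hrn
      by_contra hrB
      have hrG : r ∣ Nat.card G := hrn.trans (by rw [← hgn]; exact orderOf_dvd_natCard gn)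
      have hr2 : r ≠ 2 := by
        rintro rfl
        exact (Nat.not_even_iff_odd.2 hno) (even_iff_two_dvd.2 hrn)
      obtain ⟨g, hg⟩ := (hgraph r 2 hr Nat.prime_two hr2 hrG h2G).2 (by (clear * - h2B hrB; tauto))
      have h5 := hiso g r hr hrn (by rw [hg]; exact dvd_mul_right _ _)
      rw [hg] at h5
      exact (Nat.not_even_iff_odd.2 hno) (even_iff_two_dvd.2 ((dvd_mul_left 2 r).trans h5))
    obtain ⟨r, hr, hrn⟩ := Nat.exists_prime_and_dvd hn1.ne'
    have hrB := hnB r hr hrn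
    -- `B ∣ n`
    have hBn : B ∣ n := by
      obtain ⟨b, hb⟩ := IsCyclic.exists_ofOrder_eq_natCard (α := ↥K0 ⧸ H0.subgroupOf K0)
      obtain ⟨b, rfl⟩ := QuotientGroup.mk'_surjective _ b
      have h5 : B ∣ orderOf (b : G) := by
        rw [hB, ← hb, Subgroup.orderOf_coe]
        exact orderOf_map_dvd _ b
      exact h5.trans (hiso b r hr hrn (hrB.trans h5))
    -- `n ∣ B`
    have hnB' : n ∣ B := by
      have h5 : gn ∈ K0 := by
        apply H375.Reduce.mem_of_coprime K0 gn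
        rw [hgn]
        refine Nat.coprime_of_dvd fun s hs h6 h7 => ?_
        exact hs.one_lt.ne' (Nat.eq_one_of_dvd_coprimes hcop2 (hnB s hs h6) h7)
      have h6 : orderOf (QuotientGroup.mk' (H0.subgroupOf K0) ⟨gn, h5⟩) = n := by
        have h7 : (orderOf (⟨gn, h5⟩ : K0)) = n := by rw [Subgroup.orderOf_mk, hgn]
        have h8 : orderOf (QuotientGroup.mk' (H0.subgroupOf K0) ⟨gn, h5⟩) ∣ n := by
          rw [← h7]
          exact orderOf_map_dvd _ _
        refine Nat.dvd_antisymm h8 ?_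
        set o := orderOf (QuotientGroup.mk' (H0.subgroupOf K0) ⟨gn, h5⟩) with ho
        have h9 : (⟨gn, h5⟩ : K0) ^ o ∈ H0.subgroupOf K0 := by
          rw [← QuotientGroup.eq_one_iff]
          exact pow_orderOf_eq_one (QuotientGroup.mk' (H0.subgroupOf K0) ⟨gn, h5⟩)
        rw [Subgroup.mem_subgroupOf] at h9
        have h10 : gn ^ o = 1 := by
          rw [← orderOf_eq_one_iff]
          have h11 : orderOf (gn ^ o) ∣ n := by rw [← hgn]; exact orderOf_pow_dvd o
          have h12 : orderOf (gn ^ o) ∣ Nat.card H0 := Subgroup.orderOf_dvd_natCard H0 h9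
          by_contra h13
          obtain ⟨s, hs, h14⟩ := Nat.exists_prime_and_dvd h13
          exact hs.one_lt.ne' (Nat.eq_one_of_dvd_coprimes hcop1 (hnB s hs (h14.trans h11)) (h14.trans h12))
        rw [← hgn]
        exact orderOf_dvd_of_pow_eq_one h10
      rw [hB, ← h6]
      exact orderOf_dvd_natCard _
    have hBeq : B = n := Nat.dvd_antisymm hBn hnB'
    rw [hBeq] at hmod hcop1 hcop2 h2B
    -- `|G / K0|` divides `n - 1`
    have hdvd : Nat.card (G ⧸ K0) ∣ n - 1 := by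
      have h5 : 1 ≡ n [MOD Nat.card (G ⧸ K0)] := hmod.symm
      exact (Nat.modEq_iff_dvd' (by omega)).1 h5
    -- a `p`-element and a 2-element in `H0`
    have hH : ∀ x : G, ∀ s : ℕ, s.Prime → (∀ t, t.Prime → t ∣ orderOf x → t = s) → ¬ s ∣ n → x ∈ K0 → x ∈ H0 := by
      intro x s hs hxs hsn hx
      have h5 : orderOf (QuotientGroup.mk' (H0.subgroupOf K0) ⟨x, hx⟩) = 1 := by
        by_contra h6
        obtain ⟨t, ht, h7⟩ := Nat.exists_prime_and_dvd h6
        have h8 : t ∣ orderOf x := by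
          refine h7.trans ?_
          have := orderOf_map_dvd (QuotientGroup.mk' (H0.subgroupOf K0)) (⟨x, hx⟩ : K0)
          rwa [Subgroup.orderOf_mk] at this
        have h9 := hxs t ht h8
        rw [h9] at h7
        apply hsn
        rw [← hBeq]
        exact h7.trans (orderOf_dvd_natCard _)
      rw [orderOf_eq_one_iff] at h5
      have h6 : (⟨x, hx⟩ : K0) ∈ H0.subgroupOf K0 := (QuotientGroup.eq_one_iff _).1 h5
      exact h6
    have hyH : y ∈ H0 := by
      refine hH y p hp ?_ hpn ?_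
      · intro t ht h5
        rw [hy.1] at h5
        exact (Nat.prime_dvd_prime_iff_eq ht hp).1 h5
      · rw [← QuotientGroup.eq_one_iff]
        have h5 : orderOf (y : G ⧸ K0) ∣ p := by
          rw [← hy.1]
          exact orderOf_map_dvd (QuotientGroup.mk' K0) y
        rcases (Nat.dvd_prime hp).1 h5 with h6 | h6
        · exact orderOf_eq_one_iff.1 h6
        · exfalso
          apply hnp
          rw [← h6]
          exact (orderOf_dvd_natCard _).trans hdvd
    have hgH : g2 ^ 2 ∈ H0 := by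
      refine hH _ 2 Nat.prime_two ?_ (by
        rw [← even_iff_two_dvd, Nat.not_even_iff_odd]
        exact hno) ?_
      · intro t ht h5
        have h6 : t ∣ 2 ^ (a + 1) := by
          rw [← hg2]
          exact h5.trans (orderOf_pow_dvd 2)
        exact (Nat.prime_dvd_prime_iff_eq ht Nat.prime_two).1 (ht.dvd_of_dvd_pow h6)
      · rw [← QuotientGroup.eq_one_iff]
        have h5 : orderOf (g2 : G ⧸ K0) ∣ 2 ^ (a + 1) := by
          rw [← hg2]
          exact orderOf_map_dvd (QuotientGroup.mk' K0) g2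
        obtain ⟨j, hj, hj2⟩ := (Nat.dvd_prime_pow Nat.prime_two).1 h5
        have hj1 : j ≤ 1 := by
          by_contra hcon
          apply hn4
          have h6 : 2 ^ 2 ∣ orderOf (g2 : G ⧸ K0) := by
            rw [hj2]
            exact pow_dvd_pow 2 (by omega)
          exact (h6.trans (orderOf_dvd_natCard _)).trans hdvd
        have h6 : orderOf (g2 : G ⧸ K0) ∣ 2 := by
          rw [hj2]
          calc 2 ^ j ∣ 2 ^ 1 := pow_dvd_pow 2 hj1
            _ = 2 := by norm_num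
        have h7 := orderOf_dvd_iff_pow_eq_one.1 h6
        exact h7
    have hc : Commute (⟨g2 ^ 2, hgH⟩ : H0) ⟨y, hyH⟩ := by
      apply Lib.NilpotentCoprime.commute_of_coprime_orderOf
      rw [Subgroup.orderOf_mk, Subgroup.orderOf_mk, hy.1]
      refine Nat.Coprime.coprime_dvd_left (orderOf_pow_dvd 2) ?_
      rw [hg2]
      exact Nat.Coprime.pow_left _ ((Nat.coprime_primes Nat.prime_two hp).2 hp2.symm)
    have hc' : Commute (g2 ^ 2) y := congrArg Subtype.val hc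
    have ho2 : orderOf (g2 ^ 2) = 2 ^ a := by
      rw [orderOf_pow' g2 (by norm_num), hg2, pow_succ, Nat.gcd_mul_left_left, Nat.mul_div_cancel _ (by norm_num)]
    obtain ⟨z, hz⟩ := H496.TwoFrob.exists_of_commute (p := 2 ^ a) (q := p)
      (Nat.Coprime.pow_left _ ((Nat.coprime_primes Nat.prime_two hp).2 hp2.symm))
      (x := g2 ^ 2) (y := y) (by rw [ho2]) (by rw [hy.1]) hc'
    exact hano ⟨z, hz⟩
  · -- the simple section
    have := hN
    have h5 : Group.IsSolvable (M ⧸ N.subgroupOf M) := inferInstance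
    have := h3
    exact h4 ⟨⟨fun a b => IsSimpleGroup.comm_iff_isSolvable.2 h5 a b⟩⟩

end Cfsg.Agent.R2.Spec.X2
end
end

-- part: R2/Spec/P1/TopLin
section
prune_inst 0x405000400484000000018801452003802960005b000030000e020014609880c02a1c08e4128201506120a20c10031004811000060425000000e000000000100000000020040c1a000a00000000080400000000000000000000000000000000004000000000
set_option linter.all false
open scoped Cfsg.Agent.FastGrp

/-!
# Team T3 (S3435), box P1b: the exact top tori of `PSL_n(q)`, `PSU_n(q)` (helper15)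
-/

set_option autoImplicit false

namespace Cfsg.Agent.R2.Spec.P1

open Finset Function Cfsg Cfsg.Agent.H426.LieFam Cfsg.Agent.R2.Spec Cfsg.Agent.R2.Spec.X7
open Cfsg.Agent.H437.Win (pow_scalar scalar_of_map roots_ne_zero count_stable sg' sg'_injective)

universe u

/-- an element whose order is divisible by a prime of the class `n - 1` -/
theorem sub_mat {F : Type*} [Field F] {K : Type*} [Field K] [IsAlgClosed K] [Algebra F K] {s : ℤ} {p t n : ℕ}
    [Fact p.Prime] [CharP K p] (ht : (s - 1).natAbs = t) (hn : 4 ≤ n)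
    (A : Matrix (Fin n) (Fin n) F) (hdetA : A.det = 1) (hinj : Injective (zp s : K → K))
    [DecidableEq K]
    (hcs : ∀ x, (A.map (algebraMap F K)).charpoly.roots.count (zp s x) = (A.map (algebraMap F K)).charpoly.roots.count x)
    {r : ℕ} (hr : r.Prime) (hrp : r ≠ p) (hra : ∀ a, 1 ≤ a → a ≤ n → r ∣ ua s a → a = n - 1)
    (hA : ∀ E, (∃ z : F, A ^ E = z • (1 : Matrix (Fin n) (Fin n) F)) → r ∣ E) :
    ∃ E, (∃ z : F, A ^ E = z • (1 : Matrix (Fin n) (Fin n) F)) ∧ E * Nat.gcd n t = ua s (n - 1) := by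
  set Y : Matrix (Fin n) (Fin n) K := A.map (algebraMap F K) with hY
  have hdet : Y.det = 1 := by
    rw [hY, show A.map (algebraMap F K) = (algebraMap F K).mapMatrix A from rfl, ← RingHom.map_det, hdetA, map_one]
  set Λ := Y.charpoly.roots.toFinset with hΛ
  have hmem : ∀ x, x ∈ Λ ↔ 1 ≤ Y.charpoly.roots.count x := by
    intro x
    rw [hΛ, Multiset.mem_toFinset, Multiset.one_le_count_iff_mem]
  have hst : Stab s Λ := by
    refine ⟨fun x hx => roots_ne_zero hdet (Multiset.mem_toFinset.1 hx), fun x hx => ?_⟩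
    rw [hmem] at hx ⊢
    rw [hcs]
    exact hx
  have hsum : ∑ x ∈ Λ, Y.charpoly.roots.count x = n := by
    rw [hΛ, Multiset.toFinset_sum_count_eq, ← (IsAlgClosed.splits Y.charpoly).natDegree_eq_card_roots,
      Matrix.charpoly_natDegree_eq_dim, Fintype.card_fin]
  have hprod : ∏ x ∈ Λ, x ^ Y.charpoly.roots.count x = 1 := by
    rw [hΛ, ← Finset.prod_multiset_count, ← Matrix.det_eq_prod_roots_charpoly, hdet]
  have key : ∀ k j : ℕ, (∃ z, ∀ x ∈ Λ, x ^ k = z) → (∀ x ∈ Λ, Y.charpoly.roots.count x ≤ p ^ j) →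
      ∃ z : F, A ^ (k * p ^ j) = z • (1 : Matrix (Fin n) (Fin n) F) := by
    rintro k j ⟨z, hz⟩ hc
    exact scalar_of_map A (by omega) (pow_scalar Y (k := k) (s := j) (z := z)
      (fun x hx => hz x (Multiset.mem_toFinset.2 hx)) (fun x hx => hc x (Multiset.mem_toFinset.2 hx)))
  have hp := (Fact.out : p.Prime)
  have hcount : ∀ x ∈ Λ, Y.charpoly.roots.count x ≤ n := by
    intro x hx
    exact (Finset.single_le_sum (f := fun x => Y.charpoly.roots.count x) (fun _ _ => Nat.zero_le _) hx).trans hsum.le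
  have hcard : Λ.card ≤ n := by
    refine le_trans ?_ hsum.le
    rw [Finset.card_eq_sum_ones]
    exact Finset.sum_le_sum fun x hx => (hmem x).1 hx
  have hper_le : ∀ x ∈ Λ, minimalPeriod (zp s) x ≤ n := by
    intro x hx
    rw [← card_orb]
    exact (Finset.card_le_card (hst.orb_subset hx)).trans hcard
  -- an eigenvalue of period `n - 1`
  obtain ⟨x, hx, hper⟩ : ∃ x ∈ Λ, minimalPeriod (zp s) x = n - 1 := by
    by_contra hcon
    push Not at hcon
    have h1 : ∀ x ∈ Λ, x ^ (∏ a ∈ (Finset.Icc 1 n).erase (n - 1), ua s a) = 1 := by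
      intro x hx
      have h2 := pow_orb (hst.ne x hx) (hst.self_mem_orb hinj hx)
      obtain ⟨k, hk⟩ := Finset.dvd_prod_of_mem (fun a => ua s a)
        (Finset.mem_erase.2 ⟨hcon x hx, Finset.mem_Icc.2 ⟨hst.period hinj hx, hper_le x hx⟩⟩)
      rw [hk, pow_mul, h2, one_pow]
    have h2 := hA _ (key _ n ⟨1, h1⟩ fun x hx => (hcount x hx).trans (Nat.lt_pow_self hp.one_lt).le)
    rcases (hr.dvd_mul).1 h2 with h3 | h3
    · obtain ⟨a, ha, h4⟩ := (Prime.dvd_finsetProd_iff (Nat.prime_iff.1 hr) _).1 h3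
      rw [Finset.mem_erase, Finset.mem_Icc] at ha
      exact ha.1 (hra a ha.2.1 ha.2.2 h4)
    · exact hrp ((Nat.prime_dvd_prime_iff_eq hr hp).1 (hr.dvd_of_dvd_pow h3))
  have hsub := hst.orb_subset hx
  have hx0 := hst.ne x hx
  have horb : (orb s x).card = n - 1 := by rw [card_orb, hper]
  have hcx : ∀ y ∈ orb s x, Y.charpoly.roots.count y = Y.charpoly.roots.count x := by
    intro y hy
    obtain ⟨i, -, rfl⟩ := mem_orb.1 hy
    clear hy
    induction i with
    | zero => rfl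
    | succ i ih => rw [Function.iterate_succ_apply', hcs, ih]
  have hsplit : ∑ y ∈ orb s x, Y.charpoly.roots.count y + ∑ y ∈ Λ \ orb s x, Y.charpoly.roots.count y = n := by
    rw [add_comm, Finset.sum_sdiff hsub, hsum]
  rw [Finset.sum_congr rfl hcx, Finset.sum_const, horb, smul_eq_mul] at hsplit
  have hc1 := (hmem x).1 hx
  have hcx1 : Y.charpoly.roots.count x = 1 := by
    by_contra hne
    have : 2 * (n - 1) ≤ (n - 1) * Y.charpoly.roots.count x := by
      rw [mul_comm]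
      exact Nat.mul_le_mul_left _ (by omega)
    omega
  rw [hcx1, mul_one] at hsplit
  have hrest : ∑ y ∈ Λ \ orb s x, Y.charpoly.roots.count y = 1 := by omega
  obtain ⟨y, hy⟩ : (Λ \ orb s x).Nonempty := by
    by_contra hcon
    rw [Finset.not_nonempty_iff_eq_empty] at hcon
    rw [hcon, Finset.sum_empty] at hrest
    omega
  have hΛy : Λ \ orb s x = {y} := by
    rw [Finset.eq_singleton_iff_unique_mem]
    refine ⟨hy, fun z hz => ?_⟩
    by_contra hne
    have h1 : ({z, y} : Finset K) ⊆ Λ \ orb s x := by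
      intro w hw
      rw [Finset.mem_insert, Finset.mem_singleton] at hw
      rcases hw with rfl | rfl
      · exact hz
      · exact hy
    have h2 := Finset.sum_le_sum_of_subset (f := fun w => Y.charpoly.roots.count w) h1
    rw [Finset.sum_pair hne, hrest] at h2
    have h3 := (hmem z).1 (Finset.mem_sdiff.1 hz).1
    have h4 := (hmem y).1 (Finset.mem_sdiff.1 hy).1
    omega
  have hcy : Y.charpoly.roots.count y = 1 := by
    rw [hΛy, Finset.sum_singleton] at hrest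
    exact hrest
  have hy0 := hst.ne y (Finset.mem_sdiff.1 hy).1
  -- the exponent
  set c := Nat.gcd n t with hc
  obtain ⟨d, hd⟩ := Nat.gcd_dvd_right n t
  have hcn : c ∣ n := Nat.gcd_dvd_left _ _
  have hcs1 : (c : ℤ) ∣ s - 1 := Int.natCast_dvd.2 (by rw [ht]; exact Nat.gcd_dvd_right _ _)
  obtain ⟨e', he'⟩ : (c : ℤ) ∣ 1 + es s (n - 1) := by
    have h1 := hcs1.trans (es_modEq s (n - 1))
    have h2 : (c : ℤ) ∣ n := by exact_mod_cast hcn
    have h3 := dvd_add h1 h2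
    have h4 : es s (n - 1) - ((n - 1 : ℕ) : ℤ) + n = 1 + es s (n - 1) := by
      rw [Nat.cast_sub (by omega)]; push_cast; ring
    rwa [h4] at h3
  have hN1 : ua s (n - 1) = (es s (n - 1)).natAbs * (c * d) := by rw [ua_eq, ht, ← hd]
  have hxN : x ^ ua s (n - 1) = 1 := by
    have h1 := pow_orb hx0 (hst.self_mem_orb hinj hx)
    rwa [hper] at h1
  have hyx : y = x ^ (-es s (n - 1)) := by
    have h1 : (∏ z ∈ orb s x, z ^ Y.charpoly.roots.count z) * ∏ z ∈ Λ \ orb s x, z ^ Y.charpoly.roots.count z = 1 := by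
      rw [mul_comm, Finset.prod_sdiff hsub, hprod]
    have h2 : ∏ z ∈ orb s x, z ^ Y.charpoly.roots.count z = x ^ es s (n - 1) := by
      rw [← hper, ← prod_orb hx0]
      refine Finset.prod_congr rfl fun z hz => ?_
      rw [hcx z hz, hcx1, pow_one]
    rw [h2, hΛy, Finset.prod_singleton, hcy, pow_one] at h1
    rw [zpow_neg]
    exact eq_inv_of_mul_eq_one_right h1
  have hzN : ∀ k : ℤ, x ^ ((ua s (n - 1) : ℤ) * k) = 1 := by
    intro k
    rw [zpow_mul, zpow_natCast, hxN, one_zpow]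
  refine ⟨(es s (n - 1)).natAbs * d, ?_, ?_⟩
  · have h4 := key ((es s (n - 1)).natAbs * d) 0 ⟨x ^ ((es s (n - 1)).natAbs * d), ?_⟩ ?_
    · rw [pow_zero, mul_one] at h4
      exact h4
    · intro w hw
      by_cases hwo : w ∈ orb s x
      · obtain ⟨i, -, rfl⟩ := mem_orb.1 hwo
        have h5 := iter_zpow_eq (s := s) hx0 (W := (((es s (n - 1)).natAbs * d : ℕ) : ℤ)) ?_ i
        · rw [zpow_natCast, zpow_natCast] at h5
          exact h5
        · rw [← zpow_mul]
          rcases Int.natAbs_eq (s - 1) with h6 | h6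
          · rw [h6, ht, show (((es s (n - 1)).natAbs * d : ℕ) : ℤ) * (t : ℤ) = (ua s (n - 1) : ℤ) * d by
              rw [hN1, ← hd]; push_cast; ring]
            exact hzN _
          · rw [h6, ht, show (((es s (n - 1)).natAbs * d : ℕ) : ℤ) * (-(t : ℤ)) = (ua s (n - 1) : ℤ) * (-d) by
              rw [hN1, ← hd]; push_cast; ring]
            exact hzN _
      · have hwy : w = y := by
          have : w ∈ Λ \ orb s x := Finset.mem_sdiff.2 ⟨hw, hwo⟩
          rw [hΛy, Finset.mem_singleton] at this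
          exact this
        rw [hwy, hyx]
        have h6 : x ^ (((es s (n - 1)).natAbs * d : ℕ) : ℤ) =
            (x ^ (-es s (n - 1))) ^ (((es s (n - 1)).natAbs * d : ℕ) : ℤ) := by
          rw [← zpow_mul]
          have h7 : (((es s (n - 1)).natAbs * d : ℕ) : ℤ) = -es s (n - 1) * (((es s (n - 1)).natAbs * d : ℕ) : ℤ) +
              (ua s (n - 1) : ℤ) * e' := by
            rw [hN1]
            push_cast
            linear_combination (|es s (n - 1)| * (d : ℤ)) * he'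
          rw [h7, zpow_add₀ hx0, hzN, mul_one, ← h7]
        rw [zpow_natCast, zpow_natCast] at h6
        exact h6.symm
    · intro w hw
      rw [pow_zero]
      by_cases hwo : w ∈ orb s x
      · rw [hcx w hwo, hcx1]
      · have : w ∈ Λ \ orb s x := Finset.mem_sdiff.2 ⟨hw, hwo⟩
        rw [hΛy, Finset.mem_singleton] at this
        rw [this, hcy]
  · rw [hN1]; ring

/-- the matrix of an element -/
def HasMat (F K : Type*) [Field F] [Field K] [Algebra F K] (s : ℤ) (n N : ℕ) : Prop :=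
  Injective (zp s : K → K) ∧ ∃ A : Matrix (Fin n) (Fin n) F, A.det = 1 ∧
    (∀ [DecidableEq K] (x : K), (A.map (algebraMap F K)).charpoly.roots.count (zp s x) =
      (A.map (algebraMap F K)).charpoly.roots.count x) ∧
    ∀ E, (∃ z : F, A ^ E = z • (1 : Matrix (Fin n) (Fin n) F)) → N ∣ E

section

variable {F : Type*} [Field F] [Fintype F] {p f q n : ℕ} [Fact p.Prime] [CharP F p]

theorem hasMat_psl (hq : q = p ^ f) (hF : Fintype.card F = q) (g : Matrix.ProjectiveSpecialLinearGroup (Fin n) F) :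
    HasMat F (AlgebraicClosure F) (q : ℤ) n (orderOf g) := by
  classical
  obtain ⟨g, rfl⟩ := QuotientGroup.mk_surjective g
  set A : Matrix (Fin n) (Fin n) F := ((g : Matrix.SpecialLinearGroup (Fin n) F) : Matrix (Fin n) (Fin n) F) with hA
  let K := AlgebraicClosure F
  have hCP : CharP K p := charP_of_injective_algebraMap (algebraMap F K).injective p
  have hdetA : A.det = 1 := g.2
  have hzp : (zp (q : ℤ) : K → K) = fun x => x ^ q := by
    funext x
    rw [zp, zpow_natCast]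
  have hinj : Injective (zp (q : ℤ) : K → K) := by
    rw [hzp]
    intro x y hxy
    apply (iterateFrobenius K p f).injective
    rw [iterateFrobenius_def, iterateFrobenius_def, ← hq]
    exact hxy
  refine ⟨hinj, A, hdetA, ?_, ?_⟩
  · intro _ x
    set Y : Matrix (Fin n) (Fin n) K := A.map (algebraMap F K) with hY
    have h1 : (Y.map (iterateFrobenius K p f)).charpoly.roots = Y.charpoly.roots.map (iterateFrobenius K p f) := by
      rw [Matrix.charpoly_map]
      exact (IsAlgClosed.splits Y.charpoly).roots_map _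
    have h2 : Y.map (iterateFrobenius K p f) = Y := by
      ext i j
      rw [hY, Matrix.map_apply, Matrix.map_apply, iterateFrobenius_def, ← map_pow, ← hq, ← hF, FiniteField.pow_card]
    rw [h2] at h1
    have h3 : Multiset.count (iterateFrobenius K p f x) (Y.charpoly.roots.map (iterateFrobenius K p f)) =
        Y.charpoly.roots.count x := Multiset.count_map_eq_count' _ _ (iterateFrobenius K p f).injective x
    rw [← h1, iterateFrobenius_def, ← hq] at h3
    rw [hzp]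
    exact h3
  · rintro E ⟨z, hz⟩
    apply orderOf_dvd_of_pow_eq_one
    have h4 : g ^ E ∈ Subgroup.center (Matrix.SpecialLinearGroup (Fin n) F) := by
      rw [Subgroup.mem_center_iff]
      intro h
      apply Subtype.ext
      show (h : Matrix (Fin n) (Fin n) F) * ((g ^ E : Matrix.SpecialLinearGroup (Fin n) F) : Matrix (Fin n) (Fin n) F) =
        ((g ^ E : Matrix.SpecialLinearGroup (Fin n) F) : Matrix (Fin n) (Fin n) F) * (h : Matrix (Fin n) (Fin n) F)
      rw [Matrix.SpecialLinearGroup.coe_pow, ← hA, hz, Matrix.mul_smul, Matrix.smul_mul, Matrix.mul_one, Matrix.one_mul]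
    rw [← QuotientGroup.mk_pow]
    exact (QuotientGroup.eq_one_iff _).2 h4

omit [Fintype F] in
theorem hasMat_psu (hq : q = p ^ f) (g : PSU n F q) : HasMat F (AlgebraicClosure F) (-(q : ℤ)) n (orderOf g) := by
  classical
  have hp := (Fact.out : p.Prime)
  obtain ⟨g, rfl⟩ := QuotientGroup.mk_surjective g
  set A : Matrix (Fin n) (Fin n) F := ((g : Matrix.SpecialLinearGroup (Fin n) F) : Matrix (Fin n) (Fin n) F) with hA
  let K := AlgebraicClosure F
  have hCP : CharP K p := charP_of_injective_algebraMap (algebraMap F K).injective p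
  set Y : Matrix (Fin n) (Fin n) K := A.map (algebraMap F K) with hY
  have hdetA : A.det = 1 := (g : Matrix.SpecialLinearGroup (Fin n) F).2
  have hdet : Y.det = 1 := by
    rw [hY, show A.map (algebraMap F K) = (algebraMap F K).mapMatrix A from rfl, ← RingHom.map_det, hdetA, map_one]
  have hY1 : (Y.map (iterateFrobenius K p f)).charpoly = (Y⁻¹).charpoly := by
    have h1 := H149.PGU.charpoly_unitary hq g.2
    rw [← hA] at h1
    have h2 : Y.map (iterateFrobenius K p f) = (A.map (iterateFrobenius F p f)).map (algebraMap F K) := by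
      ext i j
      simp [hY, Matrix.map_apply, iterateFrobenius_def]
    have h3 : Y⁻¹ = (A⁻¹).map (algebraMap F K) := by
      apply Matrix.inv_eq_right_inv
      rw [hY, ← Matrix.map_mul, Matrix.mul_nonsing_inv _ (by rw [hdetA]; exact isUnit_one), Matrix.map_one _ (map_zero _) (map_one _)]
    rw [h2, h3, Matrix.charpoly_map, h1, Matrix.charpoly_map]
  have hzp : (zp (-(q : ℤ)) : K → K) = sg' q := by
    funext x
    rw [zp, zpow_neg, zpow_natCast, sg']
  have hinj : Injective (zp (-(q : ℤ)) : K → K) := by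
    rw [hzp]
    exact sg'_injective hq
  refine ⟨hinj, A, hdetA, ?_, ?_⟩
  · intro _ x
    rw [hzp]
    exact count_stable hq hdet hY1 x
  · rintro E ⟨z, hz⟩
    apply orderOf_dvd_of_pow_eq_one
    rw [← QuotientGroup.mk_pow, QuotientGroup.eq_one_iff, Subgroup.mem_center_iff]
    intro h
    apply Subtype.ext
    apply Subtype.ext
    show ((h : Matrix.SpecialLinearGroup (Fin n) F) : Matrix (Fin n) (Fin n) F) * A ^ E =
      A ^ E * ((h : Matrix.SpecialLinearGroup (Fin n) F) : Matrix (Fin n) (Fin n) F)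
    rw [hz, Matrix.mul_smul, Matrix.smul_mul, Matrix.mul_one, Matrix.one_mul]

end

/-- divisibility of `|s^a - 1|` by a prime of the class `i` -/
theorem dvd_ua_iff {s : ℤ} {r a : ℕ} : r ∣ ua s a ↔ orderOf ((s : ℤ) : ZMod r) ∣ a := by
  rw [ua, ← Int.natCast_dvd, ← ZMod.intCast_zmod_eq_zero_iff_dvd, orderOf_dvd_iff_pow_eq_one]
  push_cast
  exact sub_eq_zero

/-- **The upper bounds.** -/
theorem HasMat.ub {F : Type*} [Field F] [Fintype F] {s : ℤ} {p n N r : ℕ} [Fact p.Prime] [CharP F p]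
    (h : HasMat F (AlgebraicClosure F) s n N) {q t L : ℕ} (P : Par s q t L) (hr : r.Prime) (hrp : r ≠ p)
    (hrN : r ∣ N) (h3 : 3 ≤ orderOf ((s : ℤ) : ZMod r)) :
    (orderOf ((s : ℤ) : ZMod r) = n → ∃ E, N ∣ E ∧ E * (Nat.gcd n t * t) = ua s n) ∧
    (orderOf ((s : ℤ) : ZMod r) + 1 = n → ∃ E, N ∣ E ∧ E * Nat.gcd n t = ua s (n - 1)) := by
  classical
  have hCP : CharP (AlgebraicClosure F) p := charP_of_injective_algebraMap (algebraMap F (AlgebraicClosure F)).injective p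
  obtain ⟨hinj, A, hdet, hcs, hA⟩ := h
  constructor
  · intro ho
    obtain ⟨E, hz, hE⟩ := top_mat P (by omega) A hdet hinj hcs hr hrp (fun a ha1 ha2 hd => by
      rw [dvd_ua_iff, ho] at hd
      have := Nat.le_of_dvd ha1 hd
      omega) (fun E hE => hrN.trans (hA E hE))
    exact ⟨E, hA E hz, hE⟩
  · intro ho
    obtain ⟨E, hz, hE⟩ := sub_mat P.ht (by omega) A hdet hinj hcs hr hrp (fun a ha1 ha2 hd => by
      rw [dvd_ua_iff] at hd
      obtain ⟨k, hk⟩ := hd
      rcases k with _ | _ | k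
      · omega
      · omega
      · have : orderOf ((s : ℤ) : ZMod r) * 2 ≤ orderOf ((s : ℤ) : ZMod r) * (k + 1 + 1) :=
          Nat.mul_le_mul_left _ (by omega)
        omega) (fun E hE => hrN.trans (hA E hE))
    exact ⟨E, hA E hz, hE⟩

/-- powers -/
theorem exists_of_dvd {X : Type*} [Group X] [Finite X] {x : X} {N : ℕ} (h : N ∣ orderOf x) : ∃ y : X, orderOf y = N := by
  obtain ⟨k, hk⟩ := h
  have hpos := orderOf_pos x
  have hN : N ≠ 0 := by
    rintro rfl
    rw [zero_mul] at hk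
    omega
  have hk0 : k ≠ 0 := by
    rintro rfl
    rw [mul_zero] at hk
    omega
  refine ⟨x ^ k, ?_⟩
  rw [orderOf_pow_of_dvd hk0 (by rw [hk]; exact dvd_mul_left _ _), hk, Nat.mul_div_cancel _ (Nat.pos_of_ne_zero hk0)]

theorem gcd_mul_dvd_ua' {s : ℤ} {n t : ℕ} (ht : (s - 1).natAbs = t) : Nat.gcd n t * t ∣ ua s n := by
  rw [ua_eq, ht]
  apply Nat.mul_dvd_mul_right
  apply Int.natCast_dvd.1
  have h1 : ((Nat.gcd n t : ℕ) : ℤ) ∣ s - 1 := Int.natCast_dvd.2 (by rw [ht]; exact Nat.gcd_dvd_right _ _)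
  have h2 := h1.trans (es_modEq s n)
  have h3 : ((Nat.gcd n t : ℕ) : ℤ) ∣ n := by exact_mod_cast Nat.gcd_dvd_left n t
  have h4 := dvd_add h2 h3
  rwa [sub_add_cancel] at h4

theorem div_eq_of_mul {E a b : ℕ} (hb : 0 < b) (h : E * b = a) : a / b = E := by
  rw [← h, Nat.mul_div_cancel _ hb]

/-- **`PSL_n(q)`** -/
theorem top_facts_psl {p f n : ℕ} {X : Type u} [Group X] [Finite X] (hp : p.Prime) (hp2 : p ≠ 2)
    (h : Fam.Is p f X (.psl n)) : TopFacts (.psl n) p f X := by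
  have hfp := Fact.mk hp
  obtain ⟨hn, -, F, _, _, hch, hF, ⟨e⟩⟩ := h
  have hf : f ≠ 0 := by
    rintro rfl
    have := Fintype.one_lt_card (α := F)
    rw [hF] at this
    simp at this
  obtain ⟨q, hq⟩ : ∃ q, q = p ^ f := ⟨_, rfl⟩
  rw [← hq] at hF
  have hq3 : 3 ≤ q := by
    have h1 := Nat.le_self_pow hf p
    have h2 := hp.two_le
    omega
  have P := par_plus hq3
  have hg0 : 0 < Nat.gcd n (q - 1) := Nat.gcd_pos_of_pos_left _ (by omega)
  have hgt0 : 0 < Nat.gcd n (q - 1) * (q - 1) := Nat.mul_pos hg0 (by omega)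
  have hgt0' : 0 < (q - 1) * Nat.gcd n (q - 1) := Nat.mul_pos (by omega) hg0
  refine ⟨?_, ?_⟩
  · rintro i ⟨hi3, hi⟩
    rw [← hq]
    rcases hi with rfl | hi
    · obtain ⟨x, hx⟩ := Cfsg.Agent.H360.Iso.exists_top (F := F) (n := i) (by omega)
      rw [Nat.card_eq_fintype_card, hF, mul_assoc] at hx
      obtain ⟨E, hE⟩   := gcd_mul_dvd_ua' (s := (q : ℤ)) (n := i) P.ht
      rw [ua_plus (by omega)] at hE
      have h1 : ttor (.psl i) q i = E := by
        rw [ttor, if_pos rfl]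
        exact div_eq_of_mul hgt0' (by rw [hE]; ring)
      rw [hE, mul_comm] at hx
      obtain ⟨y, hy⟩ := exists_of_dvd (Nat.dvd_of_mul_dvd_mul_right hgt0 hx)
      exact ⟨e.symm y, by rw [h1, ← hy, MulEquiv.orderOf_eq]⟩
    · obtain ⟨m, rfl⟩ : ∃ m, n = m + 1 := ⟨n - 1, by omega⟩
      have him : i = m := by omega
      subst him
      obtain ⟨x, hx⟩ := Cfsg.Agent.H360.Iso.exists_sub (F := F) (m := i) (by omega)
      rw [Nat.card_eq_fintype_card, hF] at hx
      have hd : Nat.gcd (i + 1) (q - 1) ∣ q ^ i - 1 :=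
        (Nat.gcd_dvd_right _ _).trans (Nat.sub_one_dvd_pow_sub_one q i)
      obtain ⟨E, hE⟩ := hd
      have h1 : ttor (.psl (i + 1)) q i = E := by
        rw [ttor, if_neg (by omega), Nat.add_sub_cancel]
        exact div_eq_of_mul hg0 (by rw [hE]; ring)
      rw [hE, mul_comm] at hx
      obtain ⟨y, hy⟩ := exists_of_dvd (Nat.dvd_of_mul_dvd_mul_right hg0 hx)
      exact ⟨e.symm y, by rw [h1, ← hy, MulEquiv.orderOf_eq]⟩
  · intro r hr hrp hi x hx
    rw [← hq] at hi ⊢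
    obtain ⟨hi3, hi⟩ := hi
    have hrp' : r ≠ p := fun h => hrp (by rw [h])
    rw [← MulEquiv.orderOf_eq e x] at hx ⊢
    have hM := (hasMat_psl hq hF (e x)).ub P hr hrp' hx hi3
    change cls (.psl n) q r = n ∨ cls (.psl n) q r + 1 = n at hi
    rcases hi with hi | hi
    · obtain ⟨E, h1, h2⟩ := hM.1 hi
      rw [ua_plus (by omega)] at h2
      rw [ttor, if_pos hi, div_eq_of_mul (E := E) hgt0' (by rw [← h2]; ring)]
      exact h1
    · obtain ⟨E, h1, h2⟩ := hM.2 hi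
      rw [ua_plus (by omega)] at h2
      rw [ttor, if_neg (by omega), div_eq_of_mul hg0 h2]
      exact h1

/-- **`PSU_n(q)`** -/
theorem top_facts_psu {p f n : ℕ} {X : Type u} [Group X] [Finite X] (hp : p.Prime) (hp2 : p ≠ 2)
    (h : Fam.Is p f X (.psu n)) : TopFacts (.psu n) p f X := by
  have hfp := Fact.mk hp
  obtain ⟨hn, -, F, _, _, hch, hF, ⟨e0⟩⟩ := h
  have e : X ≃* PSU n F (p ^ f) := e0
  clear e0
  have hf : f ≠ 0 := by
    rintro rfl
    have := Fintype.one_lt_card (α := F)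
    rw [hF] at this
    simp at this
  generalize hq : p ^ f = q at hF e
  replace hq := hq.symm
  have hq3 : 3 ≤ q := by
    have h1 := Nat.le_self_pow hf p
    have h2 := hp.two_le
    omega
  have P := par_minus hq3
  have hg0 : 0 < Nat.gcd n (q + 1) := Nat.gcd_pos_of_pos_left _ (by omega)
  have hgt0 : 0 < Nat.gcd n (q + 1) * (q + 1) := Nat.mul_pos hg0 (by omega)
  have hgt0' : 0 < (q + 1) * Nat.gcd n (q + 1) := Nat.mul_pos (by omega) hg0
  have hN : ∀ m : ℕ, ua (-(q : ℤ)) m = if m % 2 = 0 then q ^ m - 1 else q ^ m + 1 := by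
    intro m
    split_ifs with hm
    · exact ua_minus_even (by omega) (Nat.even_iff.2 hm)
    · exact ua_minus_odd (Nat.odd_iff.2 (by omega))
  have hph : ∀ m : ℕ, 1 ≤ m → Cfsg.Agent.H948.UProd.ph q (m - 1) = ua (-(q : ℤ)) m := by
    intro m hm
    rw [hN, Cfsg.Agent.H948.UProd.ph, Nat.sub_add_cancel hm]
    by_cases h2 : m % 2 = 0
    · rw [if_pos h2, if_neg (by rw [Nat.even_iff]; omega)]
    · rw [if_neg h2, if_pos (by rw [Nat.even_iff]; omega)]
  have hN1 : ua (-(q : ℤ)) (n - 1) = if n % 2 = 0 then q ^ (n - 1) + 1 else q ^ (n - 1) - 1 := by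
    rw [hN]
    by_cases h2 : n % 2 = 0
    · rw [if_pos h2, if_neg (by omega)]
    · rw [if_neg h2, if_pos (by omega)]
  refine ⟨?_, ?_⟩
  · rintro i ⟨hi3, hi⟩
    rw [← hq]
    rcases hi with rfl | hi
    · obtain ⟨x, hx⟩ := Cfsg.Agent.H360.Iso.exists_topU (F := F) hF hn
      rw [hph _ (by omega), mul_assoc] at hx
      obtain ⟨E, hE⟩ := gcd_mul_dvd_ua' (s := -(q : ℤ)) (n := i) P.ht
      have h1 : ttor (.psu i) q i = E := by
        rw [ttor, if_pos rfl, ← hN]
        exact div_eq_of_mul hgt0' (by rw [hE]; ring)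
      rw [hE, mul_comm] at hx
      obtain ⟨y, hy⟩ := exists_of_dvd (Nat.dvd_of_mul_dvd_mul_right hgt0 hx)
      exact ⟨e.symm y, by rw [h1, ← hy, MulEquiv.orderOf_eq]⟩
    · obtain ⟨x, hx⟩ := Cfsg.Agent.H360.Iso.exists_subU (F := F) hF hn
      rw [show n - 2 = n - 1 - 1 by omega, hph _ (by omega)] at hx
      obtain ⟨E, hE⟩ := (Nat.gcd_dvd_right n (q + 1)).trans (P.dvd (n - 1))
      have h1 : ttor (.psu n) q i = E := by
        rw [ttor, if_neg (by omega), ← hN1]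
        exact div_eq_of_mul hg0 (by rw [hE]; ring)
      rw [hE, mul_comm] at hx
      obtain ⟨y, hy⟩ := exists_of_dvd (Nat.dvd_of_mul_dvd_mul_right hg0 hx)
      exact ⟨e.symm y, by rw [h1, ← hy, MulEquiv.orderOf_eq]⟩
  · intro r hr hrp hi x hx
    rw [← hq] at hi ⊢
    obtain ⟨hi3, hi⟩ := hi
    have hrp' : r ≠ p := fun h => hrp (by rw [h])
    rw [← MulEquiv.orderOf_eq e x] at hx ⊢
    have hM := (hasMat_psu hq (e x)).ub P hr hrp' hx hi3
    change cls (.psu n) q r = n ∨ cls (.psu n) q r + 1 = n at hi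
    rcases hi with hi | hi
    · obtain ⟨E, h1, h2⟩ := hM.1 hi
      rw [hN] at h2
      rw [ttor, if_pos hi, div_eq_of_mul (E := E) hgt0' (by rw [← h2]; ring)]
      exact h1
    · obtain ⟨E, h1, h2⟩ := hM.2 hi
      rw [hN1] at h2
      rw [ttor, if_neg (by omega), div_eq_of_mul hg0 h2]
      exact h1

end Cfsg.Agent.R2.Spec.P1
end

-- part: R2/Spec/AA/Third
section
set_option linter.all false
open scoped Cfsg.Agent.FastGrp

/-!
# Team T3 (S3435), packet THIRD for `L_n(q)`, `U_n(q)` (helper22)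

`HasMat.ub_third` : the orders of elements of `L_n(q)` (`s = q`), `U_n(q)` (`s = -q`) divisible by a prime of the class
`n - 2` divide `p |s^(n-2) - 1|` or `|s^(n-2) - 1| |s + 1|`.
-/

set_option autoImplicit false

namespace Cfsg.Agent.R2.Spec.AA

open Finset Function Cfsg Cfsg.Agent.H426.LieFam Cfsg.Agent.R2.Spec Cfsg.Agent.R2.Spec.X7 Cfsg.Agent.R2.Spec.P1
open Cfsg.Agent.H437.Win (pow_scalar scalar_of_map roots_ne_zero count_stable sg' sg'_injective)

universe u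

/-- `|s^2 - 1|` -/
theorem ua_two (s : ℤ) : ua s 2 = (s - 1).natAbs * (s + 1).natAbs := by
  rw [ua, ← Int.natAbs_mul]
  congr 1
  ring

theorem ua_one (s : ℤ) : ua s 1 = (s - 1).natAbs := by
  rw [ua, pow_one]

/-- an element whose order is divisible by a prime of the class `n - 2` -/
theorem third_mat {F : Type*} [Field F] {K : Type*} [Field K] [IsAlgClosed K] [Algebra F K] {s : ℤ} {p n : ℕ}
    [Fact p.Prime] [CharP K p] (hn : 5 ≤ n)
    (A : Matrix (Fin n) (Fin n) F) (hdetA : A.det = 1) (hinj : Injective (zp s : K → K))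
    [DecidableEq K]
    (hcs : ∀ x, (A.map (algebraMap F K)).charpoly.roots.count (zp s x) = (A.map (algebraMap F K)).charpoly.roots.count x)
    {r : ℕ} (hr : r.Prime) (hrp : r ≠ p) (hra : ∀ a, 1 ≤ a → a ≤ n → r ∣ ua s a → a = n - 2)
    (hA : ∀ E, (∃ z : F, A ^ E = z • (1 : Matrix (Fin n) (Fin n) F)) → r ∣ E) :
    ∃ E, (∃ z : F, A ^ E = z • (1 : Matrix (Fin n) (Fin n) F)) ∧
      (E ∣ p * ua s (n - 2) ∨ E ∣ ua s (n - 2) * (s + 1).natAbs) := by
  set Y : Matrix (Fin n) (Fin n) K := A.map (algebraMap F K) with hY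
  have hdet : Y.det = 1 := by
    rw [hY, show A.map (algebraMap F K) = (algebraMap F K).mapMatrix A from rfl, ← RingHom.map_det, hdetA, map_one]
  set Λ := Y.charpoly.roots.toFinset with hΛ
  have hmem : ∀ x, x ∈ Λ ↔ 1 ≤ Y.charpoly.roots.count x := by
    intro x
    rw [hΛ, Multiset.mem_toFinset, Multiset.one_le_count_iff_mem]
  have hst : Stab s Λ := by
    refine ⟨fun x hx => roots_ne_zero hdet (Multiset.mem_toFinset.1 hx), fun x hx => ?_⟩
    rw [hmem] at hx ⊢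
    rw [hcs]
    exact hx
  have hsum : ∑ x ∈ Λ, Y.charpoly.roots.count x = n := by
    rw [hΛ, Multiset.toFinset_sum_count_eq, ← (IsAlgClosed.splits Y.charpoly).natDegree_eq_card_roots,
      Matrix.charpoly_natDegree_eq_dim, Fintype.card_fin]
  have key : ∀ k j : ℕ, (∃ z, ∀ x ∈ Λ, x ^ k = z) → (∀ x ∈ Λ, Y.charpoly.roots.count x ≤ p ^ j) →
      ∃ z : F, A ^ (k * p ^ j) = z • (1 : Matrix (Fin n) (Fin n) F) := by
    rintro k j ⟨z, hz⟩ hc
    exact scalar_of_map A (by omega) (pow_scalar Y (k := k) (s := j) (z := z)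
      (fun x hx => hz x (Multiset.mem_toFinset.2 hx)) (fun x hx => hc x (Multiset.mem_toFinset.2 hx)))
  have hp := (Fact.out : p.Prime)
  have hcount : ∀ x ∈ Λ, Y.charpoly.roots.count x ≤ n := by
    intro x hx
    exact (Finset.single_le_sum (f := fun x => Y.charpoly.roots.count x) (fun _ _ => Nat.zero_le _) hx).trans hsum.le
  have hcard : Λ.card ≤ n := by
    refine le_trans ?_ hsum.le
    rw [Finset.card_eq_sum_ones]
    exact Finset.sum_le_sum fun x hx => (hmem x).1 hx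
  have hper_le : ∀ x ∈ Λ, minimalPeriod (zp s) x ≤ n := by
    intro x hx
    rw [← card_orb]
    exact (Finset.card_le_card (hst.orb_subset hx)).trans hcard
  -- an eigenvalue of period `n - 2`
  obtain ⟨x, hx, hper⟩ : ∃ x ∈ Λ, minimalPeriod (zp s) x = n - 2 := by
    by_contra hcon
    push Not at hcon
    have h1 : ∀ x ∈ Λ, x ^ (∏ a ∈ (Finset.Icc 1 n).erase (n - 2), ua s a) = 1 := by
      intro x hx
      have h2 := pow_orb (hst.ne x hx) (hst.self_mem_orb hinj hx)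
      obtain ⟨k, hk⟩ := Finset.dvd_prod_of_mem (fun a => ua s a)
        (Finset.mem_erase.2 ⟨hcon x hx, Finset.mem_Icc.2 ⟨hst.period hinj hx, hper_le x hx⟩⟩)
      rw [hk, pow_mul, h2, one_pow]
    have h2 := hA _ (key _ n ⟨1, h1⟩ fun x hx => (hcount x hx).trans (Nat.lt_pow_self hp.one_lt).le)
    rcases (hr.dvd_mul).1 h2 with h3 | h3
    · obtain ⟨a, ha, h4⟩ := (Prime.dvd_finsetProd_iff (Nat.prime_iff.1 hr) _).1 h3
      rw [Finset.mem_erase, Finset.mem_Icc] at ha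
      exact ha.1 (hra a ha.2.1 ha.2.2 h4)
    · exact hrp ((Nat.prime_dvd_prime_iff_eq hr hp).1 (hr.dvd_of_dvd_pow h3))
  have hsub := hst.orb_subset hx
  have hx0 := hst.ne x hx
  have horb : (orb s x).card = n - 2 := by rw [card_orb, hper]
  have hcx : ∀ y ∈ orb s x, Y.charpoly.roots.count y = Y.charpoly.roots.count x := by
    intro y hy
    obtain ⟨i, -, rfl⟩ := mem_orb.1 hy
    clear hy
    induction i with
    | zero => rfl
    | succ i ih => rw [Function.iterate_succ_apply', hcs, ih]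
  have hsplit : ∑ y ∈ orb s x, Y.charpoly.roots.count y + ∑ y ∈ Λ \ orb s x, Y.charpoly.roots.count y = n := by
    rw [add_comm, Finset.sum_sdiff hsub, hsum]
  rw [Finset.sum_congr rfl hcx, Finset.sum_const, horb, smul_eq_mul] at hsplit
  have hc1 := (hmem x).1 hx
  have hcx1 : Y.charpoly.roots.count x = 1 := by
    by_contra hne
    have : 2 * (n - 2) ≤ (n - 2) * Y.charpoly.roots.count x := by
      rw [mul_comm]
      exact Nat.mul_le_mul_left _ (by omega)
    omega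
  rw [hcx1, mul_one] at hsplit
  have hrest : ∑ y ∈ Λ \ orb s x, Y.charpoly.roots.count y = 2 := by omega
  have hxexp : ∀ z ∈ orb s x, z ^ ua s (n - 2) = 1 := by
    intro z hz
    have h1 := pow_orb hx0 hz
    rwa [hper] at h1
  have hst1 : Stab s (Λ \ orb s x) := by convert hst.sdiff hinj hx
  obtain ⟨y, hy⟩ : (Λ \ orb s x).Nonempty := by
    by_contra hcon
    rw [Finset.not_nonempty_iff_eq_empty] at hcon
    rw [hcon, Finset.sum_empty] at hrest
    omega
  have hle2 : ∀ w ∈ Λ \ orb s x, Y.charpoly.roots.count w ≤ 2 := by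
    intro w hw
    rw [← hrest]
    exact Finset.single_le_sum (f := fun x => Y.charpoly.roots.count x) (fun _ _ => Nat.zero_le _) hw
  have hcard2 : (Λ \ orb s x).card ≤ 2 := by
    rw [← hrest, Finset.card_eq_sum_ones]
    exact Finset.sum_le_sum fun x hx => (hmem x).1 (Finset.mem_sdiff.1 hx).1
  have hperle : ∀ w ∈ Λ \ orb s x, minimalPeriod (zp s) w ≤ 2 := by
    intro w hw
    rw [← card_orb]
    exact (Finset.card_le_card (hst1.orb_subset hw)).trans hcard2
  have hpers : ∀ w ∈ Λ \ orb s x, 1 ≤ minimalPeriod (zp s) w := fun w hw => hst1.period hinj hw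
  have hwexp : ∀ w ∈ Λ \ orb s x, w ^ ua s (minimalPeriod (zp s) w) = 1 := fun w hw =>
    pow_orb (hst1.ne w hw) (hst1.self_mem_orb hinj hw)
  by_cases hp2 : ∃ w ∈ Λ \ orb s x, minimalPeriod (zp s) w = 2
  · -- one orbit of length two
    obtain ⟨w, hw, hw2⟩ := hp2
    have hall : orb s w = Λ \ orb s x :=
      Finset.eq_of_subset_of_card_le (hst1.orb_subset hw) (by rw [card_orb, hw2]; exact hcard2)
    have hcw : ∀ z ∈ Λ \ orb s x, Y.charpoly.roots.count z = 1 := by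
      have h2 : (Λ \ orb s x).card = 2 := by rw [← hall, card_orb, hw2]
      have h1 : ∑ x ∈ Λ \ orb s x, 1 = ∑ x ∈ Λ \ orb s x, Y.charpoly.roots.count x := by
        rw [hrest, ← Finset.card_eq_sum_ones, h2]
      intro z hz
      exact ((Finset.sum_eq_sum_iff_of_le (fun x hx => (hmem x).1 (Finset.mem_sdiff.1 hx).1)).1 h1 z hz).symm
    have h4 := key (ua s (n - 2) * (s + 1).natAbs) 0 ⟨1, ?_⟩ ?_
    · rw [pow_zero, mul_one] at h4
      exact ⟨_, h4, Or.inr dvd_rfl⟩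
    · intro z hz
      by_cases hzo : z ∈ orb s x
      · rw [pow_mul, hxexp z hzo, one_pow]
      · have hz1 : z ∈ Λ \ orb s x := Finset.mem_sdiff.2 ⟨hz, hzo⟩
        have h5 : z ∈ orb s w := by rw [hall]; exact hz1
        have h6 := pow_orb (hst1.ne w hw) h5
        rw [hw2, ua_two] at h6
        rw [ua_eq, mul_assoc, mul_comm, pow_mul, h6, one_pow]
    · intro z hz
      rw [pow_zero]
      by_cases hzo : z ∈ orb s x
      · rw [hcx z hzo, hcx1]
      · rw [hcw z (Finset.mem_sdiff.2 ⟨hz, hzo⟩)]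
  · push Not at hp2
    have hone : ∀ w ∈ Λ \ orb s x, w ^ ua s (n - 2) = 1 := by
      intro w hw
      have h1 : minimalPeriod (zp s) w = 1 := by
        have := hperle w hw
        have := hpers w hw
        have := hp2 w hw
        omega
      have h2 := hwexp w hw
      rw [h1, ua_one] at h2
      obtain ⟨k, hk⟩ := dvd_ua s (n - 2)
      rw [hk, pow_mul, h2, one_pow]
    have h4 := key (ua s (n - 2)) 1 ⟨1, ?_⟩ ?_
    · refine ⟨_, h4, Or.inl ?_⟩
      rw [pow_one, mul_comm]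
    · intro z hz
      by_cases hzo : z ∈ orb s x
      · exact hxexp z hzo
      · exact hone z (Finset.mem_sdiff.2 ⟨hz, hzo⟩)
    · intro z hz
      rw [pow_one]
      by_cases hzo : z ∈ orb s x
      · rw [hcx z hzo, hcx1]
        exact hp.one_le
      · exact (hle2 z (Finset.mem_sdiff.2 ⟨hz, hzo⟩)).trans hp.two_le

/-- **The orders divisible by a prime of the class `n - 2`.** -/
theorem HasMat.ub_third {F : Type*} [Field F] [Fintype F] {s : ℤ} {p n N r : ℕ} [Fact p.Prime] [CharP F p]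
    (h : HasMat F (AlgebraicClosure F) s n N) (hr : r.Prime) (hrp : r ≠ p) (hrN : r ∣ N) (hn : 5 ≤ n)
    (ho : orderOf ((s : ℤ) : ZMod r) + 2 = n) :
    N ∣ p * ua s (n - 2) ∨ N ∣ ua s (n - 2) * (s + 1).natAbs := by
  classical
  have hCP : CharP (AlgebraicClosure F) p := charP_of_injective_algebraMap (algebraMap F (AlgebraicClosure F)).injective p
  obtain ⟨hinj, A, hdet, hcs, hA⟩ := h
  obtain ⟨E, hz, hE⟩ := third_mat hn A hdet hinj hcs hr hrp (fun a ha1 ha2 hd => by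
      rw [dvd_ua_iff] at hd
      obtain ⟨k, hk⟩ := hd
      rcases k with _ | _ | k
      · omega
      · omega
      · have : orderOf ((s : ℤ) : ZMod r) * 2 ≤ orderOf ((s : ℤ) : ZMod r) * (k + 1 + 1) :=
          Nat.mul_le_mul_left _ (by omega)
        omega) (fun E hE => hrN.trans (hA E hE))
  exact hE.imp (hA E hz).trans (hA E hz).trans

end Cfsg.Agent.R2.Spec.AA
end

-- part: R2/Spec/AA/Num
section
prune_inst 0x4052024044cc000080000801612002004340005b00020000178600546010ed32089c0a94048001d06120e12011801000000100070404000000e00300000030020802854009348030cae0087801087180c00000000000000000000000000041004000000000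
set_option linter.all false
open scoped Cfsg.Agent.FastGrp

/-!
# Team T3 (S3435), packet EXO-AA: the numbers (helper22)

`x = ± q`, `y = ± u`, `(x^n - 1) (y - 1) = - y (y^(m-1) - 1) (x - 1)`, `y - 1 ∣ m`, `x ∣ y - 1`.

* `small` : `m < 60` is impossible if `6 ≤ n`;
* `zero_case`, `k_le`, `big` : `60 ≤ m` and a third class `k`.
-/

set_option autoImplicit false

namespace Cfsg.Agent.R2.Spec.AA

open Cfsg.Agent.R2.Spec.X7

/-! ### small `m` -/

/-- the test: `x ^ 6` does not divide `1 ± y Y (x - 1)` -/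
def tst (m D q : ℕ) : Bool :=
  [((D : ℤ) + 1), 1 - (D : ℤ)].all fun y => [(q : ℤ), -(q : ℤ)].all fun x => [(1 : ℤ), -1].all fun e =>
    !decide ((1 + e * (y * ((y ^ (m - 1) - 1) / (y - 1))) * (x - 1)) % x ^ 6 = 0)

def tstAll : Bool :=
  (List.range 60).all fun m => (List.range (m + 1)).all fun D =>
    !(decide (3 ≤ m) && decide (3 ≤ D) && decide (m % D = 0)) || (List.range (D + 1)).all fun q =>
      !(decide (3 ≤ q) && decide (D % q = 0)) || decide (q % 2 = 0) || tst m D q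

theorem tstAll_true : tstAll = true := by decide +kernel

theorem tst_of {m D q : ℕ} (hm : m < 60) (hm3 : 3 ≤ m) (hD : 3 ≤ D) (hDm : D ∣ m) (hq : 3 ≤ q) (hqD : q ∣ D)
    (hq2 : q % 2 = 1) : tst m D q = true := by
  have h := tstAll_true
  rw [tstAll, List.all_eq_true] at h
  have h1 := h m (List.mem_range.2 hm)
  rw [List.all_eq_true] at h1
  have h2 := h1 D (List.mem_range.2 (by have := Nat.le_of_dvd (by omega) hDm; omega))
  rw [Bool.or_eq_true, Bool.not_eq_true', Bool.and_eq_false_iff, Bool.and_eq_false_iff] at h2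
  rcases h2 with ((h2 | h2) | h2) | h2
  · exact absurd hm3 (of_decide_eq_false h2)
  · exact absurd hD (of_decide_eq_false h2)
  · exact absurd (Nat.mod_eq_zero_of_dvd hDm) (of_decide_eq_false h2)
  · rw [List.all_eq_true] at h2
    have h3 := h2 q (List.mem_range.2 (by have := Nat.le_of_dvd (by omega) hqD; omega))
    rw [Bool.or_eq_true, Bool.or_eq_true, Bool.not_eq_true', Bool.and_eq_false_iff] at h3
    rcases h3 with ((h3 | h3) | h3) | h3
    · exact absurd hq (of_decide_eq_false h3)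
    · exact absurd (Nat.mod_eq_zero_of_dvd hqD) (of_decide_eq_false h3)
    · have := of_decide_eq_true h3
      omega
    · exact h3

/-- **Small `m`.** -/
theorem small {x y e : ℤ} {n m : ℕ} (hn : 6 ≤ n) (hm3 : 3 ≤ m) (hx : 3 ≤ x.natAbs) (hx2 : x.natAbs % 2 = 1)
    (hxy : x ∣ y - 1) (hym : (y - 1).natAbs ∣ m) (hy1 : y ≠ 1) (he : e = 1 ∨ e = -1)
    (heq : (x ^ n - 1) * (y - 1) = e * (y * (y ^ (m - 1) - 1)) * (x - 1)) : 60 ≤ m := by
  by_contra hm
  have hD : x.natAbs ∣ (y - 1).natAbs := Int.natAbs_dvd_natAbs.2 hxy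
  have hD0 : 0 < (y - 1).natAbs := by omega
  have hD3 : 3 ≤ (y - 1).natAbs := hx.trans (Nat.le_of_dvd hD0 hD)
  have h1 := tst_of (by omega) hm3 hD3 hym hx hD hx2
  obtain ⟨Y, hY⟩ : y - 1 ∣ y ^ (m - 1) - 1 := by simpa only [_root_.one_pow] using sub_dvd_pow_sub_pow y 1 (m - 1)
  have hy0 : y - 1 ≠ 0 := sub_ne_zero.2 hy1
  have h2 : x ^ n - 1 = e * (y * Y) * (x - 1) := by
    apply mul_right_cancel₀ hy0
    rw [heq, hY]
    ring
  have h3 : (y ^ (m - 1) - 1) / (y - 1) = Y := by rw [hY]; exact Int.mul_ediv_cancel_left _ hy0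
  have h4 : (1 + e * (y * ((y ^ (m - 1) - 1) / (y - 1))) * (x - 1)) % x ^ 6 = 0 := by
    rw [h3, ← h2]
    apply Int.emod_eq_zero_of_dvd
    rw [show 1 + (x ^ n - 1) = x ^ n by ring]
    exact pow_dvd_pow x hn
  rw [tst, List.all_eq_true] at h1
  have h5 : y ∈ [((((y - 1).natAbs : ℕ) : ℤ) + 1), 1 - (((y - 1).natAbs : ℕ) : ℤ)] := by
    rw [List.mem_cons, List.mem_singleton]
    omega
  have h6 := h1 y h5
  rw [List.all_eq_true] at h6
  have h7 : x ∈ [((x.natAbs : ℕ) : ℤ), -((x.natAbs : ℕ) : ℤ)] := by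
    rw [List.mem_cons, List.mem_singleton]
    (clear * -; omega)
  have h8 := h6 x h7
  rw [List.all_eq_true] at h8
  have h9 : e ∈ [(1 : ℤ), -1] := by
    rw [List.mem_cons, List.mem_singleton]
    exact he
  have h10 := h8 e h9
  rw [Bool.not_eq_true'] at h10
  exact of_decide_eq_false h10 h4

/-! ### `x = -3`, `y = -2` -/

theorem zmod_case : ∀ i < 16, ∀ j < 16, (-3 : ZMod 64) ^ j = 5 → (-3 : ZMod 17) ^ j - (-2) ^ i ≠ 5 := by
  decide +kernel

theorem three_two {a b : ℕ} (hb : 6 ≤ b) (h : (-3 : ℤ) ^ a - (-2) ^ b = 5) : False := by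
  have h1 : (-3 : ZMod 64) ^ a = 5 := by
    have h2 := congrArg (Int.cast : ℤ → ZMod 64) h
    push_cast at h2
    have h3 : (-2 : ZMod 64) ^ b = 0 := by
      obtain ⟨c, rfl⟩ := Nat.exists_eq_add_of_le hb
      rw [pow_add, show (-2 : ZMod 64) ^ 6 = 0 by decide, zero_mul]
    rw [h3, sub_zero] at h2
    exact h2
  have h4 : (-3 : ZMod 17) ^ a - (-2) ^ b = 5 := by
    have h2 := congrArg (Int.cast : ℤ → ZMod 17) h
    push_cast at h2
    exact h2
  have h5 : (-3 : ZMod 64) ^ a = (-3) ^ (a % 16) := by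
    conv_lhs => rw [← Nat.div_add_mod a 16, pow_add, pow_mul, show (-3 : ZMod 64) ^ 16 = 1 by decide, one_pow, one_mul]
  have h6 : (-3 : ZMod 17) ^ a = (-3) ^ (a % 16) := by
    conv_lhs => rw [← Nat.div_add_mod a 16, pow_add, pow_mul, show (-3 : ZMod 17) ^ 16 = 1 by decide, one_pow, one_mul]
  have h7 : (-2 : ZMod 17) ^ b = (-2) ^ (b % 16) := by
    conv_lhs => rw [← Nat.div_add_mod b 16, pow_add, pow_mul, show (-2 : ZMod 17) ^ 16 = 1 by decide, one_pow, one_mul]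
  rw [h5] at h1
  rw [h6, h7] at h4
  exact zmod_case _ (Nat.mod_lt _ (by norm_num)) _ (Nat.mod_lt _ (by norm_num)) h1 h4

/-! ### estimates -/

theorem natAbs_pow_le (y : ℤ) (b : ℕ) : ua y b ≤ y.natAbs ^ b + 1 := by
  have h1 := Int.natAbs_sub_le (y ^ b) 1
  rw [Int.natAbs_pow, Int.natAbs_one] at h1
  exact h1

theorem le_ua (y : ℤ) (b : ℕ) : y.natAbs ^ b ≤ ua y b + 1 := by
  have h1 := Int.natAbs_add_le (y ^ b - 1) 1
  rw [sub_add_cancel, Int.natAbs_pow, Int.natAbs_one] at h1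
  exact h1

theorem two_ua {y : ℤ} (hy : 2 ≤ y.natAbs) {b : ℕ} (hb : 1 ≤ b) : y.natAbs ^ b ≤ 2 * ua y b := by
  have h1 := le_ua y b
  have h2 : 2 ≤ y.natAbs ^ b := hy.trans (Nat.le_self_pow (by omega) _)
  omega

/-- the zero case -/
theorem zero_case {x y : ℤ} {e : ℕ} (hx : 3 ≤ x.natAbs) (hy : 2 ≤ y.natAbs) (hxy : x ∣ y - 1) (hy1 : y ≠ 1) (he : 2 ≤ e)
    (h0 : x * (y - 1) + y ^ e - 1 = 0) : x = -3 ∧ y = -2 := by
  have hD : x.natAbs ∣ (y - 1).natAbs := Int.natAbs_dvd_natAbs.2 hxy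
  have hD0 : 0 < (y - 1).natAbs := by omega
  have hxle := Nat.le_of_dvd hD0 hD
  have h1 : x.natAbs * (y - 1).natAbs = ua y e := by
    rw [← Int.natAbs_mul, ua, show y ^ e - 1 = -(x * (y - 1)) by linear_combination h0, Int.natAbs_neg]
  have h2 := le_ua y e
  rw [← h1] at h2
  have h3 : (y - 1).natAbs ≤ y.natAbs + 1 := by omega
  obtain ⟨u, hu⟩ : ∃ u, u = y.natAbs := ⟨_, rfl⟩
  rw [← hu] at h2 h3 hy
  have h4 : x.natAbs * (y - 1).natAbs ≤ (u + 1) * (u + 1) := Nat.mul_le_mul (hxle.trans h3) h3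
  rcases Nat.lt_or_ge e 3 with he3 | he3
  · have he2 : e = 2 := by omega
    subst he2
    exfalso
    -- `(y - 1) (x + y + 1) = 0`
    have h5 : (y - 1) * (x + y + 1) = 0 := by linear_combination h0
    rcases mul_eq_zero.1 h5 with h6 | h6
    · exact hy1 (by linarith only [h6])
    · have h7 : x = -(y + 1) := by linarith only [h6]
      have h8 : (y + 1) ∣ 2 := by
        have h9 : (y + 1) ∣ y - 1 := by rw [h7] at hxy; exact (neg_dvd).1 hxy
        have h10 := dvd_sub (dvd_refl (y + 1)) h9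
        rwa [show y + 1 - (y - 1) = 2 by ring] at h10
      have h11 : (y + 1).natAbs ≤ 2 := Nat.le_of_dvd (by norm_num) (Int.natAbs_dvd_natAbs.2 h8)
      rw [h7, Int.natAbs_neg] at hx
      omega
  · have h5 : u ^ 3 ≤ u ^ e := Nat.pow_le_pow_right (by omega) he3
    have h6 : u ^ 3 ≤ (u + 1) * (u + 1) + 1 := by omega
    have h7 : u = 2 := by
      by_contra hne
      have h8 : 3 ≤ u := by omega
      have h9 : 3 * u * u ≤ u ^ 3 := by
        rw [pow_succ, pow_two]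
        calc 3 * u * u = (u * u) * 3 := by ring
          _ ≤ (u * u) * u := Nat.mul_le_mul_left _ h8
      nlinarith only [h2, h4, h5, h8]
    have hy2 : y = 2 ∨ y = -2 := by omega
    rcases hy2 with rfl | rfl
    · norm_num at hxle
      omega
    · have h8 : x.natAbs = 3 := by
        norm_num at hxle
        omega
      rw [h8] at h1
      have h9 : ua (-2) e = 9 := by rw [← h1]; norm_num
      have h10 : e = 3 := by
        by_contra hne
        have h11 := le_ua (-2) e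
        rw [h9] at h11
        have h12 : 2 ^ 4 ≤ 2 ^ e := Nat.pow_le_pow_right (by norm_num) (by omega)
        norm_num at h11 h12
        omega
      subst h10
      refine ⟨?_, rfl⟩
      norm_num at h0
      linarith only [h0]

/-- the bound for the third class -/
theorem k_le {x y : ℤ} {n m k : ℕ} (hx : 3 ≤ x.natAbs) (hy : 2 ≤ y.natAbs) (hxy : x ∣ y - 1) (hy1 : y ≠ 1)
    (hn : 2 ≤ n) (hk : 1 ≤ k) (hkm : k + 2 ≤ m) (hm : 6 ≤ m)
    (heq : (x ^ n - 1) * (y - 1) = -(y * (y ^ (m - 1) - 1)) * (x - 1))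
    (hT : ua y k ∣ x.natAbs * ua x (n - 2)) : 2 * k ≤ m + 5 := by
  obtain ⟨e, rfl⟩ : ∃ e, m = k + e := ⟨m - k, by omega⟩
  have hD : x.natAbs ∣ (y - 1).natAbs := Int.natAbs_dvd_natAbs.2 hxy
  have hD0 : 0 < (y - 1).natAbs := by omega
  have hxle := Nat.le_of_dvd hD0 hD
  have h3 : (y - 1).natAbs ≤ y.natAbs + 1 := by omega
  obtain ⟨T1, hT1⟩ : x.natAbs ∣ ua y k := hD.trans (dvd_ua y k)
  rw [hT1] at hT
  have hT2 : T1 ∣ ua x (n - 2) := Nat.dvd_of_mul_dvd_mul_left (by omega) hT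
  have hd1 : (T1 : ℤ) ∣ x ^ (n - 2) - 1 := Int.natCast_dvd.2 hT2
  have hd2 : (T1 : ℤ) ∣ y ^ k - 1 := Int.natCast_dvd.2 (by
    show T1 ∣ ua y k
    rw [hT1]; exact dvd_mul_left _ _)
  -- the congruence
  have hym : y * (y ^ (k + e - 1) - 1) = y ^ (k + e) - y := by
    have : y ^ (k + e) = y * y ^ (k + e - 1) := by rw [← pow_succ']; congr 1; omega
    rw [this]; ring
  rw [hym] at heq
  have hxn : x ^ n = x ^ 2 * x ^ (n - 2) := by rw [← pow_add]; congr 1; omega
  have h5 : (T1 : ℤ) ∣ (x - 1) * (x * (y - 1) + y ^ e - 1) := by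
    have h6 : (x - 1) * (x * (y - 1) + y ^ e - 1) =
        -(y - 1) * x ^ 2 * (x ^ (n - 2) - 1) - (x - 1) * y ^ e * (y ^ k - 1) := by
      rw [hxn, pow_add] at heq
      linear_combination heq
    rw [h6]
    exact dvd_sub (hd1.mul_left _) (hd2.mul_left _)
  by_cases h0 : x * (y - 1) + y ^ e - 1 = 0
  · obtain ⟨rfl, rfl⟩ := zero_case hx hy hxy hy1 (by omega) h0
    exfalso
    refine three_two (a := n + 1) (b := k + e + 2) (by omega) ?_
    rw [pow_succ, pow_succ, pow_succ]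
    linear_combination heq
  · have hx1 : x - 1 ≠ 0 := by (clear * - hx; omega)
    have h6 := Nat.le_of_dvd (Int.natAbs_pos.2 (mul_ne_zero hx1 h0)) (Int.natCast_dvd.1 h5)
    rw [Int.natAbs_mul] at h6
    have h7 : (x * (y - 1) + y ^ e - 1).natAbs ≤ x.natAbs * (y - 1).natAbs + (y.natAbs ^ e + 1) := by
      have h8 := Int.natAbs_add_le (x * (y - 1)) (y ^ e - 1)
      rw [Int.natAbs_mul] at h8
      have h9 := natAbs_pow_le y e
      rw [ua] at h9
      rw [show x * (y - 1) + y ^ e - 1 = x * (y - 1) + (y ^ e - 1) by ring]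
      omega
    have h8 : (x - 1).natAbs ≤ x.natAbs + 1 := by (clear * - hy hy1 hD0 h0 hx1; omega)
    obtain ⟨u, hu⟩ : ∃ u, u = y.natAbs := ⟨_, rfl⟩
    have h9 := le_ua y k
    rw [hT1] at h9
    rw [← hu] at h3 h7 h9 hy
    have hq : x.natAbs ≤ u + 1 := hxle.trans h3
    have h10 : x.natAbs * T1 ≤ (u + 1) * ((u + 2) * ((u + 1) * (u + 1) + (u ^ e + 1))) := by
      refine Nat.mul_le_mul hq (h6.trans (Nat.mul_le_mul (by omega) (h7.trans ?_)))
      exact Nat.add_le_add_right (Nat.mul_le_mul hq h3) _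
    by_contra hcon
    have hke : e + 6 ≤ k := by omega
    have h11 : u ^ (e + 6) ≤ u ^ k := Nat.pow_le_pow_right (by omega) hke
    have h12 : u ^ 2 ≤ u ^ e := Nat.pow_le_pow_right (by omega) (by omega)
    have h13 : u ^ (e + 6) = u ^ e * u ^ 4 * u ^ 2 := by rw [pow_add]; ring
    have h14 : 16 ≤ u ^ 4 := by
      calc 16 = 2 ^ 4 := by norm_num
        _ ≤ u ^ 4 := Nat.pow_le_pow_left hy 4
    have h15 : u ^ e * 16 * u ^ 2 ≤ u ^ (e + 6) := by
      rw [h13]
      exact Nat.mul_le_mul_right _ (Nat.mul_le_mul_left _ h14)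
    obtain ⟨E, hE⟩ : ∃ E, E = u ^ e := ⟨_, rfl⟩
    rw [← hE] at h10 h12 h15
    have h16 : E * 16 * u ^ 2 ≤ (u + 1) * ((u + 2) * ((u + 1) * (u + 1) + (E + 1))) + 1 := by omega
    -- `(u+1)(u+2) ≤ 3 u²`, `(u+1)² + 1 + E ≤ 4 E`
    have h17 : (u + 1) * (u + 2) ≤ 3 * u ^ 2 := by nlinarith only [hy]
    have h18 : (u + 1) * (u + 1) + (E + 1) ≤ 4 * E := by linarith only [h12, h17]
    have h19 : (u + 1) * ((u + 2) * ((u + 1) * (u + 1) + (E + 1))) ≤ 3 * u ^ 2 * (4 * E) := by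
      rw [← mul_assoc]
      exact Nat.mul_le_mul h17 h18
    have h20 : 4 ≤ u ^ 2 := by linarith only [hy, h17]
    have h21 : 1 ≤ E * u ^ 2 := by nlinarith only [h14, h12]
    linarith only [h9, h11, h15, h10, h19, h21]

theorem lcm_three {a b c R g1 g2 g3 : ℕ} (ha : a ∣ R) (hb : b ∣ R) (hc : c ∣ R) (hR : 0 < R) (h1 : Nat.gcd a b ∣ g1)
    (h2 : Nat.gcd a c ∣ g2) (h3 : Nat.gcd b c ∣ g3) (hg1 : 0 < g1) (hg2 : 0 < g2) (hg3 : 0 < g3) :
    a * b * c ≤ g1 * (R * (g2 * g3)) := by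
  have e1 : Nat.gcd a b * Nat.lcm a b = a * b := Nat.gcd_mul_lcm a b
  have e2 : Nat.gcd (Nat.lcm a b) c * Nat.lcm (Nat.lcm a b) c = Nat.lcm a b * c := Nat.gcd_mul_lcm _ _
  have e3 : Nat.lcm (Nat.lcm a b) c ≤ R := Nat.le_of_dvd hR (Nat.lcm_dvd (Nat.lcm_dvd ha hb) hc)
  have e4 : Nat.gcd (Nat.lcm a b) c ∣ g2 * g3 := by
    have h4 : Nat.gcd (Nat.lcm a b) c ∣ Nat.gcd (a * b) c := Nat.gcd_dvd_gcd_of_dvd_left _ (Nat.lcm_dvd_mul a b)
    exact (h4.trans (Nat.gcd_mul_left_dvd_mul_gcd c a b)).trans (Nat.mul_dvd_mul h2 h3)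
  have e5 := Nat.le_of_dvd (Nat.mul_pos hg2 hg3) e4
  have e6 := Nat.le_of_dvd hg1 h1
  calc a * b * c = Nat.gcd a b * (Nat.gcd (Nat.lcm a b) c * Nat.lcm (Nat.lcm a b) c) := by rw [e2, ← mul_assoc, e1]
    _ ≤ g1 * ((g2 * g3) * R) := Nat.mul_le_mul e6 (Nat.mul_le_mul e5 e3)
    _ = _ := by ring

/-- the size of `x ^ n` -/
theorem up_x {x y : ℤ} {n m : ℕ} (hx : 3 ≤ x.natAbs) (hy : 2 ≤ y.natAbs) (hn : 1 ≤ n)
    (heq : ua x n * (y - 1).natAbs = y.natAbs * ua y (m - 1) * (x - 1).natAbs) :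
    x.natAbs ^ (n - 1) ≤ 3 * (y.natAbs ^ (m - 1) + 1) := by
  obtain ⟨u, hu⟩ : ∃ u, u = y.natAbs := ⟨_, rfl⟩
  obtain ⟨q, hq⟩ : ∃ q, q = x.natAbs := ⟨_, rfl⟩
  have h1 : u ≤ 2 * (y - 1).natAbs := by omega
  have h2 := natAbs_pow_le y (m - 1)
  have h3 : (x - 1).natAbs ≤ q + 1 := by (clear * - hy hu hq; omega)
  have h4 := le_ua x n
  rw [← hu] at heq h2 hy ⊢
  rw [← hq] at h4 hx ⊢
  have h5 : u * ua x n ≤ u * (2 * ((u ^ (m - 1) + 1) * (q + 1))) := by
    calc u * ua x n ≤ 2 * (y - 1).natAbs * ua x n := Nat.mul_le_mul_right _ h1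
      _ = 2 * (u * ua y (m - 1) * (x - 1).natAbs) := by rw [← heq]; ring
      _ ≤ 2 * (u * (u ^ (m - 1) + 1) * (q + 1)) := Nat.mul_le_mul_left _ (Nat.mul_le_mul (Nat.mul_le_mul_left _ h2) h3)
      _ = _ := by ring
  have h6 := Nat.le_of_mul_le_mul_left h5 (by omega)
  have h7 : q ^ n = q * q ^ (n - 1) := by rw [← pow_succ']; congr 1; omega
  rw [h7] at h4
  obtain ⟨U, hU⟩ : ∃ U, U = u ^ (m - 1) + 1 := ⟨_, rfl⟩
  rw [← hU] at h6 ⊢
  have hU1 : 1 ≤ U := by omega
  have h8 : q * q ^ (n - 1) ≤ q * (3 * U) := by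
    have h9 : q * q ^ (n - 1) ≤ 2 * (U * (q + 1)) + 1 := by omega
    have h10 : 2 * (U * (q + 1)) + 1 ≤ 3 * (q * U) := by nlinarith only [hx, hU1]
    calc q * q ^ (n - 1) ≤ 3 * (q * U) := h9.trans h10
      _ = q * (3 * U) := by ring
  exact Nat.le_of_mul_le_mul_left h8 (by omega)

/-- **Large `m`.** -/
theorem big {x y : ℤ} {n m k : ℕ} (hx : 3 ≤ x.natAbs) (hy : 2 ≤ y.natAbs) (hxy : x ∣ y - 1) (hy1 : y ≠ 1)
    (hn : 3 ≤ n) (hk : 1 ≤ k) (hkm : k + 2 ≤ m) (hm : 60 ≤ m)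
    (heq : (x ^ n - 1) * (y - 1) = -(y * (y ^ (m - 1) - 1)) * (x - 1))
    (hT : ua y k ∣ x.natAbs * ua x (n - 2))
    (hB : ∀ b, 1 ≤ b → k + b + 2 ≤ m → ua y b ∣ x.natAbs * ua x (n - 2)) : False := by
  have h1 := k_le hx hy hxy hy1 (by omega) hk hkm (by omega) heq hT
  obtain ⟨B, hB0⟩ : ∃ B, m = k + B + 2 := ⟨m - 2 - k, by omega⟩
  have hB25 : 25 ≤ B := by omega
  have hnat : ua x n * (y - 1).natAbs = y.natAbs * ua y (m - 1) * (x - 1).natAbs := by
    have h2 := congrArg Int.natAbs heq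
    rw [Int.natAbs_mul, Int.natAbs_mul, Int.natAbs_neg, Int.natAbs_mul] at h2
    exact h2
  have h3 := up_x hx hy (by omega) hnat
  have hD : x.natAbs ∣ (y - 1).natAbs := Int.natAbs_dvd_natAbs.2 hxy
  have hxle := Nat.le_of_dvd (by omega) hD
  have hyle : (y - 1).natAbs ≤ y.natAbs + 1 := by omega
  -- the number `R`
  obtain ⟨R, hR⟩ : ∃ R, R = x.natAbs * ua x (n - 2) := ⟨_, rfl⟩
  have hR0 : 0 < R := by
    rw [hR]
    have h4 := two_ua (y := x) (by omega) (b := n - 2) (by omega)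
    have h5 : 0 < x.natAbs ^ (n - 2) := Nat.pow_pos (by omega)
    exact Nat.mul_pos (by omega) (by omega)
  have hRle : R ≤ x.natAbs ^ (n - 1) + x.natAbs := by
    rw [hR]
    calc x.natAbs * ua x (n - 2) ≤ x.natAbs * (x.natAbs ^ (n - 2) + 1) := Nat.mul_le_mul_left _ (natAbs_pow_le x (n - 2))
      _ = x.natAbs ^ (n - 1) + x.natAbs := by
        rw [mul_add, mul_one, ← pow_succ', show n - 2 + 1 = n - 1 by omega]
  rw [← hR] at hB
  have d1 := hB B (by omega) (by omega)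
  have d2 := hB (B - 1) (by omega) (by omega)
  have d3 := hB (B - 2) (by omega) (by omega)
  have g : ∀ {a b c : ℕ}, a = b + c → Nat.gcd (ua y a) (ua y b) ∣ ua y c := by
    intro a b c habc
    have h5 : ((Nat.gcd (ua y a) (ua y b) : ℕ) : ℤ) ∣ y ^ a - 1 := Int.natCast_dvd.2 (Nat.gcd_dvd_left _ _)
    have h6 : ((Nat.gcd (ua y a) (ua y b) : ℕ) : ℤ) ∣ y ^ b - 1 := Int.natCast_dvd.2 (Nat.gcd_dvd_right _ _)
    apply Int.natCast_dvd.1
    have h7 : y ^ c - 1 = (y ^ a - 1) - y ^ c * (y ^ b - 1) := by rw [habc, pow_add]; ring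
    rw [h7]
    exact dvd_sub h5 (h6.mul_left _)
  have g1 := g (a := B) (b := B - 1) (c := 1) (by omega)
  have g2 := g (a := B) (b := B - 2) (c := 2) (by omega)
  have g3 := g (a := B - 1) (b := B - 2) (c := 1) (by omega)
  obtain ⟨u, hu⟩ : ∃ u, u = y.natAbs := ⟨_, rfl⟩
  have p1 : 0 < ua y 1 := by rw [ua_one]; omega
  have p2 : 0 < ua y 2 := by
    rw [ua_two]
    exact Nat.mul_pos (by omega) (by omega)
  have h8 := lcm_three d1 d2 d3 hR0 g1 g2 g3 p1 p2 p1
  have a1 := two_ua hy (b := B) (by omega)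
  have a2 := two_ua hy (b := B - 1) (by omega)
  have a3 := two_ua hy (b := B - 2) (by omega)
  have b1 : ua y 1 ≤ 2 * u := by rw [ua_one]; omega
  have b2 : ua y 2 ≤ 2 * u ^ 2 := by
    have := natAbs_pow_le y 2
    rw [← hu] at this
    have : 1 ≤ u ^ 2 := Nat.one_le_pow _ _ (by omega)
    omega
  rw [← hu] at a1 a2 a3 h3 hyle hy
  have h9 : u ^ B * u ^ (B - 1) * u ^ (B - 2) ≤ 8 * (2 * u * (R * (2 * u ^ 2 * (2 * u)))) := by
    calc u ^ B * u ^ (B - 1) * u ^ (B - 2) ≤ 2 * ua y B * (2 * ua y (B - 1)) * (2 * ua y (B - 2)) :=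
          Nat.mul_le_mul (Nat.mul_le_mul a1 a2) a3
      _ = 8 * (ua y B * ua y (B - 1) * ua y (B - 2)) := by ring
      _ ≤ 8 * (ua y 1 * (R * (ua y 2 * ua y 1))) := Nat.mul_le_mul_left _ h8
      _ ≤ _ := Nat.mul_le_mul_left _ (Nat.mul_le_mul b1 (Nat.mul_le_mul_left _ (Nat.mul_le_mul b2 b1)))
  have h10 : R ≤ 8 * u ^ (m - 1) := by
    have h11 : u + 1 ≤ u ^ (m - 1) := by
      calc u + 1 ≤ u ^ 2 := by nlinarith only [hy]
        _ ≤ u ^ (m - 1) := Nat.pow_le_pow_right (by omega) (by omega)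
    (clear * - hxle hRle hyle h3 h11; omega)
  have h11 : u ^ (3 * B - 3) ≤ u ^ (m + 12) := by
    have e1 : u ^ (3 * B - 3) = u ^ B * u ^ (B - 1) * u ^ (B - 2) := by
      rw [← pow_add, ← pow_add]
      congr 1
      (clear * - hB25; omega)
    rw [e1]
    refine h9.trans ?_
    calc 8 * (2 * u * (R * (2 * u ^ 2 * (2 * u)))) ≤ 8 * (2 * u * (8 * u ^ (m - 1) * (2 * u ^ 2 * (2 * u)))) :=
          Nat.mul_le_mul_left _ (Nat.mul_le_mul_left _ (Nat.mul_le_mul_right _ h10))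
      _ = 2 ^ 9 * (u ^ (m - 1) * u ^ 4) := by ring
      _ ≤ u ^ 9 * (u ^ (m - 1) * u ^ 4) := Nat.mul_le_mul_right _ (Nat.pow_le_pow_left hy 9)
      _ = u ^ (m + 12) := by
        rw [← pow_add, ← pow_add]
        congr 1
        omega
  have h12 := (Nat.pow_le_pow_iff_right (show 1 < u by omega)).1 h11
  (clear * - h1 hB0 hB25 h12; omega)

end Cfsg.Agent.R2.Spec.AA

private theorem dce_cdb79bdc96be : _root_.True := by
  try have : _root_.True := by simp only [_root_.Cfsg.Agent.R2.Spec.AA.tstAll.eq_1]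
  try have : _root_.True := by simp only [_root_.Cfsg.Agent.R2.Spec.AA.tst.eq_1]
  exact _root_.True.intro
end

-- part: R2/Spec/IIA/Num
section
prune_inst 0x4052024044cc000080000801652003806b40005b000230000f8200546010edb2089c0af4048201d06124e12011801000000100070404000000e00300000030020802b54021374030cae0087801087180c00000000000000000000000000041004000000000
set_option linter.all false
open scoped Cfsg.Agent.FastGrp

/-!
# Packet EXO-IIA (S3435): the numbers (helper4)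

`x = ± q`, `y = ± u`, `x ^ n * (y - 1) = 2 * y ^ m - y - 1`, `y - 1 ∣ m`; a third class `k`.
-/

set_option autoImplicit false

namespace Cfsg.Agent.R2.Spec.IIA

open Cfsg.Agent.R2.Spec.X7 (ua)
open Cfsg.Agent.R2.Spec.AA (two_ua le_ua natAbs_pow_le)

/-! ### least common multiples -/

/-- products -/
def pr (a : ℕ → ℕ) : ℕ → ℕ
  | 0 => 1
  | n + 1 => pr a n * a n

/-- the product of the greatest common divisors with `c` -/
def pg (a : ℕ → ℕ) (c : ℕ) : ℕ → ℕ
  | 0 => 1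
  | n + 1 => pg a c n * Nat.gcd (a n) c

/-- the product of the greatest common divisors of the pairs -/
def pp (a : ℕ → ℕ) : ℕ → ℕ
  | 0 => 1
  | n + 1 => pp a n * pg a (a n) n

/-- the least common multiple -/
def pl (a : ℕ → ℕ) : ℕ → ℕ
  | 0 => 1
  | n + 1 => Nat.lcm (pl a n) (a n)

theorem pl_dvd_pr (a : ℕ → ℕ) (n : ℕ) : pl a n ∣ pr a n := by
  induction n with
  | zero => exact dvd_rfl
  | succ n ih => exact Nat.lcm_dvd (ih.mul_right _) (dvd_mul_left _ _)

theorem pl_dvd (a : ℕ → ℕ) {n X : ℕ} (h : ∀ i < n, a i ∣ X) : pl a n ∣ X := by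
  induction n with
  | zero => exact one_dvd _
  | succ n ih => exact Nat.lcm_dvd (ih fun i hi => h i (by omega)) (h n (by omega))

theorem gcd_pr_dvd (a : ℕ → ℕ) (c n : ℕ) : Nat.gcd (pr a n) c ∣ pg a c n := by
  induction n with
  | zero => rw [pr, Nat.gcd_one_left]; exact one_dvd _
  | succ n ih =>
    rw [pr, pg, Nat.gcd_comm]
    refine (Nat.gcd_mul_right_dvd_mul_gcd c (pr a n) (a n)).trans ?_
    rw [Nat.gcd_comm c, Nat.gcd_comm c]
    exact Nat.mul_dvd_mul ih dvd_rfl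

theorem pr_dvd_pl (a : ℕ → ℕ) (n : ℕ) : pr a n ∣ pl a n * pp a n := by
  induction n with
  | zero => exact dvd_rfl
  | succ n ih =>
    rw [pr, pl, pp]
    have h1 : Nat.gcd (pl a n) (a n) ∣ pg a (a n) n :=
      (Nat.gcd_dvd_gcd_of_dvd_left _ (pl_dvd_pr a n)).trans (gcd_pr_dvd a (a n) n)
    calc pr a n * a n ∣ (pl a n * pp a n) * a n := Nat.mul_dvd_mul ih dvd_rfl
      _ = (Nat.gcd (pl a n) (a n) * Nat.lcm (pl a n) (a n)) * pp a n := by rw [Nat.gcd_mul_lcm]; ring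
      _ ∣ (pg a (a n) n * Nat.lcm (pl a n) (a n)) * pp a n := Nat.mul_dvd_mul (Nat.mul_dvd_mul h1 dvd_rfl) dvd_rfl
      _ = Nat.lcm (pl a n) (a n) * (pp a n * pg a (a n) n) := by ring

theorem pr_dvd (a : ℕ → ℕ) {n X : ℕ} (h : ∀ i < n, a i ∣ X) : pr a n ∣ X * pp a n :=
  (pr_dvd_pl a n).trans (Nat.mul_dvd_mul (pl_dvd a h) dvd_rfl)

/-- the sum of the greatest common divisors of the pairs -/
def sg1 (c n : ℕ) : ℕ → ℕ
  | 0 => 0
  | i + 1 => sg1 c n i + Nat.gcd (c + i) (n - i)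

def sg2 (c : ℕ) : ℕ → ℕ
  | 0 => 0
  | n + 1 => sg2 c n + sg1 c n n

theorem sg1_mod (c n j : ℕ) (hn : n ≤ 8) (hj : j ≤ n) : sg1 c n j = sg1 (c % 840) n j := by
  induction j with
  | zero => rfl
  | succ j ih =>
    rw [sg1, sg1, ih (by omega)]
    congr 1
    have h1 : n - j ∣ 840 := by
      have h2 : n - j ≤ 8 := by omega
      have h3 : 1 ≤ n - j := by omega
      generalize n - j = e at h2 h3
      interval_cases e <;> norm_num
    have h2 : c + j ≡ c % 840 + j [MOD (n - j)] := ((Nat.mod_modEq c 840).symm.of_dvd h1).add_right j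
    rw [Nat.gcd_comm, Nat.gcd_comm (c % 840 + j)]
    rw [Nat.gcd_rec (n - j) (c + j), Nat.gcd_rec (n - j) (c % 840 + j), h2]

theorem sg2_mod (c n : ℕ) (hn : n ≤ 9) : sg2 c n = sg2 (c % 840) n := by
  induction n with
  | zero => rfl
  | succ n ih => rw [sg2, sg2, ih (by omega), sg1_mod c n n (by omega) le_rfl]

private def sgF (c : ℕ) : ℕ :=
  (Nat.add (Nat.add (Nat.add (Nat.add (Nat.add (Nat.add (Nat.add (Nat.add (Nat.add 0
    0)
    (Nat.add 0 (Nat.gcd (Nat.add c 0) 1)))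
    (Nat.add (Nat.add 0 (Nat.gcd (Nat.add c 0) 2)) (Nat.gcd (Nat.add c 1) 1)))
    (Nat.add (Nat.add (Nat.add 0 (Nat.gcd (Nat.add c 0) 3)) (Nat.gcd (Nat.add c 1) 2)) (Nat.gcd (Nat.add c 2) 1)))
    (Nat.add (Nat.add (Nat.add (Nat.add 0 (Nat.gcd (Nat.add c 0) 4)) (Nat.gcd (Nat.add c 1) 3)) (Nat.gcd (Nat.add c 2) 2)) (Nat.gcd (Nat.add c 3) 1)))
    (Nat.add (Nat.add (Nat.add (Nat.add (Nat.add 0 (Nat.gcd (Nat.add c 0) 5)) (Nat.gcd (Nat.add c 1) 4)) (Nat.gcd (Nat.add c 2) 3)) (Nat.gcd (Nat.add c 3) 2)) (Nat.gcd (Nat.add c 4) 1)))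
    (Nat.add (Nat.add (Nat.add (Nat.add (Nat.add (Nat.add 0 (Nat.gcd (Nat.add c 0) 6)) (Nat.gcd (Nat.add c 1) 5)) (Nat.gcd (Nat.add c 2) 4)) (Nat.gcd (Nat.add c 3) 3)) (Nat.gcd (Nat.add c 4) 2)) (Nat.gcd (Nat.add c 5) 1)))
    (Nat.add (Nat.add (Nat.add (Nat.add (Nat.add (Nat.add (Nat.add 0 (Nat.gcd (Nat.add c 0) 7)) (Nat.gcd (Nat.add c 1) 6)) (Nat.gcd (Nat.add c 2) 5)) (Nat.gcd (Nat.add c 3) 4)) (Nat.gcd (Nat.add c 4) 3)) (Nat.gcd (Nat.add c 5) 2)) (Nat.gcd (Nat.add c 6) 1)))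
    (Nat.add (Nat.add (Nat.add (Nat.add (Nat.add (Nat.add (Nat.add (Nat.add 0 (Nat.gcd (Nat.add c 0) 8)) (Nat.gcd (Nat.add c 1) 7)) (Nat.gcd (Nat.add c 2) 6)) (Nat.gcd (Nat.add c 3) 5)) (Nat.gcd (Nat.add c 4) 4)) (Nat.gcd (Nat.add c 5) 3)) (Nat.gcd (Nat.add c 6) 2)) (Nat.gcd (Nat.add c 7) 1)))

private theorem sgF_eq : (fun c => Nat.ble (sg2 c 9) 74) = fun c => Nat.ble (sgF c) 74 := funext fun _ => rfl

theorem sg2_chk : ((List.range 840).all fun c => Nat.ble (sg2 c 9) 74) = true := by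
  rewrite [sgF_eq]
  decide +kernel

theorem sg2_le (c : ℕ) : sg2 c 9 ≤ 74 := by
  rw [sg2_mod c 9 le_rfl]
  exact Nat.le_of_ble_eq_true (List.all_eq_true.1 sg2_chk _ (List.mem_range.2 (Nat.mod_lt _ (by norm_num))))

/-! ### the numbers `|y ^ b - 1|` -/

theorem gcd_ua (y : ℤ) (a b : ℕ) : Nat.gcd (ua y a) (ua y b) ∣ ua y (Nat.gcd a b) := by
  rw [Cfsg.Agent.R2.Spec.P1.dvd_ua_iff]
  exact Nat.dvd_gcd (Cfsg.Agent.R2.Spec.P1.dvd_ua_iff.1 (Nat.gcd_dvd_left _ _))
    (Cfsg.Agent.R2.Spec.P1.dvd_ua_iff.1 (Nat.gcd_dvd_right _ _))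

theorem ua_pos {y : ℤ} (hy : 2 ≤ y.natAbs) {b : ℕ} (hb : 1 ≤ b) : 0 < ua y b := by
  have h1 := two_ua hy hb
  have h2 : 1 ≤ y.natAbs ^ b := Nat.one_le_pow _ _ (by omega)
  omega

theorem two_ua_le {y : ℤ} (hy : 2 ≤ y.natAbs) {g : ℕ} (hg : 1 ≤ g) : 2 * ua y g ≤ 3 * y.natAbs ^ g := by
  have h1 := natAbs_pow_le y g
  have h2 : 2 ≤ y.natAbs ^ g := hy.trans (Nat.le_self_pow (by omega) _)
  omega

section

variable {y : ℤ} (hy : 2 ≤ y.natAbs) {c : ℕ} (hc : 1 ≤ c)
include hy hc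

theorem pr_low (n : ℕ) : y.natAbs ^ (c * n + n * (n - 1) / 2) ≤ 2 ^ n * pr (fun i => ua y (c + i)) n := by
  induction n with
  | zero => simp [pr]
  | succ n ih =>
    rw [pr]
    have h1 := two_ua hy (b := c + n) (by omega)
    have h2 : c * (n + 1) + (n + 1) * (n + 1 - 1) / 2 = c * n + n * (n - 1) / 2 + (c + n) := by
      have h3 : (n + 1) * (n + 1 - 1) / 2 = n * (n - 1) / 2 + n := by
        rw [Nat.add_sub_cancel]
        rcases n with _ | n
        · rfl
        · rw [Nat.add_sub_cancel, show (n + 1 + 1) * (n + 1) = (n + 1) * n + (n + 1) * 2 by ring,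
            Nat.add_mul_div_right _ _ (by norm_num)]
      rw [h3]
      ring
    rw [h2, pow_add]
    calc _ ≤ (2 ^ n * pr (fun i => ua y (c + i)) n) * (2 * ua y (c + n)) := Nat.mul_le_mul ih h1
      _ = _ := by ring

theorem pg_up (n j : ℕ) (hj : j ≤ n) : 2 ^ j * pg (fun i => ua y (c + i)) (ua y (c + n)) j ≤
    3 ^ j * y.natAbs ^ sg1 c n j := by
  induction j with
  | zero => simp [pg, sg1]
  | succ j ih =>
    rw [pg, sg1]
    have h1 : Nat.gcd (c + j) (c + n) = Nat.gcd (c + j) (n - j) := by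
      have : c + n = (c + j) + (n - j) := by omega
      rw [this, Nat.gcd_self_add_right]
    have h2 : 1 ≤ Nat.gcd (c + j) (n - j) := Nat.gcd_pos_of_pos_left _ (by omega)
    have h3 : Nat.gcd (ua y (c + j)) (ua y (c + n)) ≤ ua y (Nat.gcd (c + j) (n - j)) := by
      rw [← h1]
      exact Nat.le_of_dvd (ua_pos hy (by rw [h1]; exact h2)) (gcd_ua y _ _)
    have h4 := two_ua_le hy h2
    calc 2 ^ (j + 1) * (pg (fun i => ua y (c + i)) (ua y (c + n)) j * Nat.gcd (ua y (c + j)) (ua y (c + n)))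
        = (2 ^ j * pg (fun i => ua y (c + i)) (ua y (c + n)) j) * (2 * Nat.gcd (ua y (c + j)) (ua y (c + n))) := by ring
      _ ≤ (3 ^ j * y.natAbs ^ sg1 c n j) * (3 * y.natAbs ^ Nat.gcd (c + j) (n - j)) :=
        Nat.mul_le_mul (ih (by omega)) ((Nat.mul_le_mul_left 2 h3).trans h4)
      _ = 3 ^ (j + 1) * y.natAbs ^ (sg1 c n j + Nat.gcd (c + j) (n - j)) := by rw [pow_add, pow_succ]; ring

theorem pp_up (n : ℕ) : 2 ^ (n * (n - 1) / 2) * pp (fun i => ua y (c + i)) n ≤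
    3 ^ (n * (n - 1) / 2) * y.natAbs ^ sg2 c n := by
  induction n with
  | zero => simp [pp, sg2]
  | succ n ih =>
    have h3 : (n + 1) * (n + 1 - 1) / 2 = n * (n - 1) / 2 + n := by
      rw [Nat.add_sub_cancel]
      rcases n with _ | n
      · rfl
      · rw [Nat.add_sub_cancel, show (n + 1 + 1) * (n + 1) = (n + 1) * n + (n + 1) * 2 by ring,
          Nat.add_mul_div_right _ _ (by norm_num)]
    rw [pp, sg2, h3]
    have h1 := pg_up hy hc n n le_rfl
    calc 2 ^ (n * (n - 1) / 2 + n) * (pp (fun i => ua y (c + i)) n * pg (fun i => ua y (c + i)) (ua y (c + n)) n)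
        = (2 ^ (n * (n - 1) / 2) * pp (fun i => ua y (c + i)) n) *
          (2 ^ n * pg (fun i => ua y (c + i)) (ua y (c + n)) n) := by rw [pow_add]; ring
      _ ≤ (3 ^ (n * (n - 1) / 2) * y.natAbs ^ sg2 c n) * (3 ^ n * y.natAbs ^ sg1 c n n) := Nat.mul_le_mul ih h1
      _ = 3 ^ (n * (n - 1) / 2 + n) * y.natAbs ^ (sg2 c n + sg1 c n n) := by rw [pow_add, pow_add]; ring

/-- **Nine consecutive numbers.** -/
theorem nine {X E : ℕ} (hX : 0 < X) (hXE : X ≤ 9 * y.natAbs ^ E) (h : ∀ i < 9, ua y (c + i) ∣ X) : 9 * c + 2 ≤ 74 + E := by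
  have h1 := pr_low hy hc 9
  have h2 := pp_up hy hc 9
  have h3 := pr_dvd (fun i => ua y (c + i)) h
  have hpp : 0 < pp (fun i => ua y (c + i)) 9 := by
    rcases Nat.eq_zero_or_pos (pp (fun i => ua y (c + i)) 9) with h0 | h0
    · exfalso
      have h4 : ∀ n, 0 < pr (fun i => ua y (c + i)) n := by
        intro n
        induction n with
        | zero => exact Nat.one_pos
        | succ n ih => exact Nat.mul_pos ih (ua_pos hy (by omega))
      have hpg : ∀ n j, 0 < pg (fun i => ua y (c + i)) (ua y (c + n)) j := by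
        intro n j
        induction j with
        | zero => exact Nat.one_pos
        | succ j ih => exact Nat.mul_pos ih (Nat.gcd_pos_of_pos_left _ (ua_pos hy (by omega)))
      have hpp : ∀ n, 0 < pp (fun i => ua y (c + i)) n := by
        intro n
        induction n with
        | zero => exact Nat.one_pos
        | succ n ih => exact Nat.mul_pos ih (hpg _ _)
      have := hpp 9
      omega
    · exact h0
  have h4 := Nat.le_of_dvd (Nat.mul_pos hX hpp) h3
  norm_num only [] at h1 h2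
  have h5 := sg2_le c
  have h6 : y.natAbs ^ sg2 c 9 ≤ y.natAbs ^ 74 := Nat.pow_le_pow_right (by omega) h5
  have h7 : 2 ^ 36 * y.natAbs ^ (c * 9 + 36) ≤ 2 ^ 9 * 9 * 3 ^ 36 * y.natAbs ^ (74 + E) := by
    calc 2 ^ 36 * y.natAbs ^ (c * 9 + 36) ≤ 2 ^ 36 * (2 ^ 9 * pr (fun i => ua y (c + i)) 9) :=
        Nat.mul_le_mul_left _ (by norm_num; exact h1)
      _ ≤ 2 ^ 36 * (2 ^ 9 * (X * pp (fun i => ua y (c + i)) 9)) :=
        Nat.mul_le_mul_left _ (Nat.mul_le_mul_left _ h4)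
      _ = 2 ^ 9 * X * (2 ^ 36 * pp (fun i => ua y (c + i)) 9) := by ring
      _ ≤ 2 ^ 9 * (9 * y.natAbs ^ E) * (3 ^ 36 * y.natAbs ^ 74) :=
        Nat.mul_le_mul (Nat.mul_le_mul_left _ hXE) (le_trans (by norm_num; exact h2) (Nat.mul_le_mul_left _ h6))
      _ = _ := by rw [pow_add]; ring
  have h8 : 2 ^ 9 * 9 * 3 ^ 36 ≤ 2 ^ 36 * y.natAbs ^ 34 := by
    calc 2 ^ 9 * 9 * 3 ^ 36 ≤ 2 ^ 36 * 2 ^ 34 := by norm_num
      _ ≤ _ := Nat.mul_le_mul_left _ (Nat.pow_le_pow_left hy 34)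
  have h9 : 2 ^ 36 * y.natAbs ^ (c * 9 + 36) ≤ 2 ^ 36 * y.natAbs ^ (34 + (74 + E)) := by
    rw [pow_add y.natAbs 34]
    calc 2 ^ 36 * y.natAbs ^ (c * 9 + 36) ≤ _ := h7
      _ ≤ (2 ^ 36 * y.natAbs ^ 34) * y.natAbs ^ (74 + E) := Nat.mul_le_mul_right _ h8
      _ = _ := by ring
  have h10 := Nat.le_of_mul_le_mul_left h9 (by norm_num)
  have h11 := (Nat.pow_le_pow_iff_right (show 1 < y.natAbs by omega)).1 h10
  omega

end

/-! ### the equation -/

variable {x y : ℤ} {n m k : ℕ}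

/-- the two signs -/
theorem abs_cases (hy : 2 ≤ y.natAbs) (hm : 1 ≤ m) (heq : x ^ n * (y - 1) = 2 * y ^ m - y - 1) :
    ∃ u : ℕ, y.natAbs = u ∧ 2 ≤ u ∧
      (((y - 1).natAbs = u - 1 ∧ x.natAbs ^ n = VP m u ∧ x.natAbs ^ n * (u - 1) + u + 1 = 2 * u ^ m) ∨
        ((y - 1).natAbs = u + 1 ∧ x.natAbs ^ n = VM m u ∧
          ((m % 2 = 0 ∧ x.natAbs ^ n * (u + 1) + 1 = 2 * u ^ m + u) ∨
            (m % 2 = 1 ∧ x.natAbs ^ n * (u + 1) + u = 2 * u ^ m + 1)))) := by
  have h1 : x.natAbs ^ n * (y - 1).natAbs = (2 * y ^ m - y - 1).natAbs := by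
    rw [← heq, Int.natAbs_mul, Int.natAbs_pow]
  refine ⟨y.natAbs, rfl, hy, ?_⟩
  obtain ⟨u, hu⟩ : ∃ u, u = y.natAbs := ⟨_, rfl⟩
  rw [← hu] at hy ⊢
  have hum : u ≤ u ^ m := Nat.le_self_pow (by omega) _
  rcases Int.natAbs_eq y with hyy | hyy <;> rw [← hu] at hyy <;> subst hyy
  · left
    have h2 : (((u : ℤ)) - 1).natAbs = u - 1 := by (clear * - hy; omega)
    have h3 : (2 * (u : ℤ) ^ m - u - 1).natAbs = 2 * u ^ m - u - 1 := by
      have : (u : ℤ) ^ m = ((u ^ m : ℕ) : ℤ) := by push_cast; rfl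
      rw [this]
      (clear * - hy hum; omega)
    rw [h2, h3] at h1
    refine ⟨h2, ?_, by (clear * - hum h1 h3; omega)⟩
    rw [VP, ← h1, Nat.mul_div_cancel _ (by (clear * - hy heq hu; omega))]
  · right
    have h2 : ((-(u : ℤ)) - 1).natAbs = u + 1 := by omega
    rw [h2] at h1
    rcases Nat.even_or_odd m with hm2 | hm2
    · have h3 : (2 * (-(u : ℤ)) ^ m - -(u : ℤ) - 1).natAbs = 2 * u ^ m + u - 1 := by
        have : (-(u : ℤ)) ^ m = ((u ^ m : ℕ) : ℤ) := by rw [hm2.neg_pow]; push_cast; rfl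
        rw [this]
        (clear * - hy; omega)
      rw [h3] at h1
      have h4 := Nat.even_iff.1 hm2
      refine ⟨h2, ?_, Or.inl ⟨h4, by (clear * - h1 h3; omega)⟩⟩
      rw [VM, if_pos h4, ← h1, Nat.mul_div_cancel _ (by omega)]
    · have h3 : (2 * (-(u : ℤ)) ^ m - -(u : ℤ) - 1).natAbs = 2 * u ^ m + 1 - u := by
        have : (-(u : ℤ)) ^ m = -((u ^ m : ℕ) : ℤ) := by rw [hm2.neg_pow]; push_cast; rfl
        rw [this]
        (clear * - hum; omega)
      rw [h3] at h1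
      have h4 := Nat.odd_iff.1 hm2
      refine ⟨h2, ?_, Or.inr ⟨h4, by (clear * - hy hum h1; omega)⟩⟩
      rw [VM, if_neg (by omega), ← h1, Nat.mul_div_cancel _ (by omega)]

/-- the size of `q ^ n` -/
theorem size_q (hy : 2 ≤ y.natAbs) (hm : 1 ≤ m) (heq : x ^ n * (y - 1) = 2 * y ^ m - y - 1) :
    x.natAbs ^ n ≤ y.natAbs ^ (m + 1) := by
  obtain ⟨u, hu, hu2, h | h⟩ := abs_cases hy hm heq
  · rw [hu]
    obtain ⟨-, -, h1⟩ := h
    generalize x.natAbs ^ n = V at h1 ⊢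
    rcases Nat.lt_or_ge u 3 with h3 | h3
    · obtain rfl : u = 2 := by omega
      rw [pow_succ]
      omega
    · by_contra hcon
      have h4 : u ^ m * 2 ≤ u ^ (m + 1) := by rw [pow_succ]; exact Nat.mul_le_mul_left _ (by omega)
      have h5 : V * 2 ≤ V * (u - 1) := Nat.mul_le_mul_left _ (by omega)
      omega
  · rw [hu]
    obtain ⟨-, -, h1⟩ := h
    generalize x.natAbs ^ n = V at h1 ⊢
    by_contra hcon
    have h4 : u ^ m * 2 ≤ u ^ (m + 1) := by rw [pow_succ]; exact Nat.mul_le_mul_left _ (by omega)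
    have h5 : V * 1 ≤ V * u := Nat.mul_le_mul_left _ (by omega)
    have h6 : V * (u + 1) = V * u + V := by ring
    have h7 : u ≤ V * u := Nat.le_mul_of_pos_left _ (by omega)
    omega

/-- the case zero -/
theorem rho_ne {e : ℕ} (hy : 2 ≤ y.natAbs) (hn : n % 2 = 1) (hm : 2 ≤ m) (he : 2 ≤ e)
    (heq : x ^ n * (y - 1) = 2 * y ^ m - y - 1) : 4 * y ^ e + (2 * x - 2) * y - (2 * x + 2) ≠ 0 := by
  intro h0
  have h1 : 2 * y ^ e + (x - 1) * y - (x + 1) = 0 := by linarith only [h0]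
  have hye : y ∣ y ^ e := dvd_pow_self y (by omega)
  have hym : y ∣ y ^ m := dvd_pow_self y (by omega)
  have h2 : y ∣ x + 1 := by
    have h3 : x + 1 = 2 * y ^ e + (x - 1) * y := by linarith only [h0]
    rw [h3]
    exact dvd_add (hye.mul_left _) (dvd_mul_left _ _)
  have hodd : Odd n := Nat.odd_iff.2 hn
  have h3 : y ∣ x ^ n + 1 := by
    have h4 : x + 1 ∣ x ^ n + 1 ^ n := hodd.add_dvd_pow_add_pow x 1
    rw [one_pow] at h4
    exact h2.trans h4
  have h4 : y ∣ x ^ n - 1 := by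
    have h5 : x ^ n - 1 = x ^ n * y - 2 * y ^ m + y := by linarith only [heq]
    rw [h5]
    exact dvd_add (dvd_sub (dvd_mul_left _ _) (hym.mul_left _)) dvd_rfl
  have h5 : y ∣ 2 := by
    have := dvd_sub h3 h4
    rwa [show x ^ n + 1 - (x ^ n - 1) = 2 by ring] at this
  have h6 : y.natAbs ≤ 2 := Nat.le_of_dvd (by norm_num) (Int.natAbs_dvd_natAbs.2 h5)
  have h7 : (4 : ℤ) ∣ y ^ e := by
    have h8 : (4 : ℤ) ∣ y ^ 2 := by
      rcases (show y = 2 ∨ y = -2 by omega) with rfl | rfl <;> norm_num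
    exact h8.trans (pow_dvd_pow y he)
  have h7' : (4 : ℤ) ∣ y ^ m := by
    have h8 : (4 : ℤ) ∣ y ^ 2 := by
      rcases (show y = 2 ∨ y = -2 by omega) with rfl | rfl <;> norm_num
    exact h8.trans (pow_dvd_pow y hm)
  obtain ⟨c, hc⟩ := h7
  obtain ⟨d, hd⟩ := h7'
  -- `x = 3` modulo `4`, hence `x ^ n = 3`
  have h8 : x % 4 = 3 := by
    rcases (show y = 2 ∨ y = -2 by omega) with rfl | rfl
    · (clear * - h0 hc; omega)
    · (clear * - h0 hc; omega)
  have h9 : x ^ n % 4 = 3 := by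
    have h10 : x ≡ -1 [ZMOD 4] := by
      show x % 4 = -1 % 4
      rw [h8]; rfl
    have h11 := h10.pow n
    rw [hodd.neg_one_pow] at h11
    exact h11
  rcases (show y = 2 ∨ y = -2 by omega) with rfl | rfl
  · omega
  · omega

/-- **The bound for the third class.** -/
theorem k_bound {K' A : ℕ} (hx3 : 3 ≤ x.natAbs) (hy : 2 ≤ y.natAbs) (hn : n % 2 = 1) (hk : 1 ≤ k)
    (hkm : k + 2 ≤ m) (heq : x ^ n * (y - 1) = 2 * y ^ m - y - 1) (hA : x.natAbs + 1 ≤ y.natAbs ^ A) (hK0 : 0 < K')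
    (hK : K' ≤ (x.natAbs + 1) ^ 2) (hT : ua y k ∣ K' * (x.natAbs * (x.natAbs ^ (n - 1) + 1))) :
    2 * k ≤ m + 2 * A + 4 ∨ k ≤ 3 * A + 5 := by
  obtain ⟨e, rfl⟩ : ∃ e, m = k + e := ⟨m - k, by omega⟩
  have hev : Even (n - 1) := by rw [Nat.even_iff]; omega
  have h1 : y ^ k - 1 ∣ (K' : ℤ) * (x * (x ^ (n - 1) + 1)) := by
    apply Int.natAbs_dvd_natAbs.1
    have h2 : (x * (x ^ (n - 1) + 1)).natAbs = x.natAbs * (x.natAbs ^ (n - 1) + 1) := by
      rw [Int.natAbs_mul]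
      congr 1
      have h3 : x ^ (n - 1) = ((x.natAbs ^ (n - 1) : ℕ) : ℤ) := by
        push_cast
        rw [hev.pow_abs]
      rw [h3]
      omega
    rw [Int.natAbs_mul, h2, Int.natAbs_natCast]
    exact hT
  have hxn : x ^ n = x * x ^ (n - 1) := by rw [← pow_succ']; congr 1; omega
  have h2 : y ^ k - 1 ∣ (K' : ℤ) * (4 * y ^ e + (2 * x - 2) * y - (2 * x + 2)) := by
    have h3 : (K' : ℤ) * (4 * y ^ e + (2 * x - 2) * y - (2 * x + 2)) =
        2 * (y - 1) * ((K' : ℤ) * (x * (x ^ (n - 1) + 1))) - (y ^ k - 1) * (4 * K' * y ^ e) := by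
      rw [hxn, pow_add] at heq
      linear_combination (-2 * (K' : ℤ)) * heq
    rw [h3]
    exact dvd_sub (h1.mul_left _) (dvd_mul_right _ _)
  have h3 := rho_ne (e := e) hy hn (by omega) (by omega) heq
  have h4 := Nat.le_of_dvd (Int.natAbs_pos.2 (mul_ne_zero (by exact_mod_cast hK0.ne') h3)) (Int.natAbs_dvd_natAbs.2 h2)
  rw [Int.natAbs_mul, Int.natAbs_natCast] at h4
  have h5 : (4 * y ^ e + (2 * x - 2) * y - (2 * x + 2)).natAbs ≤
      4 * y.natAbs ^ e + (2 * (x.natAbs + 1)) * (y.natAbs + 1) := by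
    have h6 := Int.natAbs_sub_le (4 * y ^ e + (2 * x - 2) * y) (2 * x + 2)
    have h7 := Int.natAbs_add_le (4 * y ^ e) ((2 * x - 2) * y)
    rw [Int.natAbs_mul, Int.natAbs_mul, Int.natAbs_pow] at h7
    have h8 : (2 * x - 2).natAbs ≤ 2 * (x.natAbs + 1) := by (clear * -; omega)
    have h9 : (2 * x + 2).natAbs ≤ 2 * (x.natAbs + 1) := by (clear * -; omega)
    have h10 : (2 * x - 2).natAbs * y.natAbs ≤ 2 * (x.natAbs + 1) * y.natAbs := Nat.mul_le_mul_right _ h8
    have h11 : (4 : ℤ).natAbs = 4 := rfl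
    rw [h11] at h7
    have h12 : 2 * (x.natAbs + 1) * (y.natAbs + 1) = 2 * (x.natAbs + 1) * y.natAbs + 2 * (x.natAbs + 1) := by ring
    omega
  have h6 := two_ua hy hk
  rw [ua] at h6
  obtain ⟨u, hu⟩ : ∃ u, u = y.natAbs := ⟨_, rfl⟩
  rw [← hu] at h5 h6 hA hy
  obtain ⟨B, hB⟩ : ∃ B, B = max e (A + 1) := ⟨_, rfl⟩
  have h7 : u ^ e ≤ u ^ B := Nat.pow_le_pow_right (by omega) (by omega)
  have h8 : u ^ (A + 1) ≤ u ^ B := Nat.pow_le_pow_right (by omega) (by omega)
  have h9 : (2 * (x.natAbs + 1)) * (u + 1) ≤ 4 * u ^ (A + 1) := by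
    calc (2 * (x.natAbs + 1)) * (u + 1) ≤ (2 * u ^ A) * (2 * u) := Nat.mul_le_mul (by omega) (by omega)
      _ = _ := by rw [pow_succ]; ring
  have h10 : (4 * y ^ e + (2 * x - 2) * y - (2 * x + 2)).natAbs ≤ 8 * u ^ B := by omega
  have h11 : K' ≤ u ^ (2 * A) := by
    refine hK.trans ?_
    rw [mul_comm 2 A, pow_mul]
    exact Nat.pow_le_pow_left hA 2
  have h12 : u ^ k ≤ u ^ (4 + (2 * A + B)) := by
    calc u ^ k ≤ 2 * (K' * (4 * y ^ e + (2 * x - 2) * y - (2 * x + 2)).natAbs) := by omega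
      _ ≤ 2 * (u ^ (2 * A) * (8 * u ^ B)) := Nat.mul_le_mul_left _ (Nat.mul_le_mul h11 h10)
      _ = 2 ^ 4 * (u ^ (2 * A) * u ^ B) := by ring
      _ ≤ u ^ 4 * (u ^ (2 * A) * u ^ B) := Nat.mul_le_mul_right _ (Nat.pow_le_pow_left hy 4)
      _ = _ := by rw [pow_add, pow_add]
  have h13 := (Nat.pow_le_pow_iff_right (show 1 < u by omega)).1 h12
  omega

/-- **There is no third class.** -/
theorem num_false (hx3 : 3 ≤ x.natAbs) (hy : 2 ≤ y.natAbs) (hn : n % 2 = 1) (hn5 : 5 ≤ n)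
    (hk : 1 ≤ k) (hkm : k + 2 ≤ m) (heq : x ^ n * (y - 1) = 2 * y ^ m - y - 1) (hs : (y - 1).natAbs ∣ m)
    (hU : ∃ K', 0 < K' ∧ K' ≤ (x.natAbs + 1) ^ 2 ∧ ua y k ∣ K' * (x.natAbs * (x.natAbs ^ (n - 1) + 1)))
    (hB : ∀ b, 1 ≤ b → k + b + 2 ≤ m →
      ua y b ∣ 9 * (x.natAbs * ((x.natAbs ^ 4 - 1) * (x.natAbs ^ (n - 1) + 1)))) : False := by
  obtain ⟨K', hK0, hK, hT⟩ := hU
  obtain ⟨q, hq⟩ : ∃ q, q = x.natAbs := ⟨_, rfl⟩
  -- the exponent
  obtain ⟨A, hA1, hA2, hA3⟩ : ∃ A, 1 ≤ A ∧ y.natAbs ^ (A - 1) ≤ q ∧ q + 1 ≤ y.natAbs ^ A := by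
    refine ⟨Nat.log y.natAbs q + 1, by omega, ?_, ?_⟩
    · rw [Nat.add_sub_cancel]
      exact Nat.pow_log_le_self _ (by omega)
    · exact Nat.lt_pow_succ_log_self (by omega) q
  have hsz := size_q hy (by omega) heq
  rw [← hq] at hsz
  have hnA : n * (A - 1) ≤ m + 1 := by
    have h1 : y.natAbs ^ (n * (A - 1)) ≤ y.natAbs ^ (m + 1) := by
      rw [mul_comm, pow_mul]
      exact (Nat.pow_le_pow_left hA2 n).trans hsz
    exact (Nat.pow_le_pow_iff_right (show 1 < y.natAbs by omega)).1 h1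
  have hk1 := k_bound hx3 hy hn hk hkm heq (A := A) (by rw [← hq]; exact hA3) hK0 hK hT
  have h5A : 5 * (A - 1) ≤ n * (A - 1) := Nat.mul_le_mul_right _ hn5
  -- the window
  have hwin : k + 11 ≤ m → 8 * m ≤ 9 * k + 4 * A + 163 := by
    intro hm
    obtain ⟨c, hc⟩ : ∃ c, m = k + 10 + c := ⟨m - k - 10, by omega⟩
    have h1 : 9 * (x.natAbs * ((x.natAbs ^ 4 - 1) * (x.natAbs ^ (n - 1) + 1))) ≤ 9 * y.natAbs ^ (m + 1 + 4 * A) := by
      rw [← hq]
      apply Nat.mul_le_mul_left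
      have h2 : 1 ≤ q ^ 4 := Nat.one_le_pow _ _ (by omega)
      have h3 : q ^ 4 ≤ q ^ (n - 1) := Nat.pow_le_pow_right (by omega) (by omega)
      have h4 : (q ^ 4 - 1) * (q ^ (n - 1) + 1) ≤ q ^ 4 * q ^ (n - 1) := by
        obtain ⟨a, ha⟩ : ∃ a, q ^ 4 = a + 1 := ⟨q ^ 4 - 1, by omega⟩
        rw [ha, Nat.add_sub_cancel]
        have : (a + 1) * q ^ (n - 1) = a * q ^ (n - 1) + q ^ (n - 1) := by ring
        have : a * (q ^ (n - 1) + 1) = a * q ^ (n - 1) + a := by ring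
        omega
      have h5 : q * q ^ (n - 1) = q ^ n := by rw [← pow_succ']; congr 1; omega
      calc q * ((q ^ 4 - 1) * (q ^ (n - 1) + 1)) ≤ q * (q ^ 4 * q ^ (n - 1)) := Nat.mul_le_mul_left _ h4
        _ = q ^ n * q ^ 4 := by rw [← h5]; ring
        _ ≤ y.natAbs ^ (m + 1) * (y.natAbs ^ A) ^ 4 := Nat.mul_le_mul hsz (Nat.pow_le_pow_left (by omega) 4)
        _ = _ := by rw [← pow_mul, ← pow_add, mul_comm A 4]
    have h2 := nine (y := y) hy (c := c) (by omega)
      (X := 9 * (x.natAbs * ((x.natAbs ^ 4 - 1) * (x.natAbs ^ (n - 1) + 1)))) (E := m + 1 + 4 * A) (by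
        have h3 : 2 ≤ x.natAbs ^ 4 := le_trans (by omega) (Nat.le_self_pow (by norm_num) x.natAbs)
        have h4 : 0 < x.natAbs ^ 4 - 1 := by omega
        exact Nat.mul_pos (by norm_num) (Nat.mul_pos (by omega) (Nat.mul_pos h4 (Nat.succ_pos _)))) h1
      (fun i hi => hB _ (by omega) (by omega))
    omega
  have h7 : n = 5 ∨ n = 7 ∨ 9 ≤ n := by omega
  have hbd : (n = 5 ∧ m < 225) ∨ (n = 7 ∧ m < 125) ∨ (9 ≤ n ∧ m < 105) := by
    rcases h7 with rfl | rfl | h9
    · left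
      refine ⟨rfl, ?_⟩
      rcases Nat.lt_or_ge m (k + 11) with h | h
      · (clear * - hk1 hnA h; omega)
      · have := hwin h
        omega
    · right; left
      refine ⟨rfl, ?_⟩
      rcases Nat.lt_or_ge m (k + 11) with h | h
      · (clear * - hk1 hnA h; omega)
      · have := hwin h
        omega
    · right; right
      refine ⟨h9, ?_⟩
      have h9A : 9 * (A - 1) ≤ n * (A - 1) := Nat.mul_le_mul_right _ h9
      rcases Nat.lt_or_ge m (k + 11) with h | h
      · (clear * - hnA hk1 h9A h; omega)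
      · have := hwin h
        omega
  obtain ⟨u, hu, hu2, hcase⟩ := abs_cases hy (by omega) heq
  have hsm : (y - 1).natAbs ≤ m := Nat.le_of_dvd (by omega) hs
  refine fin_check (V := x.natAbs ^ n) hn hn5 (by omega : 2 ≤ m) hx3 hu2 ?_ ?_ rfl hbd
  · rcases hcase with h | h <;> omega
  · rcases hcase with ⟨h1, h2, -⟩ | ⟨h1, h2, -⟩
    · exact Or.inl ⟨h1 ▸ hs, h2⟩
    · exact Or.inr ⟨h1 ▸ hs, h2⟩

/-- the equation from the two numbers -/
theorem mk_eq {M N q : ℕ} (hy : 2 ≤ y.natAbs) (hm : 1 ≤ m) (hn : n % 2 = 1)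
    (hM : M * (y - 1).natAbs = ua y m) (hN : N * (y - 1).natAbs = y.natAbs * ua y (m - 1)) (hq : M + N = q ^ n) :
    ∃ x : ℤ, x.natAbs = q ∧ x ^ n * (y - 1) = 2 * y ^ m - y - 1 := by
  have hy1 : y - 1 ≠ 0 := by omega
  have hs0 : 0 < (y - 1).natAbs := Int.natAbs_pos.2 hy1
  obtain ⟨M', hM'⟩ : y - 1 ∣ y ^ m - 1 := by simpa only [_root_.one_pow] using sub_dvd_pow_sub_pow y 1 m
  have hym : y ^ m = y * y ^ (m - 1) := by rw [← pow_succ']; congr 1; omega
  have h1 : M = M'.natAbs := by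
    have h2 : (y - 1).natAbs * M = (y - 1).natAbs * M'.natAbs := by
      rw [mul_comm, hM, ua, hM', Int.natAbs_mul]
    exact Nat.eq_of_mul_eq_mul_left hs0 h2
  have h2 : N = (M' - 1).natAbs := by
    have h3 : (y - 1).natAbs * N = (y - 1).natAbs * (M' - 1).natAbs := by
      rw [mul_comm, hN, ua, ← Int.natAbs_mul, ← Int.natAbs_mul]
      congr 1
      linear_combination hM' - hym
    exact Nat.eq_of_mul_eq_mul_left hs0 h3
  have hodd : Odd n := Nat.odd_iff.2 hn
  rcases lt_or_ge 0 M' with h | h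
  · refine ⟨q, Int.natAbs_natCast q, ?_⟩
    have h3 : ((q : ℤ)) ^ n = 2 * M' - 1 := by
      have : ((q ^ n : ℕ) : ℤ) = 2 * M' - 1 := by rw [← hq]; omega
      push_cast at this
      exact this
    rw [h3]
    linear_combination -2 * hM'
  · refine ⟨-q, by simp, ?_⟩
    have h3 : ((q : ℤ)) ^ n = 1 - 2 * M' := by
      have : ((q ^ n : ℕ) : ℤ) = 1 - 2 * M' := by rw [← hq]; (clear * - h1 h2 h; omega)
      push_cast at this
      exact this
    rw [hodd.neg_pow, h3]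
    linear_combination -2 * hM'

end Cfsg.Agent.R2.Spec.IIA

private theorem dce_94cf91f91640 : _root_.True := by
  try have : _root_.True := by simp only [_root_.Cfsg.Agent.R2.Spec.IIA.pl.eq_1]
  try have : _root_.True := by simp only [_root_.Cfsg.Agent.R2.Spec.IIA.pp.eq_1]
  try have : _root_.True := by simp only [_root_.Cfsg.Agent.R2.Spec.IIA.pp.eq_def]
  try have : _root_.True := by simp only [_root_.Cfsg.Agent.R2.Spec.IIA.pp.eq_2]
  try have : _root_.True := by simp only [_root_.Cfsg.Agent.R2.Spec.IIA.sg1.eq_2]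
  try have : _root_.True := by simp only [_root_.Cfsg.Agent.R2.Spec.IIA.pg.eq_1]
  try have : _root_.True := by simp only [_root_.Cfsg.Agent.R2.Spec.IIA.VP.eq_1]
  try have : _root_.True := by simp only [_root_.Cfsg.Agent.R2.Spec.IIA.sg1.eq_def]
  try have : _root_.True := by simp only [_root_.Cfsg.Agent.R2.Spec.IIA.sg2.eq_1]
  try have : _root_.True := by simp only [_root_.Cfsg.Agent.R2.Spec.IIA.pl.eq_2]
  try have : _root_.True := by simp only [_root_.Cfsg.Agent.R2.Spec.IIA.sg2.eq_def]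
  try have : _root_.True := by simp only [_root_.Cfsg.Agent.R2.Spec.IIA.VM.eq_1]
  try have : _root_.True := by simp only [_root_.Cfsg.Agent.R2.Spec.IIA.sg2.eq_2]
  try have : _root_.True := by simp only [_root_.Cfsg.Agent.R2.Spec.IIA.pl.eq_def]
  try have : _root_.True := by simp only [_root_.Cfsg.Agent.R2.Spec.IIA.pr.eq_def]
  try have : _root_.True := by simp only [_root_.Cfsg.Agent.R2.Spec.IIA.pg.eq_2]
  try have : _root_.True := by simp only [_root_.Cfsg.Agent.R2.Spec.IIA.sg1.eq_1]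
  try have : _root_.True := by simp only [_root_.Cfsg.Agent.R2.Spec.IIA.pr.eq_2]
  try have : _root_.True := by simp only [_root_.Cfsg.Agent.R2.Spec.IIA.pg.eq_def]
  try have : _root_.True := by simp only [_root_.Cfsg.Agent.R2.Spec.IIA.pr.eq_1]
  exact _root_.True.intro
end

-- part: R2/Spec/X7/N6/SThree
section
prune_inst 0x4052034044cc000080018801672002204340005b000208001f96007460b0ed362a9c0a94148201d06124eb2811841004810100070404000000e00300000030020802b5602d3d90f0cae0087803087580c00000000000000000000000000041004000000000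
set_option linter.all false
open scoped Cfsg.Agent.FastGrp

/-!
# S3435, box X7, `n = 6`, packet N6-S (helper8): `L₃(u)`, `U₃(u)`, the numbers

* `SixN.bracket1` : the bracket lemma with `|β| = 1`;
* `SixN.five_small` : the values of `M` for `c₅ = 5`, `q ≤ 46`;
* `SixN.l3_one`, `SixN.l3_two`, `SixN.l3_char` : `M` divides one of the three tori.
-/

set_option autoImplicit false
set_option maxHeartbeats 1000000

namespace Cfsg.Agent.R2.Spec.X7.N6

variable {p q : ℕ} {s : ℤ} {c c5 M : ℕ}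

/-- the bracket lemma with `|β| = 1` -/
theorem SixN.bracket1 (h : SixN p q s c c5 M) {e N : ℕ} (hN : Up p s c N) (hcop : Nat.Coprime N M)
    (hbig : q ^ 3 < N) (hq3 : q = 3 → 72 < N) {α β γ : ℤ} (hβ : β = 1 ∨ β = -1)
    (hrel : α * (M * e : ℕ) + β * N = γ) :
    (N : ℤ) ≤ 2 * (c5 * (q + 1) + 1) * |γ| ∨
      (c5 * γ = α * e ∧ -β * N = γ * (s * (s + 1) * (s ^ 2 + 1))) ∨
      (c5 * γ = α * e * (s ^ 2 + 2 * s + 2) ∧ ∃ j : ℤ, (N : ℤ) * j = (s ^ 3 - 1) * (s + 1) ∧
        j * γ = -(β * (s ^ 2 + 2 * s + 2))) := by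
  have hlo := h.lo_nat
  have hq := h.q3
  have hβ1 : |β| = 1 := by rcases hβ with h1 | h1 <;> rw [h1] <;> norm_num
  rcases h.bracket' hN hcop hbig hq3 hrel with h1 | h1 | h1 | h1
  · exact Or.inl h1
  · exfalso
    rw [hβ1] at h1
    have h2 := h.big
    have h4 : (3 : ℤ) ≤ q := by exact_mod_cast hq
    nlinarith only [h1, h2]
  · exfalso
    have h1 := h1.1
    rw [hβ1] at h1
    have h2 : M < 2 * 1 * ((q + 1) ^ 2 + 1) := by exact_mod_cast h1
    rcases hlo with ⟨h5, h6⟩ | ⟨h5, h6, h9⟩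
    · obtain ⟨k, hk⟩ : ∃ k, q = k + 3 := ⟨q - 3, by omega⟩
      rw [hk] at h2 h6
      rw [show k + 3 - 1 = k + 2 by omega] at h6
      have h7 : ((k + 3) ^ 3 + (k + 3)) * (k + 2) = 2 * 1 * ((k + 3 + 1) ^ 2 + 1) +
        (k ^ 4 + 11 * k ^ 3 + 44 * k ^ 2 + 70 * k + 26) := by ring
      omega
    · obtain ⟨l, hl⟩ : ∃ l, q = l + 9 := ⟨q - 9, by omega⟩
      rw [hl] at h2 h6
      rw [show l + 9 - 1 = l + 8 by omega] at h6
      have h7 : ((l + 9) ^ 3 + (l + 9)) * (l + 8) = 5 * (2 * 1 * ((l + 9 + 1) ^ 2 + 1)) +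
        (l ^ 4 + 35 * l ^ 3 + 450 * l ^ 2 + 2490 * l + 4894) := by ring
      omega
  · exact Or.inr (h.zero_pm hβ h1)

/-- the numbers with `c₅ = 5` and `q ≤ 46` -/
lemma SixN.five_small (h : SixN p q s c c5 M) (h5 : c5 = 5) (hq : q ≤ 46) :
    (q = 9 ∧ M = 1181) ∨ (q = 11 ∧ M = 3221) ∨ (q = 19 ∧ M = 24761) ∨ (q = 21 ∧ M = 40841) ∨
      (q = 29 ∧ M = 136741) ∨ (q = 31 ∧ M = 190861) ∨ (q = 39 ∧ M = 451121) ∨ (q = 41 ∧ M = 579281) := by
  obtain ⟨h6, h9⟩ := h.five h5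
  have hphi := h.phi
  rw [h5] at hphi
  push_cast at hphi
  have hsv : s = -9 ∨ s = 11 ∨ s = -19 ∨ s = 21 ∨ s = -29 ∨ s = 31 ∨ s = -39 ∨ s = 41 := by
    rcases h.hs with h1 | h1 <;> omega
  have hqs := h.hs
  clear h h6 h9 h5 hq
  rcases hsv with h1 | h1 | h1 | h1 | h1 | h1 | h1 | h1 <;> rw [h1] at hphi hqs <;> norm_num at hphi
  · exact .inl ⟨by omega, by omega⟩
  · exact .inr (.inl ⟨by omega, by omega⟩)
  · exact .inr (.inr (.inl ⟨by omega, by omega⟩))
  · exact .inr (.inr (.inr (.inl ⟨by omega, by omega⟩)))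
  · exact .inr (.inr (.inr (.inr (.inl ⟨by omega, by omega⟩))))
  · exact .inr (.inr (.inr (.inr (.inr (.inl ⟨by omega, by omega⟩)))))
  · exact .inr (.inr (.inr (.inr (.inr (.inr (.inl ⟨by omega, by omega⟩))))))
  · exact .inr (.inr (.inr (.inr (.inr (.inr (.inr ⟨by omega, by omega⟩))))))

lemma SixN.one_small (h : SixN p q s c c5 M) (h5 : c5 = 1) (hq : q ≤ 6) :
    (q = 3 ∧ (M = 121 ∨ M = 61)) ∨ (q = 5 ∧ (M = 781 ∨ M = 521)) := by
  have hphi := h.phi
  rw [h5] at hphi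
  push_cast at hphi
  have hodd := h.odd_q
  rw [Nat.odd_iff] at hodd
  have hq3 := h.q3
  have hsv : q = 3 ∨ q = 5 := by omega
  have hqs := h.hs
  rcases hsv with h1 | h1 <;> rw [h1] at hqs <;> rcases hqs with h2 | h2 <;> rw [h2] at hphi <;> norm_num at hphi <;> omega

/-- `M > 5 q ^ 3 / 3` etc. -/
lemma SixN.lo_lin (h : SixN p q s c c5 M) : q ^ 3 + (q ^ 3 + 2 * q) < M ∨ (8 * (q ^ 3 + q) < 5 * M ∧ 9 ≤ q) := by
  have hq3 := h.q3
  rcases h.lo_nat with ⟨h5, h6⟩ | ⟨h5, h6, h9⟩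
  · left
    have : (q ^ 3 + q) * 2 ≤ (q ^ 3 + q) * (q - 1) := Nat.mul_le_mul le_rfl (by omega)
    omega
  · right
    have : (q ^ 3 + q) * 8 ≤ (q ^ 3 + q) * (q - 1) := Nat.mul_le_mul le_rfl (by omega)
    omega

lemma SixN.q_cases (h : SixN p q s c c5 M) : q = 3 ∨ q = 5 ∨ 7 ≤ q := by
  have h1 := h.q3
  have h2 := h.odd_q
  rw [Nat.odd_iff] at h2
  omega

lemma SixN.small_a (h : SixN p q s c c5 M) {u Y : ℕ} (h2 : 2 ≤ u)
    (hY : Y = u ^ 2 + u + 1 ∨ Y = u ^ 2 - u + 1 ∨ Y = u ^ 2 - 1) (hMY : M ∣ Y)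
    (hub : u ≤ 2 * (c5 * (q + 1) + 1) + 2) : False := by
  have hsq : 2 * 2 ≤ u ^ 2 := by rw [sq]; exact Nat.mul_le_mul h2 h2
  have hY0 : 0 < Y := by
    rcases hY with h1 | h1 | h1 <;> omega
  have hYle : Y ≤ u ^ 2 + u + 1 := by
    rcases hY with h1 | h1 | h1 <;> omega
  have hMle := (Nat.le_of_dvd hY0 hMY).trans hYle
  have hmono : ∀ b : ℕ, u ≤ b → u ^ 2 + u + 1 ≤ b ^ 2 + b + 1 := fun b hb => by
    have := Nat.pow_le_pow_left hb 2
    omega
  have hfin : ¬ (¬ M ∣ u ^ 2 + u + 1 ∧ ¬ M ∣ u ^ 2 - u + 1 ∧ ¬ M ∣ u ^ 2 - 1) := by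
    rintro ⟨h3, h4, h5⟩
    rcases hY with h1 | h1 | h1 <;> rw [h1] at hMY
    · exact h3 hMY
    · exact h4 hMY
    · exact h5 hMY
  rcases h.lo_nat with ⟨h5, h6⟩ | ⟨h5, h6, h9⟩
  · rw [h5] at hub
    rcases h.q_cases with h7 | h7 | h7
    · rcases h.one_small h5 (by omega) with h8 | h8
      · rcases chk_a3 (u := u) h8.2 h2 (by omega) with h10 | h10 | h10
        · omega
        · omega
        · exact hfin h10
      · omega
    · have h8 := hmono 16 (by omega)
      rw [h7] at h6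
      norm_num at h6
      omega
    · have h8 := hmono (2 * q + 6) (by omega)
      obtain ⟨k, hk⟩ : ∃ k, q = k + 7 := ⟨q - 7, by omega⟩
      rw [hk] at h6 h8
      rw [show k + 7 - 1 = k + 6 by omega] at h6
      have h9 : ((k + 7) ^ 3 + (k + 7)) * (k + 6) = (2 * (k + 7) + 6) ^ 2 + (2 * (k + 7) + 6) + 1 +
        (k ^ 4 + 27 * k ^ 3 + 270 * k ^ 2 + 1156 * k + 1679) := by ring
      omega
  · rw [h5] at hub
    rcases Nat.lt_or_ge q 25 with h7 | h7
    · refine hfin (chk_a ?_ h2 ?_)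
      · rcases h.five_small h5 (by omega) with h8 | h8 | h8 | h8 | h8 | h8 | h8 | h8 <;> omega
      · omega
    · have h8 := hmono (10 * q + 14) (by omega)
      obtain ⟨k, hk⟩ : ∃ k, q = k + 25 := ⟨q - 25, by omega⟩
      rw [hk] at h6 h8
      rw [show k + 25 - 1 = k + 24 by omega] at h6
      have h9 : ((k + 25) ^ 3 + (k + 25)) * (k + 24) = 5 * ((10 * (k + 25) + 14) ^ 2 + (10 * (k + 25) + 14) + 1) +
        (k ^ 4 + 99 * k ^ 3 + 3176 * k ^ 2 + 34224 * k + 25795) := by ring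
      omega

lemma SixN.small_b (h : SixN p q s c c5 M) {u Y : ℕ} (h2 : 2 ≤ u)
    (hY : Y = u * (u + 1) ∨ Y = u * (u - 1)) (hMY : M ∣ Y)
    (hub : u ≤ 2 * (2 * (c5 * (q + 1) + 1)) + 1) : False := by
  have hY0 : 0 < Y := by
    rcases hY with h1 | h1 <;> rw [h1]
    · exact Nat.mul_pos (by omega) (by omega)
    · exact Nat.mul_pos (by omega) (by omega)
  have hYle : Y ≤ u * (u + 1) := by
    rcases hY with h1 | h1 <;> rw [h1]
    exact Nat.mul_le_mul le_rfl (by omega)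
  have hMle := (Nat.le_of_dvd hY0 hMY).trans hYle
  have hmono : ∀ b : ℕ, u ≤ b → u * (u + 1) ≤ b * (b + 1) := fun b hb => Nat.mul_le_mul hb (by omega)
  have hfin : ¬ (¬ M ∣ u * (u + 1) ∧ ¬ M ∣ u * (u - 1)) := by
    rintro ⟨h3, h4⟩
    rcases hY with h1 | h1 <;> rw [h1] at hMY
    · exact h3 hMY
    · exact h4 hMY
  rcases h.lo_nat with ⟨h5, h6⟩ | ⟨h5, h6, h9⟩
  · rw [h5] at hub
    rcases h.q_cases with h7 | h7 | h7
    · refine hfin (chk_b3 ?_ h2 (by omega))
      rcases h.one_small h5 (by omega) with h8 | h8 <;> omega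
    · refine hfin (chk_b3 ?_ h2 (by omega))
      rcases h.one_small h5 (by omega) with h8 | h8 <;> omega
    · have h8 := hmono (4 * q + 9) (by omega)
      obtain ⟨k, hk⟩ : ∃ k, q = k + 7 := ⟨q - 7, by omega⟩
      rw [hk] at h6 h8
      rw [show k + 7 - 1 = k + 6 by omega] at h6
      have h9 : ((k + 7) ^ 3 + (k + 7)) * (k + 6) = (4 * (k + 7) + 9) * (4 * (k + 7) + 9 + 1) +
        (k ^ 4 + 27 * k ^ 3 + 258 * k ^ 2 + 938 * k + 694) := by ring
      omega
  · rw [h5] at hub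
    rcases Nat.lt_or_ge q 47 with h7 | h7
    · have h8 := h.five_small h5 (by omega)
      refine hfin (chk_b ?_ h2 ?_)
      · rcases h8 with h8 | h8 | h8 | h8 | h8 | h8 | h8 | h8 <;> omega
      · rcases h8 with h8 | h8 | h8 | h8 | h8 | h8 | h8 | h8 <;> omega
    · have h8 := hmono (20 * q + 25) (by omega)
      obtain ⟨k, hk⟩ : ∃ k, q = k + 47 := ⟨q - 47, by omega⟩
      rw [hk] at h6 h8
      rw [show k + 47 - 1 = k + 46 by omega] at h6
      have h9 : ((k + 47) ^ 3 + (k + 47)) * (k + 46) = 5 * ((20 * (k + 47) + 25) * (20 * (k + 47) + 25 + 1)) +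
        (k ^ 4 + 187 * k ^ 3 + 11114 * k ^ 2 + 215658 * k + 117070) := by ring
      omega

end Cfsg.Agent.R2.Spec.X7.N6
end

-- part: R2/Spec/F1/PairCop
section
prune_inst 0x520240444c000080000801652002004240005b000200000b8200142000e532089c0a94048001806024a12011001000000000070404000000e00300000030020800854000340010c860087800084400000000000000000000000000000041004000000000
set_option linter.all false
open scoped Cfsg.Agent.FastGrp

-- part: R2/Spec/F1/TtorCop
section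
/-!
# The numbers of two isolated classes are coprime (helper23)
-/

set_option autoImplicit false
set_option linter.unusedVariables false

namespace Cfsg.Agent.R2.Spec.F1

open Cfsg.Agent.H426.LieFam Cfsg.Agent.R2.Spec Cfsg.Agent.R2.Spec.P1

theorem geom_mod (Q : ℤ) (n : ℕ) : Q - 1 ∣ (∑ k ∈ Finset.range n, Q ^ k) - n := by
  have h1 : (∑ k ∈ Finset.range n, Q ^ k) - n = ∑ k ∈ Finset.range n, (Q ^ k - 1) := by
    rw [Finset.sum_sub_distrib, Finset.sum_const, Finset.card_range, nsmul_eq_mul, mul_one]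
  rw [h1]
  exact Finset.dvd_sum fun k _ => sub_one_dvd_pow_sub_one Q k

/-- **The linear and unitary families**, `Q = ± q`. -/
theorem cop_lin {Q M N : ℤ} {n d : ℕ} (hn : 1 ≤ n) (hd : (d : ℤ) = Int.gcd n (Q - 1)) (hd0 : d ≠ 0) (hQ : Q ≠ 1)
    (hM : M * d = ∑ k ∈ Finset.range n, Q ^ k) (hN : N * d = Q ^ (n - 1) - 1) {s : ℕ} (hs : s.Prime)
    (hsM : (s : ℤ) ∣ M) (hsN : (s : ℤ) ∣ N) : False := by
  have hd1 : (d : ℤ) ∣ n := by rw [hd]; exact Int.gcd_dvd_left _ _
  obtain ⟨c, hc⟩ : (d : ℤ) ∣ Q - 1 := by rw [hd]; exact Int.gcd_dvd_right _ _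
  have hd0' : (d : ℤ) ≠ 0 := by exact_mod_cast hd0
  obtain ⟨m, rfl⟩ : ∃ m, n = m + 1 := ⟨n - 1, by omega⟩
  rw [Nat.add_sub_cancel] at hN
  have h1 : M * d * (Q - 1) = Q ^ (m + 1) - 1 := by
    rw [hM]
    exact geom_sum_mul Q (m + 1)
  have h2 : c * d * M = Q * N + c := by
    apply mul_right_cancel₀ hd0'
    have h3 : M * d * (Q - 1) = Q * (N * d) + (Q - 1) := by
      rw [h1, hN]
      ring
    rw [hc] at h3
    linear_combination h3
  have h4 : (s : ℤ) ∣ c := by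
    have h5 : (s : ℤ) ∣ Q * N + c := by
      rw [← h2]
      exact Dvd.dvd.mul_left hsM _
    exact (dvd_add_right (Dvd.dvd.mul_left hsN Q)).1 h5
  have h5 : ((s * d : ℕ) : ℤ) ∣ Q - 1 := by
    rw [hc]
    push_cast
    rw [mul_comm]
    exact mul_dvd_mul_left _ h4
  have h6 : ((s * d : ℕ) : ℤ) ∣ ((m + 1 : ℕ) : ℤ) := by
    have h7 := h5.trans (geom_mod Q (m + 1))
    have h8 : ((s * d : ℕ) : ℤ) ∣ ∑ k ∈ Finset.range (m + 1), Q ^ k := by
      rw [← hM]
      push_cast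
      exact mul_dvd_mul_right hsM _
    exact (dvd_sub_right h8).1 h7
  have h7 : ((s * d : ℕ) : ℤ) ∣ (d : ℤ) := by
    rw [hd]
    exact Int.dvd_coe_gcd h6 h5
  have h8 : s * d ∣ 1 * d := by
    rw [one_mul]
    exact Int.natCast_dvd_natCast.1 h7
  exact hs.one_lt.ne' (Nat.dvd_one.1 (Nat.dvd_of_mul_dvd_mul_right (Nat.pos_of_ne_zero hd0) h8))

theorem coprime_of_prime {M N : ℕ} (h : ∀ s : ℕ, s.Prime → s ∣ M → s ∣ N → False) : Nat.Coprime M N := by
  by_contra hcon
  obtain ⟨s, hs, h1, h2⟩ := Nat.Prime.not_coprime_iff_dvd.1 hcon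
  exact h s hs h1 h2

theorem cop_psl {n q : ℕ} (hn : 2 ≤ n) (hq : 2 ≤ q) :
    Nat.Coprime ((q ^ n - 1) / ((q - 1) * Nat.gcd n (q - 1))) ((q ^ (n - 1) - 1) / Nat.gcd n (q - 1)) := by
  obtain ⟨d, hd⟩ : ∃ d, d = Nat.gcd n (q - 1) := ⟨_, rfl⟩
  have hd0 : d ≠ 0 := by rw [hd]; exact Nat.gcd_ne_zero_left (by omega)
  have hdn : d ∣ n := by rw [hd]; exact Nat.gcd_dvd_left _ _
  have hdq : d ∣ q - 1 := by rw [hd]; exact Nat.gcd_dvd_right _ _
  rw [← hd]
  have hqn := Nat.one_le_pow n q (by omega)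
  have hqn' := Nat.one_le_pow (n - 1) q (by omega)
  have hdq' : (d : ℤ) ∣ (q : ℤ) - 1 := by
    have := Int.natCast_dvd_natCast.2 hdq
    rwa [Nat.cast_sub (by omega), Nat.cast_one] at this
  -- `d` divides the geometric sum
  have hg := geom_mod (q : ℤ) n
  have h1 : (d : ℤ) ∣ ∑ k ∈ Finset.range n, (q : ℤ) ^ k :=
    (dvd_sub_left (Int.natCast_dvd_natCast.2 hdn)).1 (hdq'.trans hg)
  obtain ⟨M, hM⟩ := h1
  have hgs := geom_sum_mul (q : ℤ) n
  have hMe : (q ^ n - 1) / ((q - 1) * d) = M.toNat := by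
    have hM0 : 0 ≤ M := by
      have h2 : 0 ≤ (d : ℤ) * M := by
        rw [← hM]
        exact Finset.sum_nonneg fun k _ => by positivity
      exact nonneg_of_mul_nonneg_right h2 (by exact_mod_cast Nat.pos_of_ne_zero hd0)
    apply Nat.div_eq_of_eq_mul_right (Nat.mul_pos (by omega) (Nat.pos_of_ne_zero hd0))
    zify [hqn, (by omega : 1 ≤ q)]
    rw [Int.toNat_of_nonneg hM0, ← hgs, hM]
    ring
  have hNd : d ∣ q ^ (n - 1) - 1 := by
    refine hdq.trans ?_
    have := Nat.sub_one_dvd_pow_sub_one q (n - 1)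
    exact this
  obtain ⟨N, hN⟩ := hNd
  have hNe : (q ^ (n - 1) - 1) / d = N := by rw [hN]; exact Nat.mul_div_cancel_left _ (Nat.pos_of_ne_zero hd0)
  rw [hMe, hNe]
  refine coprime_of_prime fun s hs hsM hsN => ?_
  have hM0 : 0 ≤ M := by
    have h2 : 0 ≤ (d : ℤ) * M := by
      rw [← hM]
      exact Finset.sum_nonneg fun k _ => by positivity
    exact nonneg_of_mul_nonneg_right h2 (by exact_mod_cast Nat.pos_of_ne_zero hd0)
  refine cop_lin (Q := (q : ℤ)) (M := M) (N := N) (n := n) (d := d) (by omega) ?_ hd0 (by omega) ?_ ?_ hs ?_ ?_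
  · rw [hd, show ((q : ℤ) - 1) = ((q - 1 : ℕ) : ℤ) by rw [Nat.cast_sub (by omega), Nat.cast_one]]
    rw [Int.gcd_natCast_natCast]
  · rw [hM, mul_comm]
  · have h2 := congrArg (fun k : ℕ => (k : ℤ)) hN
    push_cast [hqn'] at h2
    rw [h2]; ring
  · have := Int.natCast_dvd_natCast.2 hsM
    rwa [Int.toNat_of_nonneg hM0] at this
  · exact_mod_cast hsN

/-- the unitary family -/
theorem cop_psu {n q A B : ℕ} (hn : 2 ≤ n) (hq : 2 ≤ q) (hA : (A : ℤ) = (-1) ^ n * ((-(q : ℤ)) ^ n - 1))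
    (hB : (B : ℤ) = (-1) ^ (n - 1) * ((-(q : ℤ)) ^ (n - 1) - 1)) :
    Nat.Coprime (A / ((q + 1) * Nat.gcd n (q + 1))) (B / Nat.gcd n (q + 1)) := by
  obtain ⟨d, hd⟩ : ∃ d, d = Nat.gcd n (q + 1) := ⟨_, rfl⟩
  have hd0 : d ≠ 0 := by rw [hd]; exact Nat.gcd_ne_zero_left (by omega)
  have hdn : d ∣ n := by rw [hd]; exact Nat.gcd_dvd_left _ _
  have hdq : d ∣ q + 1 := by rw [hd]; exact Nat.gcd_dvd_right _ _
  rw [← hd]
  have hd' : (0 : ℤ) < d := by exact_mod_cast Nat.pos_of_ne_zero hd0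
  have hdq' : (d : ℤ) ∣ -(q : ℤ) - 1 := by
    have h1 : (d : ℤ) ∣ (q : ℤ) + 1 := by exact_mod_cast hdq
    have h2 := (dvd_neg (a := (d : ℤ))).2 h1
    rwa [show -((q : ℤ) + 1) = -(q : ℤ) - 1 by ring] at h2
  have hg := geom_mod (-(q : ℤ)) n
  have h1 : (d : ℤ) ∣ ∑ k ∈ Finset.range n, (-(q : ℤ)) ^ k :=
    (dvd_sub_left (Int.natCast_dvd_natCast.2 hdn)).1 (hdq'.trans hg)
  obtain ⟨M, hM⟩ := h1
  have hgs := geom_sum_mul (-(q : ℤ)) n
  have hsgn : ((-1 : ℤ) ^ n) * ((-1) ^ n) = 1 := by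
    rw [← mul_pow]; norm_num
  have hA' : (A : ℤ) = ((-1) ^ n * (-1) * M) * ((q + 1) * d) := by
    rw [hA, ← hgs, hM]
    ring
  have hMA : ((A / ((q + 1) * d) : ℕ) : ℤ) = (-1) ^ n * (-1) * M := by
    rw [Int.natCast_div]
    push_cast
    rw [hA', Int.mul_ediv_cancel]
    positivity
  have hNd : (d : ℤ) ∣ (-(q : ℤ)) ^ (n - 1) - 1 := hdq'.trans (sub_one_dvd_pow_sub_one _ _)
  obtain ⟨N, hN⟩ := hNd
  have hNB : ((B / d : ℕ) : ℤ) = (-1) ^ (n - 1) * N := by
    have hB' : (B : ℤ) = ((-1) ^ (n - 1) * N) * d := by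
      rw [hB, hN]
      ring
    rw [Int.natCast_div, hB', Int.mul_ediv_cancel _ hd'.ne']
  refine coprime_of_prime fun s hs hsM hsN => ?_
  have hu : ∀ k : ℕ, IsUnit ((-1 : ℤ) ^ k) := fun k => (isUnit_one.neg).pow k
  refine cop_lin (Q := -(q : ℤ)) (M := M) (N := N) (n := n) (d := d) (by omega) ?_ hd0 (by omega) ?_ ?_ hs ?_ ?_
  · rw [hd, show (-(q : ℤ) - 1) = -((q + 1 : ℕ) : ℤ) by push_cast; ring, Int.gcd_neg, Int.gcd_natCast_natCast]
  · rw [hM, mul_comm]
  · rw [hN, mul_comm]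
  · have h2 := Int.natCast_dvd_natCast.2 hsM
    rw [hMA] at h2
    exact ((hu n).mul isUnit_one.neg).dvd_mul_left.1 h2
  · have h2 := Int.natCast_dvd_natCast.2 hsN
    rw [hNB] at h2
    exact (hu (n - 1)).dvd_mul_left.1 h2

theorem cop_succ {A : ℕ} : Nat.Coprime A (A + 1) := by simp

theorem sq_mod_eight {q : ℕ} (h : q % 2 = 1) (m : ℕ) : q ^ (2 * m) % 8 = 1 := by
  have h2 : q % 8 = 1 ∨ q % 8 = 3 ∨ q % 8 = 5 ∨ q % 8 = 7 := by omega
  have h1 : q ^ 2 % 8 = 1 := by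
    rcases h2 with h2 | h2 | h2 | h2 <;> rw [Nat.pow_mod, h2]
  rw [pow_mul, Nat.pow_mod, h1, one_pow]
  rfl

theorem half_cop {q n : ℕ} (h : q % 2 = 1) (hn : n ≠ 0) : Nat.Coprime ((q ^ n - 1) / 2) ((q ^ n + 1) / 2) := by
  have h1 : q ^ n % 2 = 1 := by rw [Nat.pow_mod, h, one_pow]; rfl
  have h2 : (q ^ n + 1) / 2 = (q ^ n - 1) / 2 + 1 := by omega
  rw [h2]
  exact cop_succ

theorem gcd_four (x : ℕ) : Nat.gcd 4 x = 1 ∨ (Nat.gcd 4 x = 2 ∧ 2 ∣ x ∧ ¬ 4 ∣ x) ∨ (Nat.gcd 4 x = 4 ∧ 4 ∣ x) := by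
  have h : x % 4 = 0 ∨ x % 4 = 1 ∨ x % 4 = 2 ∨ x % 4 = 3 := by omega
  have h0 : Nat.gcd 4 x = Nat.gcd 4 (x % 4) := by
    rw [Nat.gcd_comm 4 x, Nat.gcd_comm 4 (x % 4)]
    conv_lhs => rw [← Nat.div_add_mod x 4]
    simp
  rw [h0]
  rcases h with h | h | h | h <;> rw [h]
  · right; right; exact ⟨rfl, by omega⟩
  · left; rfl
  · right; left; exact ⟨rfl, by omega, by omega⟩
  · left; rfl

/-- a common prime divisor of quotients -/
theorem dvd_of_div {s A c : ℕ} (hc : c ∣ A) (h : s ∣ A / c) : s * c ∣ A := by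
  obtain ⟨k, hk⟩ := hc
  rcases Nat.eq_zero_or_pos c with rfl | hc0
  · rw [zero_mul] at hk
    rw [hk]
    exact dvd_zero _
  · rw [hk, Nat.mul_div_cancel_left _ hc0] at h
    rw [hk, mul_comm c k]
    exact Nat.mul_dvd_mul_right h c

theorem cop_oplus {q n : ℕ} (h : q % 2 = 1) (hn : n % 2 = 1) :
    Nat.Coprime ((q ^ n - 1) / Nat.gcd 4 (q ^ n - 1)) ((q ^ (n - 1) + 1) * (q + 1) / Nat.gcd 4 (q ^ n - 1)) := by
  obtain ⟨m, rfl⟩ : ∃ m, n = 2 * m + 1 := ⟨n / 2, by omega⟩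
  rw [Nat.add_sub_cancel]
  have h8 := sq_mod_eight h m
  obtain ⟨V, hV⟩ : ∃ V, V = q ^ (2 * m) := ⟨_, rfl⟩
  have hqV : q ^ (2 * m + 1) = V * q := by rw [pow_succ, hV]
  rw [hqV, ← hV]
  rw [← hV] at h8
  have hV1 : 1 ≤ V := by omega
  have hq1 : 1 ≤ q := by omega
  have hVq : 1 ≤ V * q := Nat.mul_pos hV1 hq1
  obtain ⟨c, hc⟩ : ∃ c, c = Nat.gcd 4 (V * q - 1) := ⟨_, rfl⟩
  have hcd : c ∣ V * q - 1 := by rw [hc]; exact Nat.gcd_dvd_right _ _
  have h4 : 4 ∣ (V + 1) * (q + 1) := by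
    obtain ⟨a, ha⟩ : 2 ∣ V + 1 := by omega
    obtain ⟨b, hb⟩ : 2 ∣ q + 1 := by omega
    rw [ha, hb]
    exact ⟨a * b, by ring⟩
  have hcd' : c ∣ (V + 1) * (q + 1) := (by rw [hc]; exact Nat.gcd_dvd_left _ _ : c ∣ 4).trans h4
  rw [← hc]
  have hmod : (V * q) % 8 = q % 8 := by rw [Nat.mul_mod, h8, one_mul, Nat.mod_mod]
  refine coprime_of_prime fun s hs hsM hsN => ?_
  have h1 := dvd_of_div hcd hsM
  have h2 := dvd_of_div hcd' hsN
  by_cases hs2 : s = 2
  · rw [hs2] at h1 h2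
    rcases gcd_four (V * q - 1) with h5 | ⟨h5, h6, h7⟩ | ⟨h5, h6⟩
    · rw [← hc] at h5
      have : ¬ 2 ∣ c := by omega
      have h9 : 2 ∣ c := by rw [hc]; exact Nat.dvd_gcd (by norm_num) (by omega)
      exact this h9
    · rw [← hc] at h5
      rw [h5] at h1
      exact h7 (by omega)
    · rw [← hc] at h5
      rw [h5] at h1 h2
      have hq8 : q % 8 = 1 := by (clear * - hVq hmod h1; omega)
      obtain ⟨a, ha⟩ : ∃ a, V = 8 * a + 1 := ⟨V / 8, by omega⟩
      obtain ⟨b, hb⟩ : ∃ b, q = 8 * b + 1 := ⟨q / 8, by omega⟩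
      rw [ha, hb] at h2
      have h9 : (8 * a + 1 + 1) * (8 * b + 1 + 1) = 8 * (8 * a * b + 2 * a + 2 * b) + 4 := by ring
      rw [h9] at h2
      omega
  · have hsA : s ∣ V * q - 1 := (Dvd.intro _ rfl).trans h1
    have hsB : s ∣ (V + 1) * (q + 1) := (Dvd.intro _ rfl).trans h2
    have hfs := Fact.mk hs
    have e1 : ((V : ℕ) : ZMod s) * q = 1 := by
      have := (ZMod.natCast_eq_zero_iff _ _).2 hsA
      push_cast [hVq] at this
      linear_combination this
    have e3 : ((V : ZMod s) + 1) * (q + 1) = 0 := by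
      have := (ZMod.natCast_eq_zero_iff _ _).2 hsB
      push_cast at this
      exact this
    have e4 : (q : ZMod s) + 1 = 0 := by
      rcases mul_eq_zero.1 e3 with e | e
      · linear_combination q * e - e1
      · exact e
    have e5 : ((V : ℕ) : ZMod s) = 1 := by
      have : (q : ZMod s) = -1 := by linear_combination e4
      rw [hV]
      push_cast
      rw [this, pow_mul]
      norm_num
    have e6 : ((2 : ℕ) : ZMod s) = 0 := by
      have : (q : ZMod s) = -1 := by linear_combination e4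
      rw [e5, this] at e1
      push_cast
      linear_combination -e1
    exact hs2 ((Nat.prime_dvd_prime_iff_eq hs Nat.prime_two).1 ((ZMod.natCast_eq_zero_iff _ _).1 e6))

theorem cop_ominus {q n : ℕ} (h : q % 2 = 1) (hn : 2 ≤ n) :
    Nat.Coprime ((q ^ n + 1) / Nat.gcd 4 (q ^ n + 1)) ((q ^ (n - 1) + 1) * (q - 1) / Nat.gcd 4 (q ^ n + 1)) := by
  obtain ⟨m, rfl⟩ : ∃ m, n = m + 1 := ⟨n - 1, by omega⟩
  rw [Nat.add_sub_cancel]
  obtain ⟨V, hV⟩ : ∃ V, V = q ^ m := ⟨_, rfl⟩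
  have hqV : q ^ (m + 1) = V * q := by rw [pow_succ, hV]
  rw [hqV, ← hV]
  have hVo : V % 2 = 1 := by rw [hV, Nat.pow_mod, h, one_pow]; rfl
  have hq1 : 1 ≤ q := by omega
  obtain ⟨c, hc⟩ : ∃ c, c = Nat.gcd 4 (V * q + 1) := ⟨_, rfl⟩
  have hcd : c ∣ V * q + 1 := by rw [hc]; exact Nat.gcd_dvd_right _ _
  have h4 : 4 ∣ (V + 1) * (q - 1) := by
    obtain ⟨a, ha⟩ : 2 ∣ V + 1 := by omega
    obtain ⟨b, hb⟩ : 2 ∣ q - 1 := by omega
    rw [ha, hb]
    exact ⟨a * b, by ring⟩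
  have hcd' : c ∣ (V + 1) * (q - 1) := (by rw [hc]; exact Nat.gcd_dvd_left _ _ : c ∣ 4).trans h4
  rw [← hc]
  refine coprime_of_prime fun s hs hsM hsN => ?_
  have h1 := dvd_of_div hcd hsM
  have h2 := dvd_of_div hcd' hsN
  by_cases hs2 : s = 2
  · rw [hs2] at h1 h2
    rcases gcd_four (V * q + 1) with h5 | ⟨h5, h6, h7⟩ | ⟨h5, h6⟩
    · rw [← hc] at h5
      have h8 : (V * q) % 2 = 1 := by rw [Nat.mul_mod, hVo, h]
      have h9 : 2 ∣ c := by rw [hc]; exact Nat.dvd_gcd (by norm_num) (by omega)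
      omega
    · rw [← hc] at h5
      rw [h5] at h1
      exact h7 (by omega)
    · rw [← hc] at h5
      rw [h5] at h1 h2
      rcases Nat.even_or_odd' m with ⟨k, hk | hk⟩
      · -- `m` even
        have h8 : V % 8 = 1 := by rw [hV, hk]; exact sq_mod_eight h k
        have hmod : (V * q) % 8 = q % 8 := by rw [Nat.mul_mod, h8, one_mul, Nat.mod_mod]
        have hq8 : q % 8 = 7 := by (clear * - h1 hmod; omega)
        obtain ⟨a, ha⟩ : ∃ a, V = 8 * a + 1 := ⟨V / 8, by omega⟩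
        obtain ⟨b, hb⟩ : ∃ b, q = 8 * b + 7 := ⟨q / 8, by (clear * - h1 hmod; omega)⟩
        rw [ha, hb, show 8 * b + 7 - 1 = 8 * b + 6 by (clear * -; omega)] at h2
        have h9 : (8 * a + 1 + 1) * (8 * b + 6) = 8 * (8 * a * b + 6 * a + 2 * b + 1) + 4 := by ring
        rw [h9] at h2
        omega
      · have h8 : (V * q) % 8 = 1 := by
          rw [← hqV, hk, show 2 * k + 1 + 1 = 2 * (k + 1) by ring]
          exact sq_mod_eight h (k + 1)
        omega
  · have hsA : s ∣ V * q + 1 := (Dvd.intro _ rfl).trans h1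
    have hsB : s ∣ (V + 1) * (q - 1) := (Dvd.intro _ rfl).trans h2
    have hfs := Fact.mk hs
    have e1 : ((V : ℕ) : ZMod s) * q = -1 := by
      have := (ZMod.natCast_eq_zero_iff _ _).2 hsA
      push_cast at this
      linear_combination this
    have e3 : ((V : ZMod s) + 1) * (q - 1) = 0 := by
      have := (ZMod.natCast_eq_zero_iff _ _).2 hsB
      push_cast [hq1] at this
      exact this
    have e4 : (q : ZMod s) = 1 := by
      rcases mul_eq_zero.1 e3 with e | e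
      · linear_combination q * e - e1
      · linear_combination e
    have e5 : ((V : ℕ) : ZMod s) = 1 := by
      rw [hV]
      push_cast
      rw [e4, one_pow]
    have e6 : ((2 : ℕ) : ZMod s) = 0 := by
      rw [e5, e4] at e1
      push_cast
      linear_combination e1
    exact hs2 ((Nat.prime_dvd_prime_iff_eq hs Nat.prime_two).1 ((ZMod.natCast_eq_zero_iff _ _).1 e6))

end Cfsg.Agent.R2.Spec.F1
end

-- part: R2/Spec/F1/PairCop
section
/-!
# The two isolated numbers are coprime; the bound for `|Out S|` (helper23)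
-/

set_option autoImplicit false
set_option linter.unusedVariables false

namespace Cfsg.Agent.R2.Spec.F1

open Subgroup Cfsg
open Cfsg.Agent.H426.LieFam Cfsg.Agent.R2.Spec Cfsg.Agent.R2.Spec.P1
open Cfsg.Agent.R2.Spec.E (PairOK outB)

universe u

theorem pair_symm {t : Fam} {i j : ℕ} (h : PairOK t i j) : PairOK t j i := by
  cases t with
  | psl n => rcases h with ⟨h1, h2⟩ | ⟨h1, h2⟩; exacts [Or.inr ⟨h2, h1⟩, Or.inl ⟨h2, h1⟩]
  | psu n => rcases h with ⟨h1, h2⟩ | ⟨h1, h2⟩; exacts [Or.inr ⟨h2, h1⟩, Or.inl ⟨h2, h1⟩]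
  | psp n => obtain ⟨h0, ⟨h1, h2⟩ | ⟨h1, h2⟩⟩ := h; exacts [⟨h0, Or.inr ⟨h2, h1⟩⟩, ⟨h0, Or.inl ⟨h2, h1⟩⟩]
  | oodd n => obtain ⟨h0, ⟨h1, h2⟩ | ⟨h1, h2⟩⟩ := h; exacts [⟨h0, Or.inr ⟨h2, h1⟩⟩, ⟨h0, Or.inl ⟨h2, h1⟩⟩]
  | oplus n =>
    rcases h with ⟨h0, ⟨h1, h2⟩ | ⟨h1, h2⟩⟩ | ⟨h0, ⟨h1, h2⟩ | ⟨h1, h2⟩⟩
    exacts [Or.inl ⟨h0, Or.inr ⟨h2, h1⟩⟩, Or.inl ⟨h0, Or.inl ⟨h2, h1⟩⟩, Or.inr ⟨h0, Or.inr ⟨h2, h1⟩⟩,
      Or.inr ⟨h0, Or.inl ⟨h2, h1⟩⟩]
  | ominus n => rcases h with ⟨h1, h2⟩ | ⟨h1, h2⟩; exacts [Or.inr ⟨h2, h1⟩, Or.inl ⟨h2, h1⟩]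
  | _ => exact h

theorem gcd_two_of_odd {q : ℕ} (hq : q % 2 = 1) : Nat.gcd 2 (q - 1) = 2 := by
  apply Nat.gcd_eq_left
  omega

/-- half of the cases -/
def PairH : Fam → ℕ → ℕ → Prop
  | .psl n, i, j => i = n ∧ j + 1 = n
  | .psu n, i, j => i = n ∧ j + 1 = n
  | .psp n, i, j => n % 2 = 1 ∧ i = n ∧ j = 2 * n
  | .oodd n, i, j => n % 2 = 1 ∧ i = n ∧ j = 2 * n
  | .oplus n, i, j => (n % 2 = 1 ∧ i = n ∧ j = 2 * (n - 1)) ∨ (n % 2 = 0 ∧ i = n - 1 ∧ j = 2 * (n - 1))
  | .ominus n, i, j => i = 2 * n ∧ j = 2 * (n - 1)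
  | _, _, _ => False

theorem pair_or {t : Fam} {i j : ℕ} (h : PairOK t i j) : PairH t i j ∨ PairH t j i := by
  cases t with
  | psl n => rcases h with ⟨h1, h2⟩ | ⟨h1, h2⟩; exacts [Or.inl ⟨h1, h2⟩, Or.inr ⟨h2, h1⟩]
  | psu n => rcases h with ⟨h1, h2⟩ | ⟨h1, h2⟩; exacts [Or.inl ⟨h1, h2⟩, Or.inr ⟨h2, h1⟩]
  | psp n => obtain ⟨h0, ⟨h1, h2⟩ | ⟨h1, h2⟩⟩ := h; exacts [Or.inl ⟨h0, h1, h2⟩, Or.inr ⟨h0, h2, h1⟩]
  | oodd n => obtain ⟨h0, ⟨h1, h2⟩ | ⟨h1, h2⟩⟩ := h; exacts [Or.inl ⟨h0, h1, h2⟩, Or.inr ⟨h0, h2, h1⟩]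
  | oplus n =>
    rcases h with ⟨h0, ⟨h1, h2⟩ | ⟨h1, h2⟩⟩ | ⟨h0, ⟨h1, h2⟩ | ⟨h1, h2⟩⟩
    exacts [Or.inl (Or.inl ⟨h0, h1, h2⟩), Or.inr (Or.inl ⟨h0, h2, h1⟩), Or.inl (Or.inr ⟨h0, h1, h2⟩),
      Or.inr (Or.inr ⟨h0, h2, h1⟩)]
  | ominus n => rcases h with ⟨h1, h2⟩ | ⟨h1, h2⟩; exacts [Or.inl ⟨h1, h2⟩, Or.inr ⟨h2, h1⟩]
  | _ => exact h.elim

theorem pairH_coprime {t : Fam} {i j q : ℕ} (h : PairH t i j) (hn : 3 ≤ rk t) (hq : q % 2 = 1) (hq3 : 3 ≤ q) :
    Nat.Coprime (ttor t q i) (ttor t q j) := by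
  cases t with
  | psl n =>
    obtain ⟨h1, h2⟩ := h
    change 3 ≤ n at hn
    have e1 : ttor (.psl n) q i = (q ^ n - 1) / ((q - 1) * Nat.gcd n (q - 1)) := by
      change (if i = n then _ else _) = _
      rw [if_pos h1]
    have e2 : ttor (.psl n) q j = (q ^ (n - 1) - 1) / Nat.gcd n (q - 1) := by
      change (if j = n then _ else _) = _
      rw [if_neg (by omega)]
    rw [e1, e2]
    exact cop_psl (by omega) (by omega)
  | psu n =>
    obtain ⟨h1, h2⟩ := h
    change 3 ≤ n at hn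
    have e1 : ttor (.psu n) q i = (if n % 2 = 0 then q ^ n - 1 else q ^ n + 1) / ((q + 1) * Nat.gcd n (q + 1)) := by
      change (if i = n then _ else _) = _
      rw [if_pos h1]
    have e2 : ttor (.psu n) q j = (if n % 2 = 0 then q ^ (n - 1) + 1 else q ^ (n - 1) - 1) / Nat.gcd n (q + 1) := by
      change (if j = n then _ else _) = _
      rw [if_neg (by omega)]
    rw [e1, e2]
    have hqn := Nat.one_le_pow n q (by omega)
    have hqn' := Nat.one_le_pow (n - 1) q (by omega)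
    refine cop_psu (by omega) (by omega) ?_ ?_
    · rcases Nat.mod_two_eq_zero_or_one n with h3 | h3
      · have he : Even n := Nat.even_iff.2 h3
        rw [if_pos h3, he.neg_pow, he.neg_pow, one_pow, Nat.cast_sub hqn]
        push_cast; ring
      · have he : Odd n := Nat.odd_iff.2 h3
        rw [if_neg (by omega), he.neg_pow, he.neg_pow, one_pow]
        push_cast; ring
    · rcases Nat.mod_two_eq_zero_or_one n with h3 | h3
      · have he : Odd (n - 1) := Nat.odd_iff.2 (by omega)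
        rw [if_pos h3, he.neg_pow, he.neg_pow, one_pow]
        push_cast; ring
      · have he : Even (n - 1) := Nat.even_iff.2 (by omega)
        rw [if_neg (by omega), he.neg_pow, he.neg_pow, one_pow, Nat.cast_sub hqn']
        push_cast; ring
  | psp n =>
    obtain ⟨h0, h1, h2⟩ := h
    change 3 ≤ n at hn
    have e1 : ttor (.psp n) q i = (q ^ n - 1) / 2 := by
      change (if i = 2 * n then _ else _) = _
      rw [if_neg (by omega), gcd_two_of_odd hq]
    have e2 : ttor (.psp n) q j = (q ^ n + 1) / 2 := by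
      change (if j = 2 * n then _ else _) = _
      rw [if_pos h2, gcd_two_of_odd hq]
    rw [e1, e2]
    exact half_cop hq (by omega)
  | oodd n =>
    obtain ⟨h0, h1, h2⟩ := h
    change 3 ≤ n at hn
    have e1 : ttor (.oodd n) q i = (q ^ n - 1) / 2 := by
      change (if i = 2 * n then _ else _) = _
      rw [if_neg (by omega), gcd_two_of_odd hq]
    have e2 : ttor (.oodd n) q j = (q ^ n + 1) / 2 := by
      change (if j = 2 * n then _ else _) = _
      rw [if_pos h2, gcd_two_of_odd hq]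
    rw [e1, e2]
    exact half_cop hq (by omega)
  | oplus n =>
    change 3 ≤ n at hn
    rcases h with ⟨h0, h1, h2⟩ | ⟨h0, h1, h2⟩
    · have e1 : ttor (.oplus n) q i = (q ^ n - 1) / Nat.gcd 4 (q ^ n - 1) := by
        change (if i = n then _ else _) = _
        rw [if_pos h1]
      have e2 : ttor (.oplus n) q j = (q ^ (n - 1) + 1) * (q + 1) / Nat.gcd 4 (q ^ n - 1) := by
        change (if j = n then _ else if j = n - 1 then _ else if n % 2 = 0 then _ else _) = _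
        rw [if_neg (by omega), if_neg (by omega), if_neg (by omega)]
      rw [e1, e2]
      exact cop_oplus hq h0
    · have e1 : ttor (.oplus n) q i = (q ^ (n - 1) - 1) / 2 := by
        change (if i = n then _ else if i = n - 1 then _ else _) = _
        rw [if_neg (by omega), if_pos h1, gcd_two_of_odd hq]
      have e2 : ttor (.oplus n) q j = (q ^ (n - 1) + 1) / 2 := by
        change (if j = n then _ else if j = n - 1 then _ else if n % 2 = 0 then _ else _) = _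
        rw [if_neg (by (clear * - hn h2; omega)), if_neg (by omega), if_pos h0, gcd_two_of_odd hq]
      rw [e1, e2]
      exact half_cop hq (by omega)
  | ominus n =>
    obtain ⟨h1, h2⟩ := h
    change 3 ≤ n at hn
    have e1 : ttor (.ominus n) q i = (q ^ n + 1) / Nat.gcd 4 (q ^ n + 1) := by
      change (if i = 2 * n then _ else _) = _
      rw [if_pos h1]
    have e2 : ttor (.ominus n) q j = (q ^ (n - 1) + 1) * (q - 1) / Nat.gcd 4 (q ^ n + 1) := by
      change (if j = 2 * n then _ else if j = n - 1 then _ else _) = _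
      rw [if_neg (by omega), if_neg (by omega)]
    rw [e1, e2]
    exact cop_ominus hq (by omega)
  | _ => exact h.elim

/-- **The two isolated numbers are coprime.** -/
theorem pair_coprime {t : Fam} {i j q : ℕ} (h : PairOK t i j) (hn : 3 ≤ rk t) (hq : q % 2 = 1) (hq3 : 3 ≤ q) :
    Nat.Coprime (ttor t q i) (ttor t q j) := by
  rcases pair_or h with h1 | h1
  · exact pairH_coprime h1 hn hq hq3
  · exact (pairH_coprime h1 hn hq hq3).symm

/-! ### `|Out S|` -/

end Cfsg.Agent.R2.Spec.F1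
end
end

-- part: R2/Spec/X4/H10/L2Row
section
prune_inst 0x4052024044cc000080018801612002004340005b00020000178200546010ed322a9c0a94148201d06120e12011801000000000070404000000e00300000030020802814005180000c860087803084080c00000000000000000000000000041004000000000
set_option linter.all false
open scoped Cfsg.Agent.FastGrp

-- part: R2/Spec/X4/H10/L2Num
section
/-!
# X4, `S = L₂(u)` : numbers (helper10)
-/

set_option autoImplicit false
set_option linter.unusedVariables false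

namespace Cfsg.Agent.R2.Spec.X4.H10

theorem poly_a {q : ℤ} (hq : 7 ≤ q) : 4 * (q ^ 3 + 1) < (q ^ 2 - q) * (3 * q ^ 2 - 1) := by
  obtain ⟨x, rfl⟩ : ∃ x : ℕ, q = x + 7 := ⟨(q - 7).toNat, by omega⟩
  have : ((x : ℤ) + 7) ^ 3 = x ^ 3 + 21 * x ^ 2 + 147 * x + 343 := by ring
  linarith only [sq_nonneg (x : ℤ), pow_nonneg (Int.natCast_nonneg x) 3, pow_nonneg (Int.natCast_nonneg x) 4, Int.natCast_nonneg x]

/-- the torus of `p (q² + 1) / 2` -/
theorem pKill {q p H b e d : ℤ} (hq : 7 ≤ q) (hp3 : 3 ≤ p) (hd : d = 1 ∨ d = -1) (he : e = 1 ∨ e = -1)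
    (hb : b = 1 ∨ b = 2 ∨ b = 4) (hH : 0 < H) (hE : H * (p * (q ^ 2 + 1) - b * e) = q ^ 3 + d) : False := by
  have h1 : (q ^ 2 + 1) ∣ b * H * e - q + d := by
    refine ⟨H * p - q, ?_⟩
    linear_combination (-1 : ℤ) * hE
  have hd1 : d ≤ 1 := by rcases hd with rfl | rfl <;> norm_num
  have hd2 : -1 ≤ d := by rcases hd with rfl | rfl <;> norm_num
  have hbe : b * e ≤ 4 := by
    rcases hb with rfl | rfl | rfl <;> rcases he with rfl | rfl <;> norm_num
  have h2 : H * (3 * q ^ 2 - 1) ≤ q ^ 3 + 1 := by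
    have h3 : 3 * q ^ 2 - 1 ≤ p * (q ^ 2 + 1) - b * e := by nlinarith only [hp3, hbe, sq_nonneg q]
    have := mul_le_mul_of_nonneg_left h3 hH.le
    omega
  have h4 : 4 * H < q ^ 2 - q := by
    by_contra hcon
    rw [not_lt] at hcon
    have h5 := poly_a hq
    have h6 : (q ^ 2 - q) * (3 * q ^ 2 - 1) ≤ 4 * H * (3 * q ^ 2 - 1) :=
      mul_le_mul_of_nonneg_right hcon (by nlinarith only [hq])
    linarith only [h2, h5, h6]
  have h7 : |b * H * e| ≤ 4 * H := by
    rw [abs_mul, abs_mul, abs_of_pos hH]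
    have h8 : |e| = 1 := by rcases he with rfl | rfl <;> norm_num
    have h9 : |b| ≤ 4 := by rcases hb with rfl | rfl | rfl <;> norm_num
    rw [h8, mul_one]
    exact mul_le_mul_of_nonneg_right h9 hH.le
  have h10 := abs_le.1 h7
  have h11 : b * H * e - q + d = 0 := by
    apply eq_zero_of_dvd_abs h1
    rw [abs_lt]
    constructor <;> linarith only [hd2, h4, h10, hq, hd1]
  have h12 : (q ^ 2 + 1) * (H * p - q) = 0 := by
    linear_combination hE + h11
  have h13 : H * p = q := by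
    rcases mul_eq_zero.1 h12 with h | h
    · exfalso; linarith only [hq, h4, h10, h]
    · omega
  have h14 : H * (b * e - p) = -d := by
    linear_combination h11 - h13
  have h15 : H ∣ 1 := by
    have : H ∣ -d := Dvd.intro _ h14
    rcases hd with rfl | rfl
    · exact (dvd_neg.1 this)
    · simpa using this
  have h16 : H = 1 := Int.eq_one_of_dvd_one hH.le h15
  subst h16
  rw [one_mul] at h13 h14
  omega

theorem poly_b {q : ℤ} (hq : 7 ≤ q) : 27 * (2 * q * (q ^ 2 + 1) + 1) < (q ^ 2 - q + 1) ^ 3 := by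
  obtain ⟨x, rfl⟩ : ∃ x : ℕ, q = x + 7 := ⟨(q - 7).toNat, by omega⟩
  have : (((x : ℤ) + 7) ^ 2 - (x + 7) + 1) ^ 3 - 27 * (2 * (x + 7) * ((x + 7) ^ 2 + 1) + 1) =
      (x ^ 6 + 39 * x ^ 5 + 636 * x ^ 4 + 5497 * x ^ 3 + 26214 * x ^ 2 + 64119 * x + 60580) + 0 := by ring
  have h2 : (0 : ℤ) ≤ x := Int.natCast_nonneg x
  have h3 : 0 < (((x : ℤ) + 7) ^ 2 - (x + 7) + 1) ^ 3 - 27 * (2 * (x + 7) * ((x + 7) ^ 2 + 1) + 1) := by
    rw [this]; (clear * -; positivity)
  (clear * - h3; omega)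

theorem vKill {q p κ e c g δ : ℤ} {f : ℕ} (hq : 7 ≤ q) (hp3 : 3 ≤ p) (hpq : p ∣ q) (hg : g = 1 ∨ g = 3)
    (hδ : δ = 1 ∨ δ = -1) (hgκ : g * κ = q ^ 2 + δ * q + 1) (he : e = 1 ∨ e = -1) (hc : c = 1 ∨ c = 2) (hf : 1 ≤ f)
    (hE : κ ^ f + e = c * (p * (q ^ 2 + 1))) : False := by
  have hpq' : p ≤ q := Int.le_of_dvd (by omega) hpq
  have hc1 : 1 ≤ c := by rcases hc with rfl | rfl <;> norm_num
  have hc2 : c ≤ 2 := by rcases hc with rfl | rfl <;> norm_num
  have he1 : e ≤ 1 := by rcases he with rfl | rfl <;> norm_num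
  have he2 : -1 ≤ e := by rcases he with rfl | rfl <;> norm_num
  have hκu : κ ≤ q ^ 2 + q + 1 := by
    rcases hg with rfl | rfl <;> rcases hδ with rfl | rfl <;> linarith only [hgκ, hq, _root_.sq_nonneg (q : ℤ)]
  have hκl : q ^ 2 - q + 1 ≤ 3 * κ := by
    rcases hg with rfl | rfl <;> rcases hδ with rfl | rfl <;> nlinarith only [hq, hgκ, _root_.sq_nonneg (q : ℤ)]
  have hκ1 : 1 ≤ κ := by nlinarith only [hq, hκl]
  have hlow : 3 * (q ^ 2 + 1) ≤ c * (p * (q ^ 2 + 1)) := by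
    have h1 : 3 ≤ c * p := by nlinarith only [hp3, hc1]
    calc 3 * (q ^ 2 + 1) ≤ (c * p) * (q ^ 2 + 1) := mul_le_mul_of_nonneg_right h1 (by positivity)
      _ = _ := by ring
  have hupp : c * (p * (q ^ 2 + 1)) ≤ 2 * q * (q ^ 2 + 1) := by
    have h1 : c * p ≤ 2 * q := by nlinarith only [hp3, hpq', hc2]
    calc c * (p * (q ^ 2 + 1)) = (c * p) * (q ^ 2 + 1) := by ring
      _ ≤ _ := mul_le_mul_of_nonneg_right h1 (by positivity)
  rcases (by omega : f = 1 ∨ f = 2 ∨ 3 ≤ f) with rfl | rfl | hf3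
  · rw [pow_one] at hE
    nlinarith only [hq, he1, hκu, hlow, hE]
  · have hδ2 : δ * δ = 1 := by rcases hδ with rfl | rfl <;> norm_num
    have h1 : (q ^ 2 + 1) ∣ g ^ 2 * e - 1 := by
      have h2 : g ^ 2 * e - 1 = (q ^ 2 + 1) * (g ^ 2 * c * p - (q ^ 2 + 1) - 2 * δ * q - 1) - (δ * δ - 1) * q ^ 2 := by
        have h3 : g ^ 2 * κ ^ 2 = (q ^ 2 + δ * q + 1) ^ 2 := by rw [← hgκ]; ring
        linear_combination g ^ 2 * hE - h3
      rw [h2, hδ2, sub_self, zero_mul, sub_zero]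
      exact Dvd.intro _ rfl
    have h49 : 49 ≤ q ^ 2 := by nlinarith only [hq]
    rcases hg with rfl | rfl
    · rcases he with rfl | rfl
      · rw [one_mul] at hgκ
        rw [hgκ] at hE
        have h4 : (q ^ 2 + 1) * (q ^ 2 + 2 * δ * q + 2 - c * p) = 0 := by
          linear_combination hE - q ^ 2 * hδ2
        have h5 : q ^ 2 + 2 * δ * q + 2 - c * p = 0 := by
          rcases mul_eq_zero.1 h4 with h | h
          · exfalso; linarith only [h49, h]
          · exact h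
        have h6 : p ∣ 2 := by
          have h7 : (2 : ℤ) = c * p - q * (q + 2 * δ) := by linear_combination h5
          rw [h7]
          exact dvd_sub (dvd_mul_left _ _) (hpq.mul_right _)
        have := Int.le_of_dvd (by norm_num) h6
        omega
      · have := Int.le_of_dvd (by norm_num) ((dvd_neg).2 h1)
        omega
    · rcases he with rfl | rfl
      · have := Int.le_of_dvd (by norm_num) h1
        omega
      · have := Int.le_of_dvd (by norm_num) ((dvd_neg).2 h1)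
        omega
  · have h1 : κ ^ 3 ≤ κ ^ f := pow_le_pow_right₀ hκ1 hf3
    have h2 := poly_b hq
    have h3 : (q ^ 2 - q + 1) ^ 3 ≤ (3 * κ) ^ 3 := pow_le_pow_left₀ (by nlinarith only []) hκl 3
    linarith only [hE, he2, hupp, h1, h2, h3]

theorem dKill {q T T' D h h' A B k k' d : ℤ} (hq : 7 ≤ q) (hd : d = 1 ∨ d = -1) (hA : 2 * A = q ^ 3 + d)
    (hB : 2 * B = q ^ 3 - d) (hk : q ^ 2 - q + 1 ≤ 3 * k) (hk' : q ^ 2 - q + 1 ≤ 3 * k') (hkT : k ≤ T) (hkT' : k' ≤ T')
    (hh : 0 < h) (hh' : 0 < h') (hE : h * T = A) (hE' : h' * T' = B) (hD : T - T' = D)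
    (hD2 : |D| = 1 ∨ (|D| = 2 ∧ 17 ≤ q)) : |D| = 1 ∧ T = A ∧ T' = B := by
  have hd1 : |d| = 1 := by rcases hd with rfl | rfl <;> norm_num
  have hq2 : 43 ≤ q ^ 2 - q + 1 := by nlinarith only [hq]
  -- bounds for `h'`
  have hh2 : h' * (q ^ 2 - q + 1) ≤ 3 * B := by
    have : h' * (q ^ 2 - q + 1) ≤ h' * (3 * T') := mul_le_mul_of_nonneg_left (by omega) hh'.le
    linarith only [hE', this]
  have hh3 : 2 * h' ≤ 3 * (q + 1) := by
    by_contra hcon
    rw [not_le] at hcon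
    have h4 : (3 * (q + 1) + 1) * (q ^ 2 - q + 1) ≤ 2 * h' * (q ^ 2 - q + 1) :=
      mul_le_mul_of_nonneg_right (by omega) (by omega)
    have h5 : 2 * B ≤ q ^ 3 + 1 := by rcases hd with rfl | rfl <;> (clear * - hA hB; omega)
    linarith only [hq2, hh2, h4, h5]
  have hdiff : (h - h') * T + h' * D = d := by
    have hAB : A - B = d := by omega
    rw [← hD]
    linear_combination hE - hE' + hAB
  by_cases hhh : h = h'
  · subst hhh
    rw [sub_self, zero_mul, zero_add] at hdiff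
    have h6 : |h| * |D| = 1 := by rw [← abs_mul, hdiff, hd1]
    rw [abs_of_pos hh] at h6
    have h7 : h = 1 := by
      have h8 : h ∣ 1 := Dvd.intro _ h6
      exact Int.eq_one_of_dvd_one hh.le h8
    subst h7
    rw [one_mul] at h6 hE hE'
    exact ⟨h6, hE, hE'⟩
  · exfalso
    have h1 : 1 ≤ |h - h'| := Int.one_le_abs (sub_ne_zero.2 hhh)
    have hT : 0 < T := by omega
    have h2 : T ≤ |(h - h') * T| := by
      rw [abs_mul, abs_of_pos hT]
      nlinarith only [hk, hkT, hq2, h1]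
    have h3 : (h - h') * T = d - h' * D := by linear_combination hdiff
    have h4 : |d - h' * D| ≤ 1 + h' * |D| := by
      calc |d - h' * D| ≤ |d| + |h' * D| := abs_sub _ _
        _ = _ := by rw [hd1, abs_mul, abs_of_pos hh']
    rw [h3] at h2
    rcases hD2 with h5 | ⟨h5, h6⟩
    · rw [h5] at h4
      nlinarith only [hq, hk, hkT, hh3, h2, h4]
    · rw [h5] at h4
      nlinarith only [hq, hk, hkT, hh3, h2, h4, h6]

theorem eKill {q κ κ' X e g g' δ T : ℤ} {f : ℕ} (hq : 7 ≤ q) (hX : 2 * X ≤ q ^ 3 + 1) (hX0 : 0 < X)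
    (hg : (g = 1 ∨ g = 3) ∧ (g' = 1 ∨ g' = 3)) (hgg : g = 1 ∨ g' = 1) (hδ : δ = 1 ∨ δ = -1)
    (hgκ : g * κ = q ^ 2 + δ * q + 1) (hgκ' : g' * κ' = q ^ 2 - δ * q + 1)
    (he : e = 1 ∨ e = -1) (hf : 1 ≤ f) (hT : 2 * T = κ ^ f + e) (hκT : κ' ∣ T) (hTX : T ∣ X)
    (hq9 : q < 11 → 19 ≤ κ ∧ (q = 7 ∨ (q = 9 ∧ 73 ≤ κ)))
    (hq7 : q = 7 → g' = 1 ∨ κ' = 19 ∧ κ = 43) : False := by
  have he1 : e ≤ 1 := by rcases he with rfl | rfl <;> norm_num
  have he2 : -1 ≤ e := by rcases he with rfl | rfl <;> norm_num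
  have hκu : κ ≤ q ^ 2 + q + 1 := by
    rcases hg.1 with rfl | rfl <;> rcases hδ with rfl | rfl <;> linarith only [hgκ, hq, _root_.sq_nonneg (q : ℤ)]
  have hκl : q ^ 2 - q + 1 ≤ 3 * κ := by
    rcases hg.1 with rfl | rfl <;> rcases hδ with rfl | rfl <;> nlinarith only [hq, hgκ, _root_.sq_nonneg (q : ℤ)]
  have hκ1 : 15 ≤ κ := by nlinarith only [hq, hκl]
  have hTX' : T ≤ X := Int.le_of_dvd hX0 hTX
  rcases (by omega : f = 1 ∨ 2 ≤ f) with rfl | hf2
  · rw [pow_one] at hT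
    have hT0 : 0 < T := by omega
    have h1 : κ' ≤ T := Int.le_of_dvd hT0 hκT
    have hg' : g' = 3 := by
      rcases hg.2 with h | h
      · exfalso
        rw [h, one_mul] at hgκ'
        rcases hδ with rfl | rfl <;> nlinarith only [hq, he1, hκu, hT, h1, hgκ', hκ1]
      · exact h
    have hg1 : g = 1 := by
      rcases hgg with h | h
      · exact h
      · omega
    rw [hg'] at hgκ'
    rw [hg1, one_mul] at hgκ
    have h2 : κ' ∣ 2 * δ * q + e := by
      have h3 : 2 * δ * q + e = 2 * T - 3 * κ' := by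
        rw [hT, hgκ, hgκ']; ring
      rw [h3]
      exact dvd_sub (hκT.mul_left 2) (dvd_mul_left _ _)
    have h4 : 2 * δ * q + e ≠ 0 := by rcases hδ with rfl | rfl <;> (clear * - hq he2 he1; omega)
    have h5 : κ' ≤ |2 * δ * q + e| := Int.le_of_dvd (abs_pos.2 h4) ((dvd_abs _ _).2 h2)
    have h6 : |2 * δ * q + e| ≤ 2 * q + 1 := by
      rw [abs_le]
      rcases hδ with rfl | rfl <;> constructor <;> linarith only [hq, he2, he1]
    have h7 : q ≤ 7 := by
      by_contra hcon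
      rcases hδ with rfl | rfl <;> nlinarith only [hcon, hgκ', h5, h6]
    have h8 : q = 7 := by omega
    rcases hq7 h8 with h9 | ⟨h9, h10⟩
    · omega
    · subst h8
      rw [h9] at h5
      omega
  · have h1 : κ ^ 2 ≤ κ ^ f := pow_le_pow_right₀ (by omega) hf2
    have h2 : κ ^ 2 ≤ q ^ 3 + 2 := by linarith only [hX, hT, he2, hTX', h1]
    rcases lt_or_ge q 11 with h3 | h3
    · obtain ⟨h4, h5 | ⟨h5, h6⟩⟩ := hq9 h3
      · subst h5; nlinarith only [hT, he2, hTX', h1, h4, hX]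
      · subst h5; nlinarith only [hT, he2, hTX', h1, h6, hX]
    · have h4 : (q ^ 2 - q + 1) ^ 2 ≤ (3 * κ) ^ 2 := pow_le_pow_left₀ (by nlinarith only []) hκl 2
      have h5 : (q ^ 2 - q + 1) ^ 2 ≤ 9 * (q ^ 3 + 2) := by linarith only [hX, hT, he2, hTX', h1, h4]
      obtain ⟨x, rfl⟩ : ∃ x : ℕ, q = x + 11 := ⟨(q - 11).toNat, by omega⟩
      have h6 : (((x : ℤ) + 11) ^ 2 - (x + 11) + 1) ^ 2 - 9 * ((x + 11) ^ 3 + 2) =
        x ^ 4 + 33 * x ^ 3 + 366 * x ^ 2 + 1395 * x + 324 := by ring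
      have h7 : (0 : ℤ) ≤ x := Int.natCast_nonneg x
      have h8 : 0 < (((x : ℤ) + 11) ^ 2 - (x + 11) + 1) ^ 2 - 9 * ((x + 11) ^ 3 + 2) := by
        rw [h6]; (clear * -; positivity)
      omega

end Cfsg.Agent.R2.Spec.X4.H10
end

-- part: R2/Spec/X4/H10/L2Row
section
/-!
# X4: `S = L₂(u)` is impossible, `(u, q) = 1` (helper10)

* `row_l2` : no hypothesis `Good`, `u` even or odd.
-/

set_option autoImplicit false
set_option linter.unusedSectionVars false
set_option linter.unusedVariables false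

namespace Cfsg.Agent.R2.Spec.X4.H10

open Subgroup Cfsg
open Cfsg.Agent.H426.LieFam Cfsg.Agent.R2.Spec Cfsg.Agent.R2.Spec.P1 Cfsg.Agent.R2.Spec.F1

universe u

variable {p q k A k' B m i : ℕ} {W : ℕ → Prop} {S : Type u} [Group S] {v f : ℕ}

/-- a torus of `L₂(u)` -/
structure Tor (S : Type u) [Group S] (u g : ℕ) (e : ℤ) (T : ℕ) : Prop where
  eq : (g : ℤ) * (T : ℤ) = (u : ℤ) + e
  ex : ∃ x : S, orderOf x = T

/-- the element orders of `L₂(u)` -/
structure L2F (S : Type u) [Group S] (v u g : ℕ) : Prop where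
  hg : (g = 1 ∧ u % 2 = 0) ∨ (g = 2 ∧ u % 2 = 1)
  cas : ∀ x : S, (∃ (e : ℤ) (T : ℕ), (e = 1 ∨ e = -1) ∧ Tor S u g e T ∧ orderOf x ∣ T) ∨ orderOf x ∣ v

theorem l2f (hv : v.Prime) (hI : Fam.Is v f S (.psl 2)) : L2F S v (v ^ f) (Nat.gcd 2 (v ^ f - 1)) := by
  obtain ⟨hn, h4, F, _, _, hch, hF, ⟨e⟩⟩ := hI
  have := Fact.mk hv
  have h4' := h4 rfl
  set u := v ^ f with hu
  have hgc : (Nat.gcd 2 (u - 1) = 1 ∧ u % 2 = 0) ∨ (Nat.gcd 2 (u - 1) = 2 ∧ u % 2 = 1) := by
    rcases (Nat.dvd_prime Nat.prime_two).1 (Nat.gcd_dvd_left 2 (u - 1)) with h | h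
    · left
      refine ⟨h, ?_⟩
      by_contra hcon
      have : 2 ∣ Nat.gcd 2 (u - 1) := Nat.dvd_gcd dvd_rfl (by omega)
      rw [h] at this
      omega
    · right
      refine ⟨h, ?_⟩
      have : 2 ∣ u - 1 := by rw [← h]; exact Nat.gcd_dvd_right 2 (u - 1)
      omega
  have hT1 : Tor S u (Nat.gcd 2 (u - 1)) 1 ((u + 1) / Nat.gcd 2 (u - 1)) := by
    refine ⟨?_, ?_⟩
    · rcases hgc with ⟨h1, h2⟩ | ⟨h1, h2⟩ <;> rw [h1] <;> (clear * - h2; omega)
    · obtain ⟨g, hg⟩ := Cfsg.Agent.H363.PSL2Spec.exists_nonsplit hF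
      exact ⟨e.symm g, by rw [MulEquiv.orderOf_eq]; exact hg⟩
  have hT2 : Tor S u (Nat.gcd 2 (u - 1)) (-1) ((u - 1) / Nat.gcd 2 (u - 1)) := by
    refine ⟨?_, ?_⟩
    · rcases hgc with ⟨h1, h2⟩ | ⟨h1, h2⟩ <;> rw [h1] <;> (clear * - h4' h2; omega)
    · obtain ⟨g, hg⟩ := Cfsg.Agent.H363.PSL2Spec.exists_split hF
      exact ⟨e.symm g, by rw [MulEquiv.orderOf_eq]; exact hg⟩
  refine ⟨hgc, fun x => ?_⟩
  have h1 := Cfsg.Agent.H363.PSL2Spec.orderOf_cases hF v (e x)
  rw [MulEquiv.orderOf_eq] at h1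
  rcases h1 with h1 | h1 | h1
  · exact Or.inl ⟨1, _, Or.inl rfl, hT1, h1⟩
  · exact Or.inl ⟨-1, _, Or.inr rfl, hT2, h1⟩
  · exact Or.inr h1

theorem Tor.uniq {u g : ℕ} {e : ℤ} {T T' : ℕ} (h : Tor S u g e T) (h' : Tor S u g e T') (hg : g ≠ 0) : T = T' := by
  have h1 := h.eq.trans h'.eq.symm
  have h2 : (T : ℤ) = T' := mul_left_cancel₀ (by exact_mod_cast hg) h1
  exact_mod_cast h2

/-- the cofactors of the primitive parts -/
theorem LW.cofz (L : LW p q k A k' B W) : ∃ g g' δ : ℤ, (g = 1 ∨ g = 3) ∧ (g' = 1 ∨ g' = 3) ∧ (g = 1 ∨ g' = 1) ∧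
    (δ = 1 ∨ δ = -1) ∧ g * k = (q : ℤ) ^ 2 + δ * q + 1 ∧ g' * k' = (q : ℤ) ^ 2 - δ * q + 1 ∧
    (q < 11 → (q = 7 ∧ (k = 19 ∨ k = 57) ∧ g' = 1 ∧ k' = 43) ∨ (q = 9 ∧ k = 73 ∧ k' = 91)) ∧
    (q = 7 → g = 1 → k = 57) := by
  have hq2 := L.q2
  have hq7 := L.q7
  have h1 := L.side.cof hq2
  have hodd := L.side.odd_q
  have hqq : q ≤ q ^ 2 := Nat.le_self_pow two_ne_zero q
  have e1 : ((q ^ 2 - q + 1 : ℕ) : ℤ) = (q : ℤ) ^ 2 - q + 1 := by push_cast [Nat.cast_sub hqq]; ring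
  have e2 : ((q ^ 2 + q + 1 : ℕ) : ℤ) = (q : ℤ) ^ 2 + q + 1 := by push_cast; ring
  rcases h1 with ⟨h4, ha, hb⟩ | ⟨h4, ha, hb⟩
  · -- `k = ap`, `k' = am`
    rcases ha with ha | ⟨ha, ha3⟩ <;> rcases hb with hb | ⟨hb, hb3⟩
    · refine ⟨1, 1, 1, by norm_num, by norm_num, by norm_num, by norm_num, ?_, ?_, ?_, ?_⟩
      · rw [ha, e2]; ring
      · rw [hb, e1]; ring
      · intro hq
        have : q = 7 ∨ q = 9 := by omega
        rcases this with rfl | rfl
        · left; norm_num at ha hb ⊢; omega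
        · omega
      · intro hq _; subst hq; omega
    · refine ⟨1, 3, 1, by norm_num, by norm_num, by norm_num, by norm_num, ?_, ?_, ?_, ?_⟩
      · rw [ha, e2]; ring
      · have := congrArg (Nat.cast : ℕ → ℤ) hb
        rw [e1] at this
        push_cast at this
        rw [this]; ring
      · intro hq
        have : q = 7 ∨ q = 9 := by (clear * - h4 hb3 hq; omega)
        rcases this with rfl | rfl <;> omega
      · intro hq _; subst hq; omega
    · refine ⟨3, 1, 1, by norm_num, by norm_num, by norm_num, by norm_num, ?_, ?_, ?_, ?_⟩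
      · have := congrArg (Nat.cast : ℕ → ℤ) ha
        rw [e2] at this
        push_cast at this
        rw [this]; ring
      · rw [hb, e1]; ring
      · intro hq
        have : q = 7 ∨ q = 9 := by (clear * - h4 ha3 hq; omega)
        rcases this with rfl | rfl
        · left; norm_num at ha hb ⊢; omega
        · omega
      · intro hq h; norm_num at h
    · (clear * - ha ha3 hb; omega)
  · -- `k = am`, `k' = ap`
    rcases ha with ha | ⟨ha, ha3⟩ <;> rcases hb with hb | ⟨hb, hb3⟩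
    · refine ⟨1, 1, -1, by norm_num, by norm_num, by norm_num, by norm_num, ?_, ?_, ?_, ?_⟩
      · rw [hb, e1]; ring
      · rw [ha, e2]; ring
      · intro hq
        have : q = 7 ∨ q = 9 := by omega
        rcases this with rfl | rfl
        · omega
        · right; norm_num at ha hb ⊢; omega
      · intro hq _; subst hq; omega
    · refine ⟨3, 1, -1, by norm_num, by norm_num, by norm_num, by norm_num, ?_, ?_, ?_, ?_⟩
      · have := congrArg (Nat.cast : ℕ → ℤ) hb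
        rw [e1] at this
        push_cast at this
        rw [this]; ring
      · rw [ha, e2]; ring
      · intro hq
        have : q = 7 ∨ q = 9 := by (clear * - hq7 h4 hq; omega)
        rcases this with rfl | rfl <;> omega
      · intro hq h; norm_num at h
    · refine ⟨1, 3, -1, by norm_num, by norm_num, by norm_num, by norm_num, ?_, ?_, ?_, ?_⟩
      · rw [hb, e1]; ring
      · have := congrArg (Nat.cast : ℕ → ℤ) ha
        rw [e2] at this
        push_cast at this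
        rw [this]; ring
      · intro hq
        have : q = 7 ∨ q = 9 := by (clear * - hq7 h4 hq; omega)
        rcases this with rfl | rfl <;> omega
      · intro hq _; subst hq; omega
    · (clear * - ha ha3 hb; omega)

/-- `p z` and one of `k`, `k'` in `ω(S)` -/
theorem zstate (L : LW p q k A k' B W) {g : ℕ} (F : L2F S v (v ^ f) g) (hv : v.Prime) (hvp : v ≠ p) (hf : f ≠ 0)
    (WS : ∀ x : S, W (orderOf x)) (hpz : ∃ x : S, orderOf x = p * ((q ^ 2 + 1) / 2)) {κ X : ℕ} {d' δ g' : ℤ}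
    (hX : 2 * (X : ℤ) = (q : ℤ) ^ 3 + d') (hX0 : 0 < X) (hd' : d' = 1 ∨ d' = -1) (hκ : ∃ x : S, orderOf x = κ)
    (hk : ∀ r : ℕ, r.Prime → r ∣ κ → (r ∣ k ∨ r ∣ k') ∧ ∀ n : ℕ, W n → r ∣ n → n ∣ X) (κ1 : 1 < κ)
    (hg' : g' = 1 ∨ g' = 3) (hδ : δ = 1 ∨ δ = -1) (hgκ : g' * κ = (q : ℤ) ^ 2 + δ * q + 1) : False := by
  obtain ⟨r, hr, hrκ⟩ := Nat.exists_prime_and_dvd κ1.ne'
  have hzz := L.side.z
  have hq7 := L.q7
  have hq2 : 7 * 7 ≤ q ^ 2 := by rw [sq]; exact Nat.mul_le_mul hq7 hq7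
  obtain ⟨t, ht, htz⟩ := Nat.exists_prime_and_dvd (show (q ^ 2 + 1) / 2 ≠ 1 by omega)
  have hr7 := L.side.prime L.q2 hr (hk r hr hrκ).1
  have hg0 : g ≠ 0 := by rcases F.hg with ⟨h, -⟩ | ⟨h, -⟩ <;> omega
  obtain ⟨x, hx⟩ := hpz
  have hzc : (((q ^ 2 + 1) / 2 : ℕ) : ℤ) * 2 = (q : ℤ) ^ 2 + 1 := by
    have := congrArg (Nat.cast : ℕ → ℤ) hzz.1
    push_cast at this ⊢
    linarith only [hzz]
  set z := (q ^ 2 + 1) / 2 with hz
  rcases F.cas x with ⟨e, T, he, hT, hxT⟩ | hxv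
  · rw [hx] at hxT
    obtain ⟨xT, hxT'⟩ := hT.ex
    have hWT : W T := hxT' ▸ WS xT
    have h1 : T ∣ p * (q ^ 2 + 1) :=
      L.upz t ht htz T hWT ((htz.mul_left p).trans hxT) ((dvd_mul_right p z).trans hxT)
    obtain ⟨c, hc⟩ := hxT
    have hpz0 : 0 < p * z := Nat.mul_pos (by have := L.p3; omega) (by omega)
    have h2 : c ∣ 2 := by
      have h3 : p * z * c ∣ p * z * 2 := by
        rw [← hc, mul_assoc p z 2, mul_comm z 2, hzz.1]; exact h1
      exact Nat.dvd_of_mul_dvd_mul_left hpz0 h3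
    have hcc : c = 1 ∨ c = 2 := (Nat.dvd_prime Nat.prime_two).1 h2
    have hTz : 2 * (T : ℤ) = c * (p * ((q : ℤ) ^ 2 + 1)) := by
      rw [hc]; push_cast; rw [← hzc]; ring
    obtain ⟨y, hy⟩ := hκ
    rcases F.cas y with ⟨e', T', he', hT', hyT⟩ | hyv
    · rw [hy] at hyT
      have hWT' : W T' := by
        obtain ⟨w, hw⟩ := hT'.ex
        exact hw ▸ WS w
      have hee : e' = -e := by
        by_contra hne
        have h3 : e' = e := by
          rcases he with rfl | rfl <;> rcases he' with rfl | rfl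
          · rfl
          · exact absurd rfl hne
          · exact absurd (by norm_num) hne
          · rfl
        subst h3
        have h4 := hT.uniq hT' hg0
        subst h4
        exact L.naz hr (hk r hr hrκ).1 L.pp (Or.inr rfl) hWT (hrκ.trans hyT) ((dvd_mul_right p z).trans (Dvd.intro c hc.symm))
      obtain ⟨h', hh'⟩ := (hk r hr hrκ).2 T' hWT' (hrκ.trans hyT)
      have hh0 : 0 < h' := by
        rcases Nat.eq_zero_or_pos h' with h0 | h0
        · rw [h0, mul_zero] at hh'; omega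
        · exact h0
      have hXh : (X : ℤ) = (T' : ℤ) * (h' : ℤ) := by rw [hh']; push_cast; rfl
      have e1 := hT.eq
      have e2 := hT'.eq
      rw [hee] at e2
      have hq7z : (7 : ℤ) ≤ q := by exact_mod_cast hq7
      have hp3z : (3 : ℤ) ≤ p := by exact_mod_cast L.p3
      rcases F.hg with ⟨hg1, hg2⟩ | ⟨hg1, hg2⟩
      · subst hg1
        rw [Nat.cast_one, one_mul] at e1 e2
        have hc1 : c = 1 := by
          rcases hcc with h | h
          · exact h
          · exfalso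
            have h5 : (T : ℤ) % 2 = 0 := by rw [hc, h]; push_cast; omega
            have h6 : ((v ^ f : ℕ) : ℤ) % 2 = 0 := by exact_mod_cast hg2
            rcases he with rfl | rfl <;> omega
        subst hc1
        refine pKill (H := h') (b := 4) (e := e) hq7z hp3z hd' he (by norm_num) (by omega) ?_
        have e3 : 2 * (T' : ℤ) = p * ((q : ℤ) ^ 2 + 1) - 4 * e := by
          push_cast at hTz
          linear_combination 2 * e2 - 2 * e1 + hTz
        rw [← e3, ← hX, hXh]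
        ring
      · subst hg1
        rcases hcc with h | h
        · subst h
          refine pKill (H := h') (b := 2) (e := e) hq7z hp3z hd' he (by norm_num) (by omega) ?_
          have e3 : 2 * (T' : ℤ) = p * ((q : ℤ) ^ 2 + 1) - 2 * e := by
            push_cast at hTz e1 e2
            linear_combination e2 - e1 + hTz
          rw [← e3, ← hX, hXh]
          ring
        · subst h
          refine pKill (H := 2 * h') (b := 1) (e := e) hq7z hp3z hd' he (by norm_num) (by omega) ?_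
          have e3 : 2 * (T' : ℤ) = 2 * (p * ((q : ℤ) ^ 2 + 1) - 1 * e) := by
            push_cast at hTz e1 e2
            linear_combination e2 - e1 + hTz
          have e4 : (T' : ℤ) = p * ((q : ℤ) ^ 2 + 1) - 1 * e := by (clear * - e1 e2 hTz; omega)
          rw [← e4, ← hX, hXh]
          ring
    · rw [hy] at hyv
      have hκv : κ = v := ((Nat.dvd_prime hv).1 hyv).resolve_left (by omega)
      subst hκv
      have hrk : r = κ := (Nat.prime_dvd_prime_iff_eq hr hv).1 hrκ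
      have hodd : κ ^ f % 2 = 1 := by
        rcases hv.eq_two_or_odd with h | h
        · omega
        · exact Nat.odd_iff.1 ((Nat.odd_iff.2 h).pow)
      rcases F.hg with ⟨hg1, hg2⟩ | ⟨hg1, hg2⟩
      · omega
      · subst hg1
        refine vKill (q := q) (p := p) (κ := κ) (e := e) (c := c) (g := g') (δ := δ) (f := f)
          (by exact_mod_cast hq7) (by exact_mod_cast L.p3) (by exact_mod_cast L.p_dvd) hg' hδ hgκ he (by omega) (by (clear * - hf; omega)) ?_
        have := hT.eq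
        push_cast at this
        linarith only [hTz, this]
  · rw [hx] at hxv
    have h1 : p ∣ v := (dvd_mul_right p z).trans hxv
    exact hvp ((Nat.prime_dvd_prime_iff_eq L.pp hv).1 h1).symm

end Cfsg.Agent.R2.Spec.X4.H10
end
end

-- part: R2/Spec/X4/H10/L3Fac
section
prune_inst 0x4010034044cc0000800000014520022003400018000008000a02003460308c0028940880008001506100830000000000000000060404000000e000000000300000000540052d1010c860000800080400000000000000000000000000000000004000000000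
set_option linter.all false
open scoped Cfsg.Agent.FastGrp

-- part: R2/Spec/X4/H10/L3Ord
section
/-!
# The element orders of `PSU₃(q)`, every characteristic: a weak upper bound (helper10)

The proof of `H127.PSUThree.order_dvd`, with `p ^ 2` in place of `p`.
-/

set_option autoImplicit false

namespace Cfsg.Agent.R2.Spec.X4.H10

open Matrix Polynomial Cfsg.Agent.H127.UnitRoots Cfsg.Agent.H127.PSUThree

section three

variable {K : Type*} [Field K]

/-- if the `k`-th powers of the eigenvalues coincide, then the `k p²`-th power is scalar -/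
theorem pow_scalar_sq (p : ℕ) [Fact p.Prime] [CharP K p] {N : Matrix (Fin 3) (Fin 3) K} {a b c : K}
    (h : N.charpoly = (X - C a) * (X - C b) * (X - C c)) {k : ℕ} (h1 : a ^ k = b ^ k) (h2 : b ^ k = c ^ k) :
    N ^ (k * p ^ 2) = ((c ^ k) ^ p ^ 2) • (1 : Matrix (Fin 3) (Fin 3) K) := by
  have hdvd : ∀ x : K, x ^ k = c ^ k → (X - C x) ∣ (X ^ k - C (c ^ k) : K[X]) := by
    intro x hx
    rw [dvd_iff_isRoot, IsRoot.def, eval_sub, eval_pow, eval_X, eval_C, hx, sub_self]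
  have h3 : N.charpoly ∣ (X ^ k - C (c ^ k)) * (X ^ k - C (c ^ k)) * (X ^ k - C (c ^ k)) := by
    rw [h]
    exact mul_dvd_mul (mul_dvd_mul (hdvd a (h1.trans h2)) (hdvd b h2)) (hdvd c rfl)
  obtain ⟨g, hg⟩ := h3
  have h4 : (N ^ k - (c ^ k) • 1) ^ 3 = 0 := by
    have h5 : aeval N ((X ^ k - C (c ^ k)) * (X ^ k - C (c ^ k)) * (X ^ k - C (c ^ k)) : K[X]) = 0 := by
      rw [hg, map_mul, Matrix.aeval_self_charpoly, zero_mul]
    rw [map_mul, map_mul, map_sub, map_pow, aeval_X, aeval_C, Algebra.algebraMap_eq_smul_one] at h5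
    rw [pow_succ, pow_two]
    exact h5
  have hp3 : 3 ≤ p ^ 2 := by
    have := (Fact.out : p.Prime).two_le
    nlinarith only [this]
  have h6 : (N ^ k - (c ^ k) • 1) ^ p ^ 2 = 0 := pow_eq_zero_of_le hp3 h4
  have hcomm : Commute (N ^ k) ((c ^ k) • (1 : Matrix (Fin 3) (Fin 3) K)) := by
    rw [Commute, SemiconjBy, Matrix.mul_smul, Matrix.smul_mul, mul_one, one_mul]
  have : CharP (Matrix (Fin 3) (Fin 3) K) p := Matrix.charP p
  rw [sub_pow_char_pow_of_commute p 2 hcomm, sub_eq_zero, _root_.smul_pow, one_pow, ← pow_mul] at h6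
  exact h6

end three

/-- **upper bound for the element orders of `PSU₃(q)`** -/
theorem order_dvd_sq {F : Type*} [Field F] [Fintype F] (p : ℕ) [Fact p.Prime] [CharP F p] (q : ℕ)
    (hF : Fintype.card F = q ^ 2) (g : Cfsg.SU 3 F q) :
    orderOf (QuotientGroup.mk g : Cfsg.PSU 3 F q) ∣ q + 1 ∨
      orderOf (QuotientGroup.mk g : Cfsg.PSU 3 F q) ∣ (q + 1) / Nat.gcd 3 (q + 1) * p ^ 2 ∨
      orderOf (QuotientGroup.mk g : Cfsg.PSU 3 F q) ∣ (q ^ 2 - 1) / Nat.gcd 3 (q + 1) ∨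
      orderOf (QuotientGroup.mk g : Cfsg.PSU 3 F q) ∣ (q ^ 2 - q + 1) / Nat.gcd 3 (q + 1) := by
  classical
  have hq2 : 2 ≤ q := Cfsg.Agent.ClassicalGeometry.GUBasic.two_le hF
  let K := AlgebraicClosure F
  have : CharP K p := charP_of_injective_algebraMap (algebraMap F K).injective p
  obtain ⟨σ, hσ⟩ := exists_pow_hom hF K
  set d := Nat.gcd 3 (q + 1) with hd
  have hd0 : 0 < d := Nat.gcd_pos_of_pos_left _ (by norm_num)
  have hd1 : d ∣ q + 1 := Nat.gcd_dvd_right _ _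
  have hd3 : d ∣ 3 := Nat.gcd_dvd_left _ _
  have hd2 : d ∣ q - 2 := by
    have h1 : q + 1 = (q - 2) + 3 := by omega
    rw [h1] at hd1
    exact (Nat.dvd_add_left hd3).1 hd1
  have hdk1 : d * ((q ^ 2 - 1) / d) = q ^ 2 - 1 := by
    apply Nat.mul_div_cancel'
    have h1 : q ^ 2 - 1 = (q + 1) * (q - 1) := by
      have := Nat.sq_sub_sq q 1
      simpa only [_root_.one_pow] using this
    rw [h1]
    exact Dvd.dvd.mul_right hd1 _
  have hdk2 : d * ((q ^ 2 - q + 1) / d) = q ^ 2 - q + 1 := by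
    apply Nat.mul_div_cancel'
    have h1 : q ^ 2 - q + 1 = (q + 1) * (q - 2) + 3 := by
      obtain ⟨r, rfl⟩ : ∃ r, q = r + 2 := ⟨q - 2, by omega⟩
      simp only [Nat.add_sub_cancel]
      have h2 : (r + 2) ^ 2 = (r + 2) + (r + 2) * (r + 1) := by ring
      rw [h2, Nat.add_sub_cancel_left]
      ring
    rw [h1]
    exact (Nat.dvd_add_right (Dvd.dvd.mul_right hd1 _)).2 hd3
  obtain ⟨s, hs⟩ := hd3
  have hdk3 : 3 * ((q + 1) / d) = (q + 1) * s := by
    conv_lhs => rw [hs]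
    rw [show d * s * ((q + 1) / d) = (d * ((q + 1) / d)) * s by ring, Nat.mul_div_cancel' hd1]
  set N := (mat g).map (algebraMap F K) with hN
  obtain ⟨a, b, c, hchar⟩ := exists_roots N
  have hdet : a * b * c = 1 := by
    rw [← det_eq hchar, hN]
    have h1 : ((mat g).map (algebraMap F K)).det = algebraMap F K (mat g).det := by
      rw [← RingHom.mapMatrix_apply, ← RingHom.map_det]
    rw [h1, mat_det, map_one]
  have hroot : ∀ x, N.charpoly.eval x = 0 ↔ x = a ∨ x = b ∨ x = c := by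
    intro x
    rw [hchar]
    simp only [eval_mul, eval_sub, eval_X, eval_C, mul_eq_zero, sub_eq_zero]
    (clear * -; tauto)
  have hinv : ∀ x, (x = a ∨ x = b ∨ x = c) → x ≠ 0 ∧ (x ^ q * a = 1 ∨ x ^ q * b = 1 ∨ x ^ q * c = 1) := by
    intro x hx
    obtain ⟨h1, h2⟩ := root_inv hF (mat_unit g (by omega)) ((hroot x).2 hx)
    refine ⟨h1, ?_⟩
    have h3 : ∀ y, (x ^ q)⁻¹ = y → x ^ q * y = 1 := by
      rintro y rfl
      exact mul_inv_cancel₀ (pow_ne_zero _ h1)
    rcases (hroot _).1 h2 with h | h | h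
    · exact Or.inl (h3 _ h)
    · exact Or.inr (Or.inl (h3 _ h))
    · exact Or.inr (Or.inr (h3 _ h))
  obtain ⟨ha0, ha⟩ := hinv a (Or.inl rfl)
  obtain ⟨hb0, hb⟩ := hinv b (Or.inr (Or.inl rfl))
  obtain ⟨hc0, hc⟩ := hinv c (Or.inr (Or.inr rfl))
  -- descent
  have hfin : ∀ (k : ℕ) (e : K), N ^ k = e • 1 → orderOf (QuotientGroup.mk g : Cfsg.PSU 3 F q) ∣ k := by
    intro k e he
    apply orderOf_dvd_of_pow_eq_one
    apply psu_pow_eq_one
    apply scalar_descend (K := K) (e := e)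
    rw [← he, hN, ← RingHom.mapMatrix_apply, ← RingHom.mapMatrix_apply, map_pow]
  -- injectivity of the power map
  have hinj : ∀ {x y z : K}, x ^ q * z = 1 → y ^ q * z = 1 → x = y := by
    intro x y z h1 h2
    apply σ.injective
    rw [hσ, hσ, eq_inv_of_mul_eq_one_left h1, eq_inv_of_mul_eq_one_left h2]
  have hchar2 : N.charpoly = (X - C b) * (X - C c) * (X - C a) := by rw [hchar]; ring
  have hchar3 : N.charpoly = (X - C a) * (X - C c) * (X - C b) := by rw [hchar]; ring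
  by_cases hab : a = b
  · subst hab
    right; left
    have h1 := case_repeated σ hσ ha0 hdk3 hdet (by (clear * - hb; tauto)) (by (clear * - hc; tauto))
    exact hfin _ _ (pow_scalar_sq p hchar rfl h1)
  by_cases hbc : b = c
  · subst hbc
    right; left
    have h1 := case_repeated (a := b) (c := a) σ hσ hb0 hdk3 (by rw [← hdet]; ring) (by (clear * - hc; tauto)) (by (clear * - ha; tauto))
    exact hfin _ _ (pow_scalar_sq p hchar2 rfl h1)
  by_cases hac : a = c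
  · subst hac
    right; left
    have h1 := case_repeated (a := a) (c := b) σ hσ ha0 hdk3 (by rw [← hdet]; ring) (by (clear * - hc; tauto)) (by (clear * - hb; tauto))
    exact hfin _ _ (pow_scalar_sq p hchar3 rfl h1)
  -- distinct eigenvalues
  have hD := fun k h1 h2 => pow_scalar_of_distinct (k := k) hchar hab hbc hac h1 h2
  rcases ha with ha | ha | ha
  · rcases hb with hb | hb | hb
    · exact absurd (hinj ha hb) hab
    · rcases hc with hc | hc | hc
      · exact absurd (hinj ha hc) hac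
      · exact absurd (hinj hb hc) hbc
      · -- all of norm one
        left
        apply hfin _ (c ^ (q + 1))
        apply hD
        · rw [pow_succ, ha, pow_succ, hb]
        · rw [pow_succ, hb, pow_succ, hc]
    · rcases hc with hc | hc | hc
      · exact absurd (hinj ha hc) hac
      · -- `(b c)`
        right; right; left
        obtain ⟨h1, h2⟩ := case_transp (a := b) (b := c) (c := a) hb0 hq2 hdk1 hd1 hd2 (by rw [← hdet]; ring) hb hc
        exact hfin _ _ (hD _ (h1.trans h2).symm h1)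
      · exact absurd (hinj hb hc) hbc
  · rcases hb with hb | hb | hb
    · rcases hc with hc | hc | hc
      · exact absurd (hinj hb hc) hbc
      · exact absurd (hinj ha hc) hac
      · -- `(a b)`
        right; right; left
        obtain ⟨h1, h2⟩ := case_transp (a := a) (b := b) (c := c) ha0 hq2 hdk1 hd1 hd2 hdet ha hb
        exact hfin _ _ (hD _ h1 h2)
    · exact absurd (hinj ha hb) hab
    · rcases hc with hc | hc | hc
      · -- `a → b → c → a`
        right; right; right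
        obtain ⟨h1, h2⟩ := case_cycle (a := a) (b := b) (c := c) ha0 hq2 hdk2 hd1 hdet ha hb
        exact hfin _ _ (hD _ h1 h2)
      · exact absurd (hinj ha hc) hac
      · exact absurd (hinj hb hc) hbc
  · rcases hb with hb | hb | hb
    · rcases hc with hc | hc | hc
      · exact absurd (hinj hb hc) hbc
      · -- `a → c → b → a`
        right; right; right
        obtain ⟨h1, h2⟩ := case_cycle (a := a) (b := c) (c := b) ha0 hq2 hdk2 hd1 (by rw [← hdet]; ring) ha hc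
        exact hfin _ _ (hD _ (h1.trans h2) h2.symm)
      · exact absurd (hinj ha hc) hac
    · rcases hc with hc | hc | hc
      · -- `(a c)`
        right; right; left
        obtain ⟨h1, h2⟩ := case_transp (a := a) (b := c) (c := b) ha0 hq2 hdk1 hd1 hd2 (by rw [← hdet]; ring) ha hc
        exact hfin _ _ (hD _ (h1.trans h2) h2.symm)
      · exact absurd (hinj hb hc) hbc
      · exact absurd (hinj ha hc) hac
    · exact absurd (hinj ha hb) hab

end Cfsg.Agent.R2.Spec.X4.H10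
end

-- part: R2/Spec/X4/H10/L3Fac
section
/-!
# X4, `S = L₃(u)`, `U₃(u)` : the facts about the element orders (helper10)
-/

set_option autoImplicit false
set_option linter.unusedSectionVars false
set_option linter.unusedVariables false

namespace Cfsg.Agent.R2.Spec.X4.H10

open Subgroup Cfsg
open Cfsg.Agent.H426.LieFam Cfsg.Agent.R2.Spec Cfsg.Agent.R2.Spec.P1 Cfsg.Agent.R2.Spec.F1

universe u

/-- the facts about `L₃(u)`, `U₃(u)`; `U = u`, `-u` -/
structure T3F (S : Type u) [Group S] (v u : ℕ) (U : ℤ) (c T1 T2 : ℕ) : Prop where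
  hU : U = u ∨ U = -u
  hU2 : U ≠ -2
  hc : c = 1 ∨ c = 3
  e1 : (c : ℤ) * T1 = U ^ 2 + U + 1
  e2 : (c : ℤ) * T2 = U ^ 2 - 1
  cas : ∀ x : S, orderOf x ∣ T1 ∨ orderOf x ∣ T2 ∨ orderOf x ∣ v ^ 2 * (U - 1).natAbs
  ex1 : ∃ x : S, orderOf x = T1
  ex2 : ∃ x : S, orderOf x = T2
  unip : v ≠ 2 → ¬ ∃ x : S, orderOf x = v ^ 2
  adjv : ∀ w : ℕ, w.Prime → 5 ≤ w → w ≠ v → w ∣ (U - 1).natAbs → ∃ x : S, orderOf x = w * v
  adj2 : v ≠ 2 → ∃ x : S, orderOf x = 2 * v
  cardv : v ^ 2 ∣ Nat.card S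
  cardu : U = -u → ∀ w a : ℕ, w.Prime → 5 ≤ w → w ^ a ∣ u + 1 → w ^ (2 * a) ∣ Nat.card S

theorem gcd3_cases (m : ℕ) : Nat.gcd 3 m = 1 ∨ Nat.gcd 3 m = 3 :=
  (Nat.dvd_prime Nat.prime_three).1 (Nat.gcd_dvd_left 3 m)

theorem t3f_psl {v f : ℕ} {S : Type u} [Group S] (hv : v.Prime) (hI : Fam.Is v f S (.psl 3)) :
    T3F S v (v ^ f) ((v ^ f : ℕ) : ℤ) (Nat.gcd 3 (v ^ f - 1)) (((v ^ f) ^ 2 + v ^ f + 1) / Nat.gcd 3 (v ^ f - 1))
      (((v ^ f) ^ 2 - 1) / Nat.gcd 3 (v ^ f - 1)) := by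
  have hf : f ≠ 0 := H4.is_f_ne (t := .psl 3) trivial hI
  obtain ⟨-, -, F, _, _, hch, hF, ⟨e⟩⟩ := hI
  have := Fact.mk hv
  have hspec := S2476.result (F := F) v
  rw [hF] at hspec
  have hu2 : 2 ≤ v ^ f := hv.two_le.trans (Nat.le_self_pow hf v)
  have hvu : v ∣ v ^ f := dvd_pow_self v hf
  set q := v ^ f with hq
  set d := Nat.gcd 3 (q - 1) with hd
  have hd3 : d ∣ 3 := Nat.gcd_dvd_left _ _
  have hdq : d ∣ q - 1 := Nat.gcd_dvd_right _ _
  have hd13 := gcd3_cases (q - 1)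
  rw [← hd] at hd13
  have hq21 : q ^ 2 - 1 = (q - 1) * (q + 1) := by
    obtain ⟨k, hk⟩ : ∃ k, q = k + 1 := ⟨q - 1, by omega⟩
    rw [hk, Nat.add_sub_cancel, show (k + 1) ^ 2 = k * (k + 1 + 1) + 1 by ring, Nat.add_sub_cancel]
  have hd1 : d ∣ q ^ 2 + q + 1 := by
    obtain ⟨k, hk⟩ : ∃ k, q = k + 1 := ⟨q - 1, by omega⟩
    rw [hk, Nat.add_sub_cancel] at hdq
    rw [hk, show (k + 1) ^ 2 + (k + 1) + 1 = k * (k + 3) + 3 by ring]
    exact dvd_add (hdq.mul_right _) hd3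
  have hd2 : d ∣ q ^ 2 - 1 := by rw [hq21]; exact hdq.mul_right _
  have mem : ∀ m : ℕ, (∃ x : S, orderOf x = m) ↔
      (m ∣ (q ^ 2 + q + 1) / d ∨ m ∣ (q ^ 2 - 1) / d ∨ m ∣ q - 1 ∨ m ∣ v * (q - 1) / d ∨ (v = 2 ∧ m ∣ 4)) := fun m => by
    have h1 := Set.ext_iff.1 hspec m
    constructor
    · rintro ⟨x, hx⟩
      exact h1.1 ⟨e x, by rw [MulEquiv.orderOf_eq, hx]⟩
    · intro h2
      obtain ⟨y, hy⟩ := h1.2 h2
      exact ⟨e.symm y, by rw [MulEquiv.orderOf_eq, hy]⟩
  have hN : ((q : ℤ) - 1).natAbs = q - 1 := by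
    rw [show ((q : ℤ) - 1) = ((q - 1 : ℕ) : ℤ) by rw [Nat.cast_sub (by omega)]; rfl, Int.natAbs_natCast]
  have hdpos : 0 < d := by omega
  have hvq : ¬ v ∣ q - 1 := by
    intro h1
    have h2 : v ∣ 1 := by
      have h3 := Nat.dvd_sub hvu h1
      rwa [show q - (q - 1) = 1 by omega] at h3
    exact hv.one_lt.ne' (Nat.dvd_one.1 h2)
  have hpd : v * (q - 1) / d = v * ((q - 1) / d) := Nat.mul_div_assoc _ hdq
  refine ⟨Or.inl rfl, by omega, hd13, ?_, ?_, ?_, ?_, ?_, ?_, ?_, ?_, ?_, ?_⟩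
  · have h1 := Nat.mul_div_cancel' hd1
    exact_mod_cast h1
  · have h1 := Nat.mul_div_cancel' hd2
    have h2 : ((q ^ 2 - 1 : ℕ) : ℤ) = (q : ℤ) ^ 2 - 1 := by
      rw [Nat.cast_sub (Nat.one_le_pow _ _ (by omega))]; push_cast; rfl
    rw [← h2]
    exact_mod_cast h1
  · intro x
    rw [hN]
    rcases (mem (orderOf x)).1 ⟨x, rfl⟩ with h | h | h | h | h
    · exact Or.inl h
    · exact Or.inr (Or.inl h)
    · exact Or.inr (Or.inr (h.mul_left _))
    · right; right
      rw [hpd] at h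
      exact h.trans (mul_dvd_mul (dvd_pow_self v (by norm_num)) (Nat.div_dvd_of_dvd hdq))
    · right; right
      rw [h.1]
      exact (h.2.trans (by norm_num)).mul_right _
  · exact (mem _).2 (Or.inl dvd_rfl)
  · exact (mem _).2 (Or.inr (Or.inl dvd_rfl))
  · intro hv2 hx
    have hvv : v ∣ v ^ 2 := dvd_pow_self v (by norm_num)
    have hv3 : v ≠ 3 → ¬ v ∣ 3 := fun h h' => h ((Nat.prime_dvd_prime_iff_eq hv Nat.prime_three).1 h')
    have hno : ¬ v ∣ q ^ 2 + q + 1 := by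
      intro h1
      have h2 : v ∣ 1 := (Nat.dvd_add_right (dvd_add (hvu.trans (dvd_pow_self q (by norm_num))) hvu)).1 h1
      exact hv.one_lt.ne' (Nat.dvd_one.1 h2)
    have hno2 : ¬ v ∣ q ^ 2 - 1 := by
      intro h1
      have h3 : v ∣ q ^ 2 := hvu.trans (dvd_pow_self q (by norm_num))
      have h4 := Nat.dvd_sub h3 h1
      have h5 : 1 ≤ q ^ 2 := Nat.one_le_pow _ _ (by omega)
      rw [show q ^ 2 - (q ^ 2 - 1) = 1 by (clear * - h5; omega)] at h4
      exact hv.one_lt.ne' (Nat.dvd_one.1 h4)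
    rcases (mem _).1 hx with h | h | h | h | h
    · exact hno ((hvv.trans h).trans (Nat.div_dvd_of_dvd hd1))
    · exact hno2 ((hvv.trans h).trans (Nat.div_dvd_of_dvd hd2))
    · exact hvq (hvv.trans h)
    · rw [hpd, sq] at h
      exact hvq ((Nat.dvd_of_mul_dvd_mul_left hv.pos h).trans (Nat.div_dvd_of_dvd hdq))
    · exact hv2 h.1
  · intro w hw hw5 hwv hwq
    rw [hN] at hwq
    refine (mem _).2 (Or.inr (Or.inr (Or.inr (Or.inl ?_))))
    rw [hpd, mul_comm]
    refine Nat.mul_dvd_mul_left v ?_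
    have h1 : w ∣ d * ((q - 1) / d) := by rw [Nat.mul_div_cancel' hdq]; exact hwq
    rcases hw.dvd_mul.1 h1 with h2 | h2
    · have := Nat.le_of_dvd hdpos h2
      omega
    · exact h2
  · intro hv2
    refine (mem _).2 (Or.inr (Or.inr (Or.inr (Or.inl ?_))))
    rw [hpd, mul_comm]
    refine Nat.mul_dvd_mul_left v ?_
    have hodd : q % 2 = 1 := Nat.odd_iff.1 ((hv.odd_of_ne_two hv2).pow)
    have h1 : 2 ∣ d * ((q - 1) / d) := by rw [Nat.mul_div_cancel' hdq]; omega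
    rcases Nat.prime_two.dvd_mul.1 h1 with h2 | h2
    · (clear * - hu2 hd13 hv2 hodd h2; omega)
    · exact h2
  · have h1 := Cfsg.Agent.H363.PslThree.card_psl_three (F := F)
    rw [hF, ← Nat.card_congr e.toEquiv, ← hd] at h1
    have h2 : v ^ 3 ∣ d * Nat.card S := by
      rw [h1]; exact (pow_dvd_pow_of_dvd hvu 3).mul_right _
    have h3 : Nat.Coprime (v ^ 3) d := by
      apply Nat.Coprime.pow_left
      rw [hv.coprime_iff_not_dvd]
      intro h4
      exact hvq (h4.trans hdq)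
    exact (pow_dvd_pow v (by norm_num)).trans (h3.dvd_of_dvd_mul_left h2)
  · intro h1
    omega

theorem t3f_psu {v f : ℕ} {S : Type u} [Group S] (hv : v.Prime) (hI : Fam.Is v f S (.psu 3)) :
    T3F S v (v ^ f) (-((v ^ f : ℕ) : ℤ)) (Nat.gcd 3 (v ^ f + 1)) (((v ^ f) ^ 2 - v ^ f + 1) / Nat.gcd 3 (v ^ f + 1))
      (((v ^ f) ^ 2 - 1) / Nat.gcd 3 (v ^ f + 1)) := by
  have hf : f ≠ 0 := H4.is_f_ne (t := .psu 3) trivial hI
  obtain ⟨-, hne2, F, _, _, hch, hF, ⟨e⟩⟩ := hI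
  have := Fact.mk hv
  have hup := fun g => order_dvd_sq (F := F) v (v ^ f) hF g
  have hex1 := Cfsg.Agent.H127.PSUThreeEx.ex_one hF
  have hex2 := Cfsg.Agent.H127.PSUThreeEx.ex_two v hF
  have hex3 := Cfsg.Agent.H127.PSUThreeEx.ex_three hF
  have hex4 := Cfsg.Agent.H127.PSUThreeEx.ex_four v hF
  have hspec := fun hp => S2366.result (F := F) v hp (v ^ f) hF
  have hu2 : 2 ≤ v ^ f := hv.two_le.trans (Nat.le_self_pow hf v)
  have hvu : v ∣ v ^ f := dvd_pow_self v hf
  have hcardF := Cfsg.Agent.H277.ClsPsu.card_psu hF (n := 3) le_rfl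
  rw [← Nat.card_congr e.toEquiv] at hcardF
  set q := v ^ f with hq
  set d := Nat.gcd 3 (q + 1) with hd
  have hd3 : d ∣ 3 := Nat.gcd_dvd_left _ _
  have hdq : d ∣ q + 1 := Nat.gcd_dvd_right _ _
  have hd13 := gcd3_cases (q + 1)
  rw [← hd] at hd13
  have hq21 : q ^ 2 - 1 = (q + 1) * (q - 1) := by
    obtain ⟨k, hk⟩ : ∃ k, q = k + 1 := ⟨q - 1, by omega⟩
    rw [hk, Nat.add_sub_cancel, show (k + 1) ^ 2 = (k + 1 + 1) * k + 1 by ring, Nat.add_sub_cancel]
  have hd1 : d ∣ q ^ 2 - q + 1 := by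
    obtain ⟨k, hk⟩ : ∃ k, q = k + 2 := ⟨q - 2, by omega⟩
    rw [hk] at hdq
    have h1 : q ^ 2 - q + 1 = (k + 2 + 1) * k + 3 := by
      rw [hk, show (k + 2) ^ 2 = (k + 2) + ((k + 2 + 1) * k + 2) by ring, Nat.add_sub_cancel_left]
    rw [h1]
    exact dvd_add (hdq.mul_right _) hd3
  have hd2 : d ∣ q ^ 2 - 1 := by rw [hq21]; exact hdq.mul_right _
  have exS : ∀ {m : ℕ}, (∃ z : Cfsg.PSU 3 F q, orderOf z = m) → ∃ x : S, orderOf x = m := by
    rintro m ⟨z, hz⟩
    exact ⟨e.symm z, by rw [MulEquiv.orderOf_eq, hz]⟩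
  have hN : (-(q : ℤ) - 1).natAbs = q + 1 := by
    rw [show (-(q : ℤ) - 1) = -((q + 1 : ℕ) : ℤ) by push_cast; ring, Int.natAbs_neg, Int.natAbs_natCast]
  have hdpos : 0 < d := by omega
  have hvq : ¬ v ∣ q + 1 := by
    intro h1
    have h2 : v ∣ 1 := (Nat.dvd_add_right hvu).1 h1
    exact hv.one_lt.ne' (Nat.dvd_one.1 h2)
  have hpd : v * (q + 1) / d = v * ((q + 1) / d) := Nat.mul_div_assoc _ hdq
  have hqq : q ≤ q ^ 2 := Nat.le_self_pow two_ne_zero q
  have c1 : ((q ^ 2 - 1 : ℕ) : ℤ) = (q : ℤ) ^ 2 - 1 := by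
    rw [Nat.cast_sub (Nat.one_le_pow _ _ (by omega))]; push_cast; rfl
  have c2 : ((q ^ 2 - q + 1 : ℕ) : ℤ) = (q : ℤ) ^ 2 - q + 1 := by
    push_cast [Nat.cast_sub hqq]; ring
  have hno : ¬ v ∣ q ^ 2 - q + 1 := by
    intro h1
    have h2 : v ∣ q ^ 2 - q := Nat.dvd_sub (hvu.trans (dvd_pow_self q (by norm_num))) hvu
    have h3 : v ∣ 1 := (Nat.dvd_add_right h2).1 h1
    exact hv.one_lt.ne' (Nat.dvd_one.1 h3)
  have hno2 : ¬ v ∣ q ^ 2 - 1 := by
    intro h1
    have h3 : v ∣ q ^ 2 := hvu.trans (dvd_pow_self q (by norm_num))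
    have h4 := Nat.dvd_sub h3 h1
    have h5 : 1 ≤ q ^ 2 := Nat.one_le_pow _ _ (by omega)
    rw [show q ^ 2 - (q ^ 2 - 1) = 1 by (clear * - hqq c1 c2; omega)] at h4
    exact hv.one_lt.ne' (Nat.dvd_one.1 h4)
  refine ⟨Or.inr rfl, ?_, hd13, ?_, ?_, ?_, ?_, ?_, ?_, ?_, ?_, ?_, ?_⟩
  · intro h1
    exact hne2 ⟨rfl, by omega⟩
  · have h1 := Nat.mul_div_cancel' hd1
    have h2 : ((d * ((q ^ 2 - q + 1) / d) : ℕ) : ℤ) = ((q ^ 2 - q + 1 : ℕ) : ℤ) := by rw [h1]
    rw [c2] at h2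
    push_cast at h2 ⊢
    linarith only [h2]
  · have h1 := Nat.mul_div_cancel' hd2
    have h2 : ((d * ((q ^ 2 - 1) / d) : ℕ) : ℤ) = ((q ^ 2 - 1 : ℕ) : ℤ) := by rw [h1]
    rw [c1] at h2
    rw [neg_sq, ← h2]
    exact (Nat.cast_mul d ((q ^ 2 - 1) / d)).symm
  · intro x
    rw [hN]
    obtain ⟨g, hg⟩ := QuotientGroup.mk_surjective (e x)
    have h1 := hup g
    have h2 : orderOf (QuotientGroup.mk g : Cfsg.PSU 3 F q) = orderOf x := by
      rw [hg]; exact MulEquiv.orderOf_eq e x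
    rw [h2] at h1
    rcases h1 with h | h | h | h
    · exact Or.inr (Or.inr (h.mul_left _))
    · right; right
      rw [mul_comm]
      exact h.trans (mul_dvd_mul (Nat.div_dvd_of_dvd hdq) dvd_rfl)
    · exact Or.inr (Or.inl h)
    · exact Or.inl h
  · exact exS (hex4 _ dvd_rfl)
  · exact exS (hex3 _ dvd_rfl)
  · rintro hv2 ⟨x, hx⟩
    have hvv : v ∣ v ^ 2 := dvd_pow_self v (by norm_num)
    have h1 := Set.ext_iff.1 (hspec hv2) (v ^ 2)
    have h2 := h1.1 ⟨e x, by rw [MulEquiv.orderOf_eq, hx]⟩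
    simp only [Set.mem_union, Set.mem_setOf_eq] at h2
    rcases h2 with ((h | h) | h) | h
    · exact hvq (hvv.trans h)
    · rw [hpd, sq] at h
      exact hvq ((Nat.dvd_of_mul_dvd_mul_left hv.pos h).trans (Nat.div_dvd_of_dvd hdq))
    · exact hno2 ((hvv.trans h).trans (Nat.div_dvd_of_dvd hd2))
    · exact hno ((hvv.trans h).trans (Nat.div_dvd_of_dvd hd1))
  · intro w hw hw5 hwv hwq
    rw [hN] at hwq
    refine exS (hex2 _ ?_)
    rw [hpd, mul_comm]
    refine Nat.mul_dvd_mul_left v ?_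
    have h1 : w ∣ d * ((q + 1) / d) := by rw [Nat.mul_div_cancel' hdq]; exact hwq
    rcases hw.dvd_mul.1 h1 with h2 | h2
    · have := Nat.le_of_dvd hdpos h2
      (clear * - hd13 hw5 this; omega)
    · exact h2
  · intro hv2
    refine exS (hex2 _ ?_)
    rw [hpd, mul_comm]
    refine Nat.mul_dvd_mul_left v ?_
    have hodd : q % 2 = 1 := Nat.odd_iff.1 ((hv.odd_of_ne_two hv2).pow)
    have h1 : 2 ∣ d * ((q + 1) / d) := by rw [Nat.mul_div_cancel' hdq]; (clear * - hodd; omega)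
    rcases Nat.prime_two.dvd_mul.1 h1 with h2 | h2
    · (clear * - hd13 h2; omega)
    · exact h2
  · have h2 : v ^ 3 ∣ d * Nat.card S := by
      rw [hcardF]; exact (pow_dvd_pow_of_dvd hvu 3).mul_right _
    have h3 : Nat.Coprime (v ^ 3) d := by
      apply Nat.Coprime.pow_left
      rw [hv.coprime_iff_not_dvd]
      intro h4
      exact hvq (h4.trans hdq)
    exact (pow_dvd_pow v (by norm_num)).trans (h3.dvd_of_dvd_mul_left h2)
  · intro _ w a hw hw5 hwa
    have h2 : w ^ (2 * a) ∣ d * Nat.card S := by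
      rw [hcardF, Finset.prod_range_succ, Finset.prod_range_succ, Finset.prod_range_zero, if_pos (by decide),
        if_neg (by decide), one_mul]
      refine Dvd.dvd.mul_left ?_ _
      rw [two_mul, pow_add]
      refine mul_dvd_mul (hwa.trans ?_) (hwa.trans ?_)
      · rw [zero_add, hq21]; exact dvd_mul_right _ _
      · have h4 : q ^ (1 + 2) + 1 = (q + 1) * (q ^ 2 - q + 1) := by
          zify [hqq]
          ring
        rw [h4]; exact dvd_mul_right _ _
    have h3 : Nat.Coprime (w ^ (2 * a)) d := by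
      apply Nat.Coprime.pow_left
      rw [hw.coprime_iff_not_dvd]
      intro h4
      have := Nat.le_of_dvd hdpos h4
      (clear * - hd13 hw5 this; omega)
    exact h3.dvd_of_dvd_mul_left h2

end Cfsg.Agent.R2.Spec.X4.H10
end
end

-- part: R2/Spec/X4/H10/L3Row
section
prune_inst 0x40520240448c000080000801612002004040005b000200001f8200546010ed32089c0a94048201d06020e12011001000000100070404000000e003000000300208028100001500104060087800086400000000000000000000000000000041004000000000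
set_option linter.all false
open scoped Cfsg.Agent.FastGrp

-- part: R2/Spec/X4/H10/L3Num
section
/-!
# X4, `S = L₃(u)`, `U₃(u)` : numbers (helper10)
-/

set_option autoImplicit false
set_option linter.unusedVariables false

namespace Cfsg.Agent.R2.Spec.X4.H10

/-- the Singer torus -/
def t1 (e : Bool) (u : ℕ) : ℕ :=
  if e then (u ^ 2 + u + 1) / Nat.gcd 3 (u - 1) else (u ^ 2 - u + 1) / Nat.gcd 3 (u + 1)

/-- the other torus -/
def t2 (e : Bool) (u : ℕ) : ℕ := if e then (u ^ 2 - 1) / Nat.gcd 3 (u - 1) else (u ^ 2 - 1) / Nat.gcd 3 (u + 1)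

/-- the check for one `u` -/
def ok3 (e : Bool) (A B k k' u : ℕ) : Bool :=
  (!(t1 e u % k == 0) || !(A % t1 e u == 0) || (!(B % t2 e u == 0) && !(u % k' == 0))) &&
  (!(t1 e u % k' == 0) || !(B % t1 e u == 0) || !(A % t2 e u == 0))

/-- the check -/
def chk3 : Bool :=
  H4.tab.all fun x => (List.range 430).all fun u => u < 2 ||
    (ok3 true x.2.1 x.2.2.1 x.2.2.2.1 x.2.2.2.2 u && ok3 false x.2.1 x.2.2.1 x.2.2.2.1 x.2.2.2.2 u)

theorem chk3_true : chk3 = true := by decide +kernel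

theorem small3 {q k A k' B : ℕ} (h : Side q k A k' B) (hq : 7 ≤ q) (hq' : q < 50) {e : Bool} {u : ℕ} (hu : 2 ≤ u)
    (hu' : u < 430) : (k ∣ t1 e u → t1 e u ∣ A → ¬ t2 e u ∣ B ∧ ¬ k' ∣ u) ∧
      (k' ∣ t1 e u → t1 e u ∣ B → ¬ t2 e u ∣ A) := by
  have hc := chk3_true
  rw [chk3, List.all_eq_true] at hc
  have h1 := hc _ (H4.mem_tab h hq hq')
  rw [List.all_eq_true] at h1
  have h2 := h1 u (List.mem_range.2 hu')
  simp only [Bool.or_eq_true, decide_eq_true_eq, Bool.and_eq_true] at h2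
  rcases h2 with h2 | ⟨h2, h3⟩
  · omega
  · have h4 : ok3 e A B k k' u = true := by cases e <;> assumption
    rw [ok3] at h4
    simp only [Bool.and_eq_true, Bool.or_eq_true, Bool.not_eq_true', beq_eq_false_iff_ne, ne_eq,
      ← Nat.dvd_iff_mod_eq_zero] at h4
    obtain ⟨h5, h6⟩ := h4
    refine ⟨fun a b => ?_, fun a b => ?_⟩
    · rcases h5 with (h5 | h5) | h5
      · exact absurd a h5
      · exact absurd b h5
      · exact h5
    · rcases h6 with (h6 | h6) | h6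
      · exact absurd a h6
      · exact absurd b h6
      · exact h6

theorem n1core {U q c T1 T2 h1 h2 X1 X2 σ : ℤ} (hq : 50 ≤ q) (hc : c = 1 ∨ c = 3) (e1 : c * T1 = U ^ 2 + U + 1)
    (e2 : c * T2 = U ^ 2 - 1) (hX1 : h1 * T1 = X1) (hX2 : h2 * T2 = X2) (hσ : X1 - X2 = σ) (hσ' : σ = 1 ∨ σ = -1)
    (hT : q ^ 2 - q + 1 ≤ 3 * T1) (hb : 2 * X1 ≤ q ^ 3 + 1) (h10 : 0 < h1) :
    c = 3 ∧ ((0 < U ∧ h1 = U - 2 ∧ h2 = U - 1 ∧ σ = -1) ∨ (U < 0 ∧ h1 = 2 - U ∧ h2 = 1 - U ∧ σ = 1)) := by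
  obtain ⟨c', hc'⟩ : ∃ c', c' = h2 - h1 := ⟨_, rfl⟩
  obtain ⟨w, hw⟩ : ∃ w, w = h1 - c' * (U - 2) := ⟨_, rfl⟩
  have hT1 : 817 ≤ T1 := by nlinarith only [hq, hT]
  have hcT : T1 ≤ c * T1 := by rcases hc with rfl | rfl <;> omega
  have hdiff : h1 * (U ^ 2 + U + 1) - h2 * (U ^ 2 - 1) = c * σ := by
    rw [← e1, ← e2, ← hσ, ← hX1, ← hX2]; ring
  have eq1 : c' * (U ^ 2 - 1) = h1 * (U + 2) - σ * c := by
    rw [hc']; linear_combination -hdiff
  have eq2 : 3 * c' + σ * c = (U + 2) * w := by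
    rw [hw]; linear_combination eq1
  -- bounds
  obtain ⟨n, hn⟩ : ∃ n, n = |U| := ⟨_, rfl⟩
  have hn0 : 0 ≤ n := by rw [hn]; exact abs_nonneg _
  have hn2 : n ^ 2 = U ^ 2 := by rw [hn, sq_abs]
  have hUn : U ≤ n := by rw [hn]; exact le_abs_self _
  have hUn' : -n ≤ U := by rw [hn]; exact neg_abs_le _
  have hn28 : 28 ≤ n := by
    by_contra hcon
    have h3 : n ≤ 27 := by omega
    have h4 : n ^ 2 ≤ 27 ^ 2 := pow_le_pow_left₀ hn0 h3 2
    omega
  have hqn : q ≤ 2 * n + 1 := by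
    by_contra hcon
    have h3 : 2 * n + 2 ≤ q := by omega
    have h4 : (2 * n + 2) * (2 * n + 1) ≤ q * (q - 1) := mul_le_mul h3 (by omega) (by omega) (by omega)
    linarith only [e1, hT, hT1, hcT, hn2, hUn, hn28, h4]
  have hh1 : 2 * h1 ≤ 3 * (q + 1) := by
    by_contra hcon
    rw [not_le] at hcon
    have h3 : h1 * (q ^ 2 - q + 1) ≤ h1 * (3 * T1) := mul_le_mul_of_nonneg_left hT h10.le
    have h4 : (3 * (q + 1) + 1) * (q ^ 2 - q + 1) ≤ 2 * h1 * (q ^ 2 - q + 1) :=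
      mul_le_mul_of_nonneg_right (by omega) (by nlinarith only [])
    nlinarith only [hq, hX1, hb, h3, h4]
  have hh1' : h1 ≤ 3 * n + 3 := by omega
  have hc3 : 1 ≤ c ∧ c ≤ 3 := by rcases hc with rfl | rfl <;> norm_num
  have hσc : |σ * c| ≤ 3 := by
    rw [abs_mul]
    have : |σ| = 1 := by rcases hσ' with rfl | rfl <;> norm_num
    rw [this, one_mul, abs_of_pos (by omega)]
    exact hc3.2
  have hU2 : |U + 2| ≤ n + 2 := by
    rw [hn]
    calc |U + 2| ≤ |U| + |2| := abs_add_le _ _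
      _ = _ := by norm_num
  have hU2' : n - 2 ≤ |U + 2| := by
    have h3 : |U| ≤ |U + 2| + |(-2 : ℤ)| := by
      calc |U| = |(U + 2) + (-2)| := by ring_nf
        _ ≤ _ := abs_add_le _ _
    rw [← hn] at h3
    norm_num at h3
    omega
  by_cases hw0 : w = 0
  · rw [hw0, mul_zero] at eq2
    rw [hw0] at hw
    have h3 : h1 = c' * (U - 2) := by omega
    rcases hc with rfl | rfl
    · exfalso
      rcases hσ' with rfl | rfl <;> omega
    · refine ⟨rfl, ?_⟩
      have h4 : c' = -σ := by omega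
      rw [h4] at h3
      rcases hσ' with rfl | rfl
      · right
        refine ⟨?_, by (clear * - h3; omega), by (clear * - hc' h3 eq2; omega), rfl⟩
        by_contra hcon
        rw [hn, abs_of_nonneg (by (clear * - hcon; omega))] at hn28
        omega
      · left
        refine ⟨?_, by (clear * - h3; omega), by (clear * - hc' h3 eq2; omega), rfl⟩
        by_contra hcon
        omega
  · exfalso
    have h3 : |U + 2| ≤ 3 * |c'| + 3 := by
      have h4 : 1 ≤ |w| := Int.one_le_abs hw0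
      have h5 : |U + 2| * |w| = |3 * c' + σ * c| := by rw [← abs_mul, eq2]
      have h6 : |3 * c' + σ * c| ≤ |3 * c'| + |σ * c| := abs_add_le _ _
      have h7 : |3 * c'| = 3 * |c'| := by rw [abs_mul]; norm_num
      have h8 : |U + 2| ≤ |U + 2| * |w| := le_mul_of_one_le_right (abs_nonneg _) h4
      omega
    have h4 : |c'| * (n ^ 2 - 1) ≤ (3 * n + 3) * (n + 2) + 3 := by
      have h5 : |c'| * (n ^ 2 - 1) = |c' * (U ^ 2 - 1)| := by
        rw [abs_mul, hn2, abs_of_nonneg (a := U ^ 2 - 1) (by nlinarith only [e1, hT1, hcT])]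
      rw [h5, eq1]
      calc |h1 * (U + 2) - σ * c| ≤ |h1 * (U + 2)| + |σ * c| := abs_sub _ _
        _ ≤ _ := by
          rw [abs_mul, abs_of_pos h10]
          have : h1 * |U + 2| ≤ (3 * n + 3) * (n + 2) := mul_le_mul hh1' hU2 (abs_nonneg _) (by omega)
          omega
    have h5 : |c'| ≤ 3 := by
      by_contra hcon
      rw [not_le] at hcon
      have h6 : 4 * (n ^ 2 - 1) ≤ |c'| * (n ^ 2 - 1) := mul_le_mul_of_nonneg_right (by omega) (by nlinarith only [e1, hT1, hcT, hn2])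
      nlinarith only [hn28, h4, h6]
    omega

theorem spPos {u q : ℤ} (hq : 7 ≤ q) (hu : 3 ≤ u) (hE : 2 * ((u - 1) * (u ^ 2 - 1)) = 3 * (q ^ 3 + 1))
    (hκ : (q ^ 2 - q + 1) ∣ u ^ 2 - 1) : False := by
  obtain ⟨c, hc⟩ := hκ
  have hw : 0 < q ^ 2 - q + 1 := by nlinarith only []
  have h1 : 2 * (u - 1) * c = 3 * (q + 1) := by
    have h2 : (q ^ 2 - q + 1) * (2 * (u - 1) * c) = (q ^ 2 - q + 1) * (3 * (q + 1)) := by
      rw [hc] at hE
      linear_combination hE
    exact mul_left_cancel₀ hw.ne' h2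
  have hc0 : 0 < c := by
    by_contra hcon
    have : 2 * (u - 1) * c ≤ 0 := mul_nonpos_of_nonneg_of_nonpos (by omega) (by omega)
    omega
  rcases (by omega : c = 1 ∨ 2 ≤ c) with rfl | h2
  · have h3 : u = 1 + 3 * (q + 1) / 2 := by (clear * - h1; omega)
    nlinarith only [hq, hc, h1]
  · have h3 : 4 * (u - 1) ≤ 3 * (q + 1) := by nlinarith only [hu, h1, h2]
    have h4 : 2 * (q ^ 2 - q + 1) ≤ u ^ 2 - 1 := by rw [hc, mul_comm]; exact mul_le_mul_of_nonneg_left h2 hw.le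
    nlinarith only [hq, hu, h3, h4]

theorem spNeg {u q : ℤ} (hq : 7 ≤ q) (hu : 3 ≤ u) (hE : 2 * ((u + 1) * (u ^ 2 - 1)) = 3 * (q ^ 3 - 1))
    (hκ : (q ^ 2 + q + 1) ∣ u ^ 2 - 1) : False := by
  obtain ⟨c, hc⟩ := hκ
  have hw : 0 < q ^ 2 + q + 1 := by linarith only [hq, _root_.sq_nonneg (q : ℤ)]
  have h1 : 2 * (u + 1) * c = 3 * (q - 1) := by
    have h2 : (q ^ 2 + q + 1) * (2 * (u + 1) * c) = (q ^ 2 + q + 1) * (3 * (q - 1)) := by
      rw [hc] at hE
      linear_combination hE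
    exact mul_left_cancel₀ hw.ne' h2
  have hc0 : 0 < c := by
    by_contra hcon
    have : 2 * (u + 1) * c ≤ 0 := mul_nonpos_of_nonneg_of_nonpos (by omega) (by omega)
    omega
  rcases (by omega : c = 1 ∨ 2 ≤ c) with rfl | h2
  · have h3 : 2 * (u + 1) = 3 * (q - 1) := by (clear * - h1; omega)
    nlinarith only [hq, hc, h1]
  · have h3 : 4 * (u + 1) ≤ 3 * (q - 1) := by nlinarith only [hu, h1, h2]
    have h4 : 2 * (q ^ 2 + q + 1) ≤ u ^ 2 - 1 := by rw [hc, mul_comm]; exact mul_le_mul_of_nonneg_left h2 hw.le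
    nlinarith only [hu, hc, h2, h3]

theorem avKill {q u T1 A κ c U : ℤ} (hq : 50 ≤ q) (hA : 2 * A ≤ q ^ 3 + 1) (hT : T1 ≤ A) (hc : c = 1 ∨ c = 3)
    (e1 : c * T1 = U ^ 2 + U + 1) (hU : U = u ∨ U = -u) (hκ : q ^ 2 - q + 1 ≤ 3 * κ) (hκu : κ ≤ u) : False := by
  have hw : 0 < q ^ 2 - q + 1 := by nlinarith only []
  have hu : 0 < u := by omega
  have h1 : u ^ 2 - u + 1 ≤ 3 * A := by
    have h2 : u ^ 2 - u + 1 ≤ U ^ 2 + U + 1 := by rcases hU with rfl | rfl <;> linarith only [hu]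
    have h3 : c * T1 ≤ 3 * A := by
      rcases hc with rfl | rfl
      · nlinarith only [hT, hu, e1]
      · omega
    omega
  have h2 : q ^ 3 + 1 = (q + 1) * (q ^ 2 - q + 1) := by ring
  have h3 : (q + 1) * (q ^ 2 - q + 1) ≤ (q + 1) * (3 * u) := mul_le_mul_of_nonneg_left (by omega) (by omega)
  have h4 : 2 * (u ^ 2 - u + 1) ≤ 9 * (q + 1) * u := by linarith only [hA, h1, h3]
  have h5 : 2 * (u - 1) < 9 * (q + 1) := by
    by_contra hcon
    rw [not_lt] at hcon
    have : 9 * (q + 1) * u ≤ 2 * (u - 1) * u := mul_le_mul_of_nonneg_right hcon hu.le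
    linarith only [hA, h1, h3, this]
  nlinarith only [hq, hκ, hκu, h5]

end Cfsg.Agent.R2.Spec.X4.H10
end

-- part: R2/Spec/X4/H10/L3Row
section
/-!
# X4: `S = L₃(u)`, `U₃(u)` are impossible, `(u, q) = 1` (helper10)
-/

set_option autoImplicit false
set_option linter.unusedSectionVars false
set_option linter.unusedVariables false

namespace Cfsg.Agent.R2.Spec.X4.H10

open Subgroup Cfsg
open Cfsg.Agent.H426.LieFam Cfsg.Agent.R2.Spec Cfsg.Agent.R2.Spec.P1 Cfsg.Agent.R2.Spec.F1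
open Cfsg.Agent.H72

universe u

variable {p q k A k' B m i : ℕ} {W : ℕ → Prop} {S : Type u} [Group S] {t : Fam} {v f : ℕ} {U : ℤ} {c T1 T2 : ℕ}

/-- the numbers of `L` with the cofactors -/
theorem LW.nsc (L : LW p q k A k' B W) : ∃ d g g' : ℤ, NS q k A k' B d ∧ (g = 1 ∨ g = 3) ∧ (g' = 1 ∨ g' = 3) ∧
    g * k = (q : ℤ) ^ 2 - d * q + 1 ∧ g' * k' = (q : ℤ) ^ 2 + d * q + 1 := by
  obtain ⟨d, n⟩ := LW.ns L
  have hq2 := L.q2
  have h1 := L.side.cof hq2
  have hqq : q ≤ q ^ 2 := Nat.le_self_pow two_ne_zero q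
  have e1 : ((q ^ 2 - q + 1 : ℕ) : ℤ) = (q : ℤ) ^ 2 - q + 1 := by push_cast [Nat.cast_sub hqq]; ring
  have e2 : ((q ^ 2 + q + 1 : ℕ) : ℤ) = (q : ℤ) ^ 2 + q + 1 := by push_cast; ring
  have key1 : ∀ a : ℕ, (a = q ^ 2 + q + 1 ∨ 3 * a = q ^ 2 + q + 1 ∧ q % 3 = 1) → ∃ g : ℤ, (g = 1 ∨ g = 3) ∧
      g * a = (q : ℤ) ^ 2 + q + 1 := by
    rintro a (h | ⟨h, -⟩)
    · exact ⟨1, by norm_num, by rw [h, e2]; ring⟩
    · refine ⟨3, by norm_num, ?_⟩
      rw [← e2, ← h]; push_cast; ring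
  have key2 : ∀ a : ℕ, (a = q ^ 2 - q + 1 ∨ 3 * a = q ^ 2 - q + 1 ∧ q % 3 = 2) → ∃ g : ℤ, (g = 1 ∨ g = 3) ∧
      g * a = (q : ℤ) ^ 2 - q + 1 := by
    rintro a (h | ⟨h, -⟩)
    · exact ⟨1, by norm_num, by rw [h, e1]; ring⟩
    · refine ⟨3, by norm_num, ?_⟩
      rw [← e1, ← h]; push_cast; ring
  have hqd := n.hqd
  rcases h1 with ⟨h4, ha, hb⟩ | ⟨h4, ha, hb⟩
  · have hd : d = -1 := by rcases n.hd with rfl | rfl <;> omega
    obtain ⟨g, hg, hg2⟩ := key1 k ha
    obtain ⟨g', hg', hg2'⟩ := key2 k' hb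
    exact ⟨d, g, g', n, hg, hg', by rw [hg2, hd]; ring, by rw [hg2', hd]; ring⟩
  · have hd : d = 1 := by rcases n.hd with rfl | rfl <;> omega
    obtain ⟨g', hg', hg2'⟩ := key1 k' ha
    obtain ⟨g, hg, hg2⟩ := key2 k hb
    exact ⟨d, g, g', n, hg, hg', by rw [hg2, hd]; ring, by rw [hg2', hd]; ring⟩

/-- a noncyclic `x`-subgroup -/
theorem noncyclic_of {X : Type u} [Group X] [Finite X] {x b : ℕ} (hx : x.Prime) (hd : x ^ b ∣ Nat.card X)
    (hno : ¬ ∃ y : X, orderOf y = x ^ b) : ∃ P : Subgroup X, IsPGroup x P ∧ ¬ IsCyclic P := by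
  have := Fact.mk hx
  obtain ⟨P⟩ := (inferInstance : Nonempty (Sylow x X))
  refine ⟨P, P.isPGroup', fun hc => hno ?_⟩
  have h1 : x ^ b ∣ Nat.card P := P.pow_dvd_card_of_pow_dvd_card hd
  obtain ⟨g, hg⟩ := hc.exists_ofOrder_eq_natCard
  obtain ⟨n, hn⟩ := h1
  have hn0 : n ≠ 0 := by
    rintro rfl
    rw [mul_zero] at hn
    exact (Nat.card_pos (α := P)).ne' hn
  refine ⟨((g ^ n : P) : X), ?_⟩
  rw [Subgroup.orderOf_coe, orderOf_pow_of_dvd hn0 (by rw [hg, hn]; exact dvd_mul_left _ _), hg, hn]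
  exact Nat.mul_div_cancel _ (Nat.pos_of_ne_zero hn0)

/-- the context -/
structure C3 (p q k A k' B m i : ℕ) (W : ℕ → Prop) (S : Type u) [Group S] (t : Fam) (v f : ℕ) (U : ℤ)
    (c T1 T2 : ℕ) : Prop where
  h : SX p q k A k' B m i W S
  hg : Good W m i
  hv : v.Prime
  hvp : v ≠ p
  ht : (t = .psl 3 ∧ U = ((v ^ f : ℕ) : ℤ)) ∨ (t = .psu 3 ∧ U = -((v ^ f : ℕ) : ℤ))
  hI : Fam.Is v f S t
  F : T3F S v (v ^ f) U c T1 T2
  hT : ∃ e : Bool, T1 = t1 e (v ^ f) ∧ T2 = t2 e (v ^ f)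

theorem C3.cla (C : C3 p q k A k' B m i W S t v f U c T1 T2) : Classical t := by
  rcases C.ht with ⟨rfl, -⟩ | ⟨rfl, -⟩ <;> trivial

theorem C3.vU (C : C3 p q k A k' B m i W S t v f U c T1 T2) : (v : ℤ) ∣ U := by
  have hf := H4.is_f_ne C.cla C.hI
  have h1 : (v : ℤ) ∣ ((v ^ f : ℕ) : ℤ) := by exact_mod_cast dvd_pow_self v hf
  rcases C.F.hU with h | h
  · rw [h]; exact h1
  · rw [h]; exact (dvd_neg).2 h1

theorem not_dvd_small {x : ℕ} (hx : x.Prime) (h5 : 5 ≤ x) : ¬ (x : ℤ) ∣ 1 ∧ ¬ (x : ℤ) ∣ 2 ∧ ¬ (x : ℤ) ∣ 3 := by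
  refine ⟨fun h => ?_, fun h => ?_, fun h => ?_⟩ <;>
  · have := Int.le_of_dvd (by norm_num) h
    omega

theorem C3.c_not (C : C3 p q k A k' B m i W S t v f U c T1 T2) {x : ℕ} (hx : x.Prime) (h5 : 5 ≤ x) : ¬ x ∣ c := by
  intro h
  rcases C.F.hc with h1 | h1
  · rw [h1] at h; have := Nat.le_of_dvd (by norm_num) h; omega
  · rw [h1] at h; have := Nat.le_of_dvd (by norm_num) h; omega

theorem C3.dT1 (C : C3 p q k A k' B m i W S t v f U c T1 T2) {x : ℕ} (hx : x.Prime) (h5 : 5 ≤ x) :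
    x ∣ T1 ↔ (x : ℤ) ∣ U ^ 2 + U + 1 := by
  rw [← C.F.e1]
  constructor
  · intro h
    exact (Int.natCast_dvd_natCast.2 h).mul_left _
  · intro h
    have h1 : x ∣ c * T1 := by exact_mod_cast h
    exact (hx.dvd_mul.1 h1).resolve_left (C.c_not hx h5)

theorem C3.dT2 (C : C3 p q k A k' B m i W S t v f U c T1 T2) {x : ℕ} (hx : x.Prime) (h5 : 5 ≤ x) :
    x ∣ T2 ↔ (x : ℤ) ∣ U - 1 ∨ (x : ℤ) ∣ U + 1 := by
  have hxp : Prime (x : ℤ) := Nat.prime_iff_prime_int.1 hx
  have h2 : (x : ℤ) ∣ U - 1 ∨ (x : ℤ) ∣ U + 1 ↔ (x : ℤ) ∣ U ^ 2 - 1 := by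
    rw [show U ^ 2 - 1 = (U - 1) * (U + 1) by ring, hxp.dvd_mul]
  rw [h2, ← C.F.e2]
  constructor
  · intro h
    exact (Int.natCast_dvd_natCast.2 h).mul_left _
  · intro h
    have h1 : x ∣ c * T2 := by exact_mod_cast h
    exact (hx.dvd_mul.1 h1).resolve_left (C.c_not hx h5)

theorem C3.dT3 (C : C3 p q k A k' B m i W S t v f U c T1 T2) {x : ℕ} (hx : x.Prime) :
    x ∣ v ^ 2 * (U - 1).natAbs ↔ x = v ∨ (x : ℤ) ∣ U - 1 := by
  rw [hx.dvd_mul, ← Int.natCast_dvd]
  constructor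
  · rintro (h | h)
    · exact Or.inl ((Nat.prime_dvd_prime_iff_eq hx C.hv).1 (hx.dvd_of_dvd_pow h))
    · exact Or.inr h
  · rintro (h | h)
    · left; rw [h]; exact dvd_pow_self v (by norm_num)
    · exact Or.inr h

/-- the classes are disjoint -/
theorem C3.disj (C : C3 p q k A k' B m i W S t v f U c T1 T2) {x : ℕ} (hx : x.Prime) (h5 : 5 ≤ x) :
    ((x : ℤ) ∣ U ^ 2 + U + 1 → x ≠ v ∧ ¬ (x : ℤ) ∣ U - 1 ∧ ¬ (x : ℤ) ∣ U + 1) ∧
      ((x : ℤ) ∣ U + 1 → x ≠ v ∧ ¬ (x : ℤ) ∣ U - 1) := by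
  obtain ⟨n1, n2, n3⟩ := not_dvd_small hx h5
  refine ⟨fun h => ⟨?_, fun h1 => ?_, fun h1 => ?_⟩, fun h => ⟨?_, fun h1 => ?_⟩⟩
  · rintro rfl
    apply n1
    have h2 := dvd_sub h (C.vU.mul_right (U + 1))
    rwa [show U ^ 2 + U + 1 - U * (U + 1) = 1 by ring] at h2
  · apply n3
    have h2 := dvd_sub h (h1.mul_right (U + 2))
    rwa [show U ^ 2 + U + 1 - (U - 1) * (U + 2) = 3 by ring] at h2
  · apply n1
    have h2 := dvd_sub h (h1.mul_right U)
    rwa [show U ^ 2 + U + 1 - (U + 1) * U = 1 by ring] at h2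
  · rintro rfl
    apply n1
    have h2 := dvd_sub h C.vU
    rwa [show U + 1 - U = 1 by ring] at h2
  · apply n2
    have h2 := dvd_sub h h1
    rwa [show U + 1 - (U - 1) = 2 by ring] at h2

theorem C3.ub1 (C : C3 p q k A k' B m i W S t v f U c T1 T2) {x : ℕ} (hx : x.Prime) (h5 : 5 ≤ x)
    (h : (x : ℤ) ∣ U ^ 2 + U + 1) {y : S} (hy : x ∣ orderOf y) : orderOf y ∣ T1 := by
  have hd := (C.disj hx h5).1 h
  rcases C.F.cas y with h1 | h1 | h1
  · exact h1
  · rcases (C.dT2 hx h5).1 (hy.trans h1) with h2 | h2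
    · exact absurd h2 hd.2.1
    · exact absurd h2 hd.2.2
  · rcases (C.dT3 hx).1 (hy.trans h1) with h2 | h2
    · exact absurd h2 hd.1
    · exact absurd h2 hd.2.1

theorem C3.ub2 (C : C3 p q k A k' B m i W S t v f U c T1 T2) {x : ℕ} (hx : x.Prime) (h5 : 5 ≤ x)
    (h : (x : ℤ) ∣ U + 1) {y : S} (hy : x ∣ orderOf y) : orderOf y ∣ T2 := by
  have hd := (C.disj hx h5).2 h
  rcases C.F.cas y with h1 | h1 | h1
  · exact absurd h ((C.disj hx h5).1 ((C.dT1 hx h5).1 (hy.trans h1))).2.2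
  · exact h1
  · rcases (C.dT3 hx).1 (hy.trans h1) with h2 | h2
    · exact absurd h2 hd.1
    · exact absurd h2 hd.2

theorem C3.clas (C : C3 p q k A k' B m i W S t v f U c T1 T2) {x : ℕ} (hx : x.Prime) (h5 : 5 ≤ x)
    (hxS : x ∣ Nat.card S) : x = v ∨ (x : ℤ) ∣ U - 1 ∨ (x : ℤ) ∣ U + 1 ∨ (x : ℤ) ∣ U ^ 2 + U + 1 := by
  have := C.h.fin
  have := Fact.mk hx
  obtain ⟨y, hy⟩ := exists_prime_orderOf_dvd_card' x hxS
  rcases C.F.cas y with h | h | h
  · exact Or.inr (Or.inr (Or.inr ((C.dT1 hx h5).1 (hy ▸ h))))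
  · rcases (C.dT2 hx h5).1 (hy ▸ h) with h1 | h1
    · exact Or.inr (Or.inl h1)
    · exact Or.inr (Or.inr (Or.inl h1))
  · rcases (C.dT3 hx).1 (hy ▸ h) with h1 | h1
    · exact Or.inl h1
    · exact Or.inr (Or.inl h1)

theorem C3.WT (C : C3 p q k A k' B m i W S t v f U c T1 T2) : W T1 ∧ W T2 := by
  obtain ⟨x, hx⟩ := C.F.ex1
  obtain ⟨y, hy⟩ := C.F.ex2
  exact ⟨hx ▸ C.h.WS x, hy ▸ C.h.WS y⟩

/-- the anisotropic class -/
theorem C3.an (C : C3 p q k A k' B m i W S t v f U c T1 T2) {x : ℕ} (hx : x.Prime)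
    (h3 : 3 ≤ cls t (v ^ f) x) (hAn : An t (cls t (v ^ f) x)) : (x : ℤ) ∣ U ^ 2 + U + 1 := by
  have hc : cls t (v ^ f) x = 3 := by
    rcases C.ht with ⟨rfl, -⟩ | ⟨rfl, -⟩
    · exact hAn
    · change _ % 2 = 1 ∧ (_ = 3 ∨ _ + 1 = 3) at hAn
      omega
  have hs : sg t (v ^ f) = U := by
    rcases C.ht with ⟨rfl, h⟩ | ⟨rfl, h⟩ <;> rw [h] <;> rfl
  rw [R2.Spec.cls, hs] at hc
  have := Fact.mk hx
  have h1 : ((U : ℤ) : ZMod x) ^ 3 = 1 := by rw [← hc]; exact pow_orderOf_eq_one _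
  have h2 : ((U : ℤ) : ZMod x) ≠ 1 := by
    intro h2
    rw [h2, orderOf_one] at hc
    omega
  rw [← ZMod.intCast_zmod_eq_zero_iff_dvd]
  push_cast
  have h3 : (((U : ℤ) : ZMod x) - 1) * (((U : ℤ) : ZMod x) ^ 2 + (U : ZMod x) + 1) = 0 := by
    linear_combination h1
  rcases mul_eq_zero.1 h3 with h4 | h4
  · exact absurd (sub_eq_zero.1 h4) h2
  · exact h4

/-- `T2` is divisible by `8` in odd characteristic -/
theorem C3.eight (C : C3 p q k A k' B m i W S t v f U c T1 T2) (hv2 : v ≠ 2) : 4 ∣ T2 := by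
  have hodd : U % 2 = 1 := by
    have h1 : (v ^ f) % 2 = 1 := Nat.odd_iff.1 ((C.hv.odd_of_ne_two hv2).pow)
    rcases C.F.hU with h | h <;> (clear * - h1 h; omega)
  have h2 : U ^ 2 % 8 = 1 := by
    have : U % 8 = 1 ∨ U % 8 = 3 ∨ U % 8 = 5 ∨ U % 8 = 7 := by omega
    rcases this with h | h | h | h <;> rw [pow_two, Int.mul_emod, h] <;> norm_num
  have h3 := C.F.e2
  rcases C.F.hc with h | h <;> rw [h] at h3 <;> push_cast at h3 <;> omega

/-- the primes of `k` -/
theorem C3.kp (C : C3 p q k A k' B m i W S t v f U c T1 T2) {ν : ℕ} (hν : ν.Prime) (hνk : ν ∣ k) :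
    7 ≤ ν ∧ ν ∣ Nat.card S ∧ ((ν : ℤ) ∣ U ^ 2 + U + 1 ∨ (v = 2 ∧ (ν : ℤ) ∣ U + 1)) := by
  have := C.h.fin
  have h1 := C.h.lw.side.prime C.h.lw.q2 hν (Or.inl hνk)
  have h2 := C.h.good_k C.hg hν hνk
  have h3 := C.h.dvd_card hν (C.h.W_prime hν (Or.inl hνk)) h2.1 h2.2
  have h4 := C.h.twoS hν hνk
  refine ⟨h1.1, h3, ?_⟩
  have key : v ≠ 2 → ν ∣ T2 → False := by
    intro hv2 hd
    apply h4
    have h5 : 2 * ν ∣ T2 := Nat.Coprime.mul_dvd_of_dvd_of_dvd ((Nat.coprime_primes Nat.prime_two hν).2 (by omega))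
      ((show 2 ∣ 4 by norm_num).trans (C.eight hv2)) hd
    obtain ⟨y, hy⟩ := C.F.ex2
    obtain ⟨n, hn⟩ := h5
    have h0 : 0 < orderOf y := orderOf_pos y
    have hn0 : n ≠ 0 := by rintro rfl; rw [hy, hn] at h0; omega
    refine ⟨y ^ n, ?_⟩
    rw [orderOf_pow_of_dvd hn0 (by rw [hy, hn]; exact dvd_mul_left _ _), hy, hn]
    exact Nat.mul_div_cancel _ (Nat.pos_of_ne_zero hn0)
  rcases C.clas hν (by omega) h3 with h | h | h | h
  · exfalso
    exact h4 (h ▸ C.F.adj2 (by omega))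
  · exfalso
    by_cases hv2 : v = 2
    · apply h4
      obtain ⟨y, hy⟩ := C.F.adjv ν hν (by omega) (by omega) (by rwa [← Int.natCast_dvd])
      exact ⟨y, by rw [hy, hv2, mul_comm]⟩
    · exact key hv2 ((C.dT2 hν (by omega)).2 (Or.inl h))
  · by_cases hv2 : v = 2
    · exact Or.inr ⟨hv2, h⟩
    · exact (key hv2 ((C.dT2 hν (by omega)).2 (Or.inr h))).elim
  · exact Or.inl h

end Cfsg.Agent.R2.Spec.X4.H10
end

private theorem dce_2039270cae16 : _root_.True := by
  try have : _root_.True := by simp only [_root_.Cfsg.Agent.R2.Spec.X4.H10.chk3.eq_1]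
  try have : _root_.True := by simp only [_root_.Cfsg.Agent.R2.Spec.X4.H10.ok3.eq_1]
  exact _root_.True.intro
end

-- part: R2/Spec/E/RelO
section
set_option linter.all false
open scoped Cfsg.Agent.FastGrp

-- part: R2/Spec/E/Rel
section
/-!
# The engine (helper29): the linear relations between the isolated numbers

`LinRel q s A B c` : `(q + s) A = q B + c`, `s = ±1`.
-/

set_option autoImplicit false

namespace Cfsg.Agent.R2.Spec.E

open Cfsg Cfsg.Agent.H426.LieFam Cfsg.Agent.R2.Spec Cfsg.Agent.R2.Spec.P1 Cfsg.Agent.R2.Spec.F1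

/-- the linear relation -/
structure LinRel (q : ℕ) (s : ℤ) (A B : ℕ) (c : ℤ) : Prop where
  hs : s = 1 ∨ s = -1
  eq : ((q : ℤ) + s) * A = q * B + c

theorem cast_pow_sub {q n : ℕ} (hq : 1 ≤ q) : ((q ^ n - 1 : ℕ) : ℤ) = (q : ℤ) ^ n - 1 := by
  rw [Nat.cast_sub (Nat.one_le_pow _ _ hq)]
  push_cast
  ring

/-- the isolated numbers of `L_n(q)` -/
theorem val_psl {n q : ℕ} (hn : 2 ≤ n) (hq : 2 ≤ q) :
    ttor (.psl n) q n * (Nat.gcd n (q - 1) * (q - 1)) = q ^ n - 1 ∧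
      ttor (.psl n) q (n - 1) * Nat.gcd n (q - 1) = q ^ (n - 1) - 1 := by
  have hg0 : 0 < Nat.gcd n (q - 1) := Nat.gcd_pos_of_pos_left _ (by omega)
  constructor
  · have hs : ((q : ℤ) - 1).natAbs = q - 1 := by omega
    have h1 := gcd_mul_dvd_ua' (s := (q : ℤ)) (n := n) hs
    have h2 : Cfsg.Agent.R2.Spec.X7.ua (q : ℤ) n = q ^ n - 1 := by
      unfold Cfsg.Agent.R2.Spec.X7.ua
      rw [← cast_pow_sub (by omega)]
      exact Int.natAbs_natCast _
    rw [h2] at h1
    rw [ttor, if_pos rfl, mul_comm (q - 1) (Nat.gcd n (q - 1))]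
    exact Nat.div_mul_cancel h1
  · rw [ttor, if_neg (by omega)]
    exact Nat.div_mul_cancel ((Nat.gcd_dvd_right _ _).trans (Nat.sub_one_dvd_pow_sub_one q (n - 1)))

theorem lin_psl {n q : ℕ} (hn : 2 ≤ n) (hq : 2 ≤ q) : ∃ e : ℕ, e * Nat.gcd n (q - 1) = q - 1 ∧
    LinRel q (-1) (ttor (.psl n) q n) (ttor (.psl n) q (n - 1)) e := by
  obtain ⟨h1, h2⟩ := val_psl hn hq
  have hg0 : 0 < Nat.gcd n (q - 1) := Nat.gcd_pos_of_pos_left _ (by omega)
  obtain ⟨e, he⟩ := Nat.gcd_dvd_right n (q - 1)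
  refine ⟨e, by rw [mul_comm]; exact he.symm, Or.inr rfl, ?_⟩
  have h3 : ((ttor (.psl n) q n : ℕ) : ℤ) * (Nat.gcd n (q - 1) * ((q : ℤ) - 1)) = (q : ℤ) ^ n - 1 := by
    rw [← cast_pow_sub (by omega), ← h1]
    push_cast [Nat.cast_sub (show 1 ≤ q by omega)]
    ring
  have h4 : ((ttor (.psl n) q (n - 1) : ℕ) : ℤ) * Nat.gcd n (q - 1) = (q : ℤ) ^ (n - 1) - 1 := by
    rw [← cast_pow_sub (by omega), ← h2]
    push_cast
    ring
  have h5 : (q : ℤ) - 1 = Nat.gcd n (q - 1) * e := by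
    have : ((q - 1 : ℕ) : ℤ) = (q : ℤ) - 1 := by push_cast [Nat.cast_sub (show 1 ≤ q by omega)]; ring
    rw [← this]
    exact_mod_cast he
  have h6 : (q : ℤ) ^ n = q * (q : ℤ) ^ (n - 1) := by
    rw [← pow_succ']
    congr 1
    omega
  have hg : ((Nat.gcd n (q - 1) : ℕ) : ℤ) ≠ 0 := by exact_mod_cast hg0.ne'
  apply mul_right_cancel₀ hg
  linear_combination h3 + h6 - (q : ℤ) * h4 + h5

/-- the isolated numbers of `U_n(q)` -/
theorem val_psu {n q : ℕ} (hn : 2 ≤ n) (hq : 2 ≤ q) :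
    ttor (.psu n) q n * (Nat.gcd n (q + 1) * (q + 1)) = (if n % 2 = 0 then q ^ n - 1 else q ^ n + 1) ∧
      ttor (.psu n) q (n - 1) * Nat.gcd n (q + 1) = (if n % 2 = 0 then q ^ (n - 1) + 1 else q ^ (n - 1) - 1) := by
  have hg0 : 0 < Nat.gcd n (q + 1) := Nat.gcd_pos_of_pos_left _ (by omega)
  have hs : (-(q : ℤ) - 1).natAbs = q + 1 := by omega
  constructor
  · have h1 := gcd_mul_dvd_ua' (s := -(q : ℤ)) (n := n) hs
    have h2 : Cfsg.Agent.R2.Spec.X7.ua (-(q : ℤ)) n = (if n % 2 = 0 then q ^ n - 1 else q ^ n + 1) := by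
      unfold Cfsg.Agent.R2.Spec.X7.ua
      split_ifs with h
      · rw [(Nat.even_iff.2 h).neg_pow, ← cast_pow_sub (by omega)]
        exact Int.natAbs_natCast _
      · have h' : Odd n := Nat.odd_iff.2 (by omega)
        rw [h'.neg_pow, show -(q : ℤ) ^ n - 1 = -((q ^ n + 1 : ℕ) : ℤ) by push_cast; ring, Int.natAbs_neg]
        exact Int.natAbs_natCast _
    rw [h2] at h1
    rw [ttor, if_pos rfl, mul_comm (q + 1) (Nat.gcd n (q + 1))]
    exact Nat.div_mul_cancel h1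
  · rw [ttor, if_neg (by omega)]
    refine Nat.div_mul_cancel ((Nat.gcd_dvd_right _ _).trans ?_)
    split_ifs with h
    · have h' : Odd (n - 1) := Nat.odd_iff.2 (by omega)
      simpa using Odd.nat_add_dvd_pow_add_pow q 1 h'
    · obtain ⟨k, hk⟩ : ∃ k, n - 1 = 2 * k := ⟨(n - 1) / 2, by omega⟩
      rw [hk, pow_mul]
      exact (Dvd.intro (q - 1) (by
        have : (q + 1) * (q - 1) = q ^ 2 - 1 := by
          zify [show 1 ≤ q by omega, Nat.one_le_pow 2 q (by omega)]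
          ring
        exact this)).trans (Nat.sub_one_dvd_pow_sub_one (q ^ 2) k)

theorem lin_psu {n q : ℕ} (hn : 2 ≤ n) (hq : 2 ≤ q) : ∃ e : ℕ, e * Nat.gcd n (q + 1) = q + 1 ∧
    LinRel q 1 (ttor (.psu n) q n) (ttor (.psu n) q (n - 1)) (if n % 2 = 0 then -(e : ℤ) else e) := by
  obtain ⟨h1, h2⟩ := val_psu hn hq
  have hg0 : 0 < Nat.gcd n (q + 1) := Nat.gcd_pos_of_pos_left _ (by omega)
  obtain ⟨e, he⟩ := Nat.gcd_dvd_right n (q + 1)
  refine ⟨e, by rw [mul_comm]; exact he.symm, Or.inl rfl, ?_⟩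
  have h5 : (q : ℤ) + 1 = Nat.gcd n (q + 1) * e := by exact_mod_cast he
  have h6 : (q : ℤ) ^ n = q * (q : ℤ) ^ (n - 1) := by
    rw [← pow_succ']
    congr 1
    omega
  have hg : ((Nat.gcd n (q + 1) : ℕ) : ℤ) ≠ 0 := by exact_mod_cast hg0.ne'
  apply mul_right_cancel₀ hg
  by_cases h : n % 2 = 0
  · rw [if_pos h] at h1 h2 ⊢
    have h3 : ((ttor (.psu n) q n : ℕ) : ℤ) * (Nat.gcd n (q + 1) * ((q : ℤ) + 1)) = (q : ℤ) ^ n - 1 := by
      rw [← cast_pow_sub (by omega), ← h1]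
      push_cast
      ring
    have h4 : ((ttor (.psu n) q (n - 1) : ℕ) : ℤ) * Nat.gcd n (q + 1) = (q : ℤ) ^ (n - 1) + 1 := by
      exact_mod_cast h2
    linear_combination h3 + h6 - (q : ℤ) * h4 - h5
  · rw [if_neg h] at h1 h2 ⊢
    have h3 : ((ttor (.psu n) q n : ℕ) : ℤ) * (Nat.gcd n (q + 1) * ((q : ℤ) + 1)) = (q : ℤ) ^ n + 1 := by
      exact_mod_cast h1
    have h4 : ((ttor (.psu n) q (n - 1) : ℕ) : ℤ) * Nat.gcd n (q + 1) = (q : ℤ) ^ (n - 1) - 1 := by
      rw [← cast_pow_sub (by omega), ← h2]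
      push_cast
      ring
    linear_combination h3 + h6 - (q : ℤ) * h4 + h5

end Cfsg.Agent.R2.Spec.E
end

-- part: R2/Spec/E/RelO
section
/-!
# The engine (helper29): the linear relations, symplectic and orthogonal groups
-/

set_option autoImplicit false

namespace Cfsg.Agent.R2.Spec.E

open Cfsg Cfsg.Agent.H426.LieFam Cfsg.Agent.R2.Spec Cfsg.Agent.R2.Spec.P1 Cfsg.Agent.R2.Spec.F1

theorem pow_mod_four_odd {q k : ℕ} (hq : q % 2 = 1) (hk : k % 2 = 0) : q ^ k % 4 = 1 := by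
  obtain ⟨j, rfl⟩ : ∃ j, k = 2 * j := ⟨k / 2, by omega⟩
  rw [pow_mul]
  have h1 : q ^ 2 % 4 = 1 := by
    have h2 : q % 4 = 1 ∨ q % 4 = 3 := by omega
    rw [Nat.pow_mod]
    rcases h2 with h2 | h2 <;> rw [h2]
  rw [Nat.pow_mod, h1, one_pow, Nat.one_mod]

theorem pow_odd_mod_four {q k : ℕ} (hq : q % 2 = 1) (hk : k % 2 = 1) : q ^ k % 4 = q % 4 := by
  obtain ⟨j, rfl⟩ : ∃ j, k = j + 1 := ⟨k - 1, by omega⟩
  rw [pow_succ, Nat.mul_mod, pow_mod_four_odd hq (by omega), one_mul, Nat.mod_mod]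

theorem pow_odd {q : ℕ} (hq : q % 2 = 1) (k : ℕ) : q ^ k % 2 = 1 :=
  Nat.odd_iff.1 ((Nat.odd_iff.2 hq).pow)

/-- the isolated numbers of `PSp_2n(q)`, `Ω_{2n+1}(q)` -/
theorem val_psp {n q : ℕ} (hn : 1 ≤ n) (hq : 2 ≤ q) :
    ttor (.psp n) q (2 * n) * Nat.gcd 2 (q - 1) = q ^ n + 1 ∧ ttor (.psp n) q n * Nat.gcd 2 (q - 1) = q ^ n - 1 := by
  have h0 : Nat.gcd 2 (q - 1) ∣ q ^ n - 1 := (Nat.gcd_dvd_right _ _).trans (Nat.sub_one_dvd_pow_sub_one q n)
  constructor
  · rw [ttor, if_pos rfl]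
    refine Nat.div_mul_cancel ?_
    have h1 : Nat.gcd 2 (q - 1) ∣ 2 := Nat.gcd_dvd_left _ _
    have h2 := Nat.dvd_add h0 h1
    have h3 := Nat.one_le_pow n q (by omega)
    rwa [show q ^ n - 1 + 2 = q ^ n + 1 by omega] at h2
  · rw [ttor, if_neg (by omega)]
    exact Nat.div_mul_cancel h0

theorem ttor_oodd (n q i : ℕ) : ttor (.oodd n) q i = ttor (.psp n) q i := rfl

theorem gcd_two_odd {q : ℕ} (h : q % 2 = 1) : Nat.gcd 2 (q - 1) = 2 :=
  Nat.gcd_eq_left (by omega)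

theorem gcd_two_even {q : ℕ} (hq : 2 ≤ q) (h : q % 2 = 0) : Nat.gcd 2 (q - 1) = 1 := by
  rw [Nat.gcd_comm]
  exact Nat.Coprime.symm ((Nat.coprime_two_left (n := q - 1)).2 (Nat.odd_iff.2 (by omega)))

/-- the numbers of `POmega^+_{2n}(q)`, `n` odd -/
theorem val_oplus_odd {n q : ℕ} (hn : 3 ≤ n) (hn2 : n % 2 = 1) (hq : 2 ≤ q) :
    ttor (.oplus n) q n * Nat.gcd 4 (q ^ n - 1) = q ^ n - 1 ∧
      ttor (.oplus n) q (2 * (n - 1)) * Nat.gcd 4 (q ^ n - 1) = (q ^ (n - 1) + 1) * (q + 1) := by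
  constructor
  · rw [ttor, if_pos rfl]
    exact Nat.div_mul_cancel (Nat.gcd_dvd_right _ _)
  · rw [ttor, if_neg (by omega), if_neg (by omega), if_neg (by omega)]
    refine Nat.div_mul_cancel ?_
    rcases Nat.mod_two_eq_zero_or_one q with h | h
    · have h1 : (q ^ n - 1) % 2 = 1 := by
        have h2 : q ^ n % 2 = 0 := by
          obtain ⟨k, rfl⟩ : ∃ k, n = k + 1 := ⟨n - 1, by omega⟩
          rw [pow_succ, Nat.mul_mod, h, mul_zero, Nat.zero_mod]
        have h3 := Nat.one_le_pow n q (by omega)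
        omega
      have h4 : Nat.gcd 4 (q ^ n - 1) = 1 := by
        have : Nat.Coprime (2 ^ 2) (q ^ n - 1) :=
          Nat.Coprime.pow_left 2 ((Nat.coprime_two_left).2 (Nat.odd_iff.2 h1))
        exact this
      rw [h4]
      exact one_dvd _
    · refine (Nat.gcd_dvd_left _ _).trans ?_
      have h1 : 2 ∣ q ^ (n - 1) + 1 := by have := pow_odd h (n - 1); omega
      have h2 : 2 ∣ q + 1 := by omega
      exact mul_dvd_mul h1 h2

/-- the numbers of `POmega^+_{2n}(q)`, `n` even -/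
theorem val_oplus_even {n q : ℕ} (hn : 4 ≤ n) (hn2 : n % 2 = 0) (hq : 2 ≤ q) :
    ttor (.oplus n) q (2 * (n - 1)) * Nat.gcd 2 (q - 1) = q ^ (n - 1) + 1 ∧
      ttor (.oplus n) q (n - 1) * Nat.gcd 2 (q - 1) = q ^ (n - 1) - 1 := by
  obtain ⟨h1, h2⟩ := val_psp (n := n - 1) (q := q) (by omega) hq
  have h3 : ttor (.psp (n - 1)) q (2 * (n - 1)) = (q ^ (n - 1) + 1) / Nat.gcd 2 (q - 1) := by
    rw [ttor, if_pos rfl]
  have h4 : ttor (.psp (n - 1)) q (n - 1) = (q ^ (n - 1) - 1) / Nat.gcd 2 (q - 1) := by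
    rw [ttor, if_neg (by omega)]
  constructor
  · rw [ttor, if_neg (by omega), if_neg (by omega), if_pos hn2, ← h3]
    exact h1
  · rw [ttor, if_neg (by omega), if_pos rfl, ← h4]
    exact h2

theorem gcd_minus {n q : ℕ} (hn : 1 ≤ n) {a b : ℕ} (ha : q % 2 = 1 → 2 ∣ a) (hb : q % 2 = 1 → 2 ∣ b) :
    Nat.gcd 4 (q ^ n + 1) ∣ a * b := by
  rcases Nat.mod_two_eq_zero_or_one q with h | h
  · have h1 : (q ^ n + 1) % 2 = 1 := by
      have h2 : q ^ n % 2 = 0 := by
        obtain ⟨k, rfl⟩ : ∃ k, n = k + 1 := ⟨n - 1, by omega⟩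
        rw [pow_succ, Nat.mul_mod, h, mul_zero, Nat.zero_mod]
      omega
    have h4 : Nat.gcd 4 (q ^ n + 1) = 1 := by
      have : Nat.Coprime (2 ^ 2) (q ^ n + 1) :=
        Nat.Coprime.pow_left 2 ((Nat.coprime_two_left).2 (Nat.odd_iff.2 h1))
      exact this
    rw [h4]
    exact one_dvd _
  · exact (Nat.gcd_dvd_left _ _).trans (mul_dvd_mul (ha h) (hb h))

/-- the numbers of `POmega^-_{2n}(q)` -/
theorem val_ominus {n q : ℕ} (hn : 3 ≤ n) (hq : 2 ≤ q) :
    ttor (.ominus n) q (2 * n) * Nat.gcd 4 (q ^ n + 1) = q ^ n + 1 ∧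
      ttor (.ominus n) q (2 * (n - 1)) * Nat.gcd 4 (q ^ n + 1) = (q ^ (n - 1) + 1) * (q - 1) ∧
      ttor (.ominus n) q (n - 1) * Nat.gcd 4 (q ^ n + 1) = (q ^ (n - 1) - 1) * (q + 1) := by
  refine ⟨?_, ?_, ?_⟩
  · rw [ttor, if_pos rfl]
    exact Nat.div_mul_cancel (Nat.gcd_dvd_right _ _)
  · rw [ttor, if_neg (by omega), if_neg (by omega)]
    exact Nat.div_mul_cancel (gcd_minus (by omega)
      (fun h => by have := pow_odd h (n - 1); omega) (fun h => by omega))
  · rw [ttor, if_neg (by omega), if_pos rfl]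
    exact Nat.div_mul_cancel (gcd_minus (by omega)
      (fun h => by have := pow_odd h (n - 1); have := Nat.one_le_pow (n - 1) q (by omega); omega) (fun h => by omega))

/-- the relation of `POmega^+_{2n}(q)`, `n` odd -/
theorem lin_oplus_odd {n q : ℕ} (hn : 3 ≤ n) (hn2 : n % 2 = 1) (hq : 2 ≤ q) :
    ∃ e : ℕ, e * Nat.gcd 4 (q ^ n - 1) = (q + 1) ^ 2 ∧
      LinRel q 1 (ttor (.oplus n) q n) (ttor (.oplus n) q (2 * (n - 1))) (-(e : ℤ)) := by
  obtain ⟨h1, h2⟩ := val_oplus_odd hn hn2 hq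
  have hg0 : 0 < Nat.gcd 4 (q ^ n - 1) := Nat.gcd_pos_of_pos_left _ (by omega)
  have hd : Nat.gcd 4 (q ^ n - 1) ∣ (q + 1) ^ 2 := by
    rcases Nat.mod_two_eq_zero_or_one q with h | h
    · have h3 : Nat.gcd 4 (q ^ n - 1) = 1 := by
        have h4 : (q ^ n - 1) % 2 = 1 := by
          have h5 : q ^ n % 2 = 0 := by
            obtain ⟨k, rfl⟩ : ∃ k, n = k + 1 := ⟨n - 1, by omega⟩
            rw [pow_succ, Nat.mul_mod, h, mul_zero, Nat.zero_mod]
          have h6 := Nat.one_le_pow n q (by omega)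
          omega
        have : Nat.Coprime (2 ^ 2) (q ^ n - 1) :=
          Nat.Coprime.pow_left 2 ((Nat.coprime_two_left).2 (Nat.odd_iff.2 h4))
        exact this
      rw [h3]
      exact one_dvd _
    · refine (Nat.gcd_dvd_left _ _).trans ?_
      rw [pow_two]
      exact mul_dvd_mul (show 2 ∣ q + 1 by omega) (show 2 ∣ q + 1 by omega)
  obtain ⟨e, he⟩ := hd
  refine ⟨e, by rw [mul_comm]; exact he.symm, Or.inl rfl, ?_⟩
  have h3 : ((ttor (.oplus n) q n : ℕ) : ℤ) * Nat.gcd 4 (q ^ n - 1) = (q : ℤ) ^ n - 1 := by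
    rw [← cast_pow_sub (by omega)]
    exact_mod_cast h1
  have h4 : ((ttor (.oplus n) q (2 * (n - 1)) : ℕ) : ℤ) * Nat.gcd 4 (q ^ n - 1) = ((q : ℤ) ^ (n - 1) + 1) * (q + 1) := by
    exact_mod_cast h2
  have h5 : ((q : ℤ) + 1) ^ 2 = Nat.gcd 4 (q ^ n - 1) * e := by exact_mod_cast he
  have h6 : (q : ℤ) ^ n = q * (q : ℤ) ^ (n - 1) := by
    rw [← pow_succ']
    congr 1
    omega
  have hg : ((Nat.gcd 4 (q ^ n - 1) : ℕ) : ℤ) ≠ 0 := by exact_mod_cast hg0.ne'
  apply mul_right_cancel₀ hg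
  linear_combination ((q : ℤ) + 1) * h3 + ((q : ℤ) + 1) * h6 - (q : ℤ) * h4 - h5

/-- the relation of `POmega^-_{2n}(q)` -/
theorem lin_ominus {n q : ℕ} (hn : 3 ≤ n) (hq : 2 ≤ q) :
    ∃ e : ℕ, e * Nat.gcd 4 (q ^ n + 1) = (q - 1) ^ 2 ∧
      LinRel q (-1) (ttor (.ominus n) q (2 * n)) (ttor (.ominus n) q (2 * (n - 1))) (-(e : ℤ)) := by
  obtain ⟨h1, h2, -⟩ := val_ominus hn hq
  have hg0 : 0 < Nat.gcd 4 (q ^ n + 1) := Nat.gcd_pos_of_pos_left _ (by omega)
  have hd : Nat.gcd 4 (q ^ n + 1) ∣ (q - 1) ^ 2 := by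
    rw [pow_two]
    exact gcd_minus (by omega) (fun h => by omega) (fun h => by omega)
  obtain ⟨e, he⟩ := hd
  refine ⟨e, by rw [mul_comm]; exact he.symm, Or.inr rfl, ?_⟩
  have hq1 : ((q - 1 : ℕ) : ℤ) = (q : ℤ) - 1 := by push_cast [Nat.cast_sub (show 1 ≤ q by omega)]; ring
  have h3 : ((ttor (.ominus n) q (2 * n) : ℕ) : ℤ) * Nat.gcd 4 (q ^ n + 1) = (q : ℤ) ^ n + 1 := by
    exact_mod_cast h1
  have h4 : ((ttor (.ominus n) q (2 * (n - 1)) : ℕ) : ℤ) * Nat.gcd 4 (q ^ n + 1) =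
      ((q : ℤ) ^ (n - 1) + 1) * (q - 1) := by
    rw [← hq1]
    exact_mod_cast h2
  have h5 : ((q : ℤ) - 1) ^ 2 = Nat.gcd 4 (q ^ n + 1) * e := by
    rw [← hq1]
    exact_mod_cast he
  have h6 : (q : ℤ) ^ n = q * (q : ℤ) ^ (n - 1) := by
    rw [← pow_succ']
    congr 1
    omega
  have hg : ((Nat.gcd 4 (q ^ n + 1) : ℕ) : ℤ) ≠ 0 := by exact_mod_cast hg0.ne'
  apply mul_right_cancel₀ hg
  linear_combination ((q : ℤ) - 1) * h3 + ((q : ℤ) - 1) * h6 - (q : ℤ) * h4 - h5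

end Cfsg.Agent.R2.Spec.E
end
end

-- part: R2/Spec/NA/Glue
section
prune_inst 0x4040034044c80000800188000420002001000052000008000c10002040b08800200c0080100000002100200810000000000000000400000000a000000000100000000140040d10808860000000000400000000000000000000000000000000000000000000
set_option linter.all false
open scoped Cfsg.Agent.FastGrp

-- part: R2/Spec/NA/TorTop2
section
/-!
# S3435, packets NON-A (helper27): the full torus `k + b = n` of `PSL_n`, `PSU_n`

* `exists_UM_full` : a torus element of `GL_k`, `GU_k` of order `AA k`, with determinant of order `AA 1`;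
* `torTopF` : `k + b = n`: an element `x` with `orderOf x * c = lcm (AA k, AA b)`, `c ∣ gcd (n, q ∓ 1)`.
-/

set_option autoImplicit false
set_option linter.unusedSectionVars false

namespace Cfsg.Agent.R2.Spec.NA

open Cfsg Cfsg.Agent.H426.LieFam Cfsg.Agent.R2.Spec Cfsg.Agent.R2.Spec.P1 Cfsg.Agent.R2.Spec.X5
open Cfsg.Agent.H403 Matrix
open Cfsg.Agent.H403.NumTop

universe u

section

variable {F : Type*} [Field F] [Fintype F]

theorem norm_pow_eq {K : Type*} [Field K] [Finite K] [Algebra F K] (z : Kˣ) {d s : ℕ}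
    (hs : (Nat.card K - 1) / (Nat.card F - 1) = s) :
    Algebra.norm F (z : K) ^ d = 1 ↔ orderOf z ∣ s * d := by
  rw [orderOf_dvd_iff_pow_eq_one, ← (algebraMap F K).injective.eq_iff, map_pow,
    FiniteField.algebraMap_norm_eq_pow, hs, map_one, Units.ext_iff, Units.val_pow_eq_pow_val, Units.val_one, pow_mul]

theorem exists_mat_full {q i : ℕ} (hF : Fintype.card F = q) (hi : 1 ≤ i) :
    ∃ M : Matrix (Fin i) (Fin i) F, orderOf M = q ^ i - 1 ∧ ∀ d, M.det ^ d = 1 → q - 1 ∣ d := by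
  obtain ⟨p, hp⟩ := CharP.exists F
  obtain ⟨k, hpp, hk⟩ := FiniteField.card F p
  have := Fact.mk hpp
  have : NeZero i := ⟨by omega⟩
  have : Finite (FiniteField.Extension F p i) := inferInstance
  have hcK : Nat.card (FiniteField.Extension F p i) = q ^ i := by
    rw [FiniteField.natCard_extension, Nat.card_eq_fintype_card, hF]
  have hcard : Nat.card (FiniteField.Extension F p i)ˣ = q ^ i - 1 := by
    rw [Nat.card_units, hcK]
  obtain ⟨z, hz⟩ := IsCyclic.exists_ofOrder_eq_natCard (α := (FiniteField.Extension F p i)ˣ)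
  have hfr : Module.finrank F (FiniteField.Extension F p i) = i := FiniteField.finrank_extension F p i
  let b : Module.Basis (Fin i) F (FiniteField.Extension F p i) := Module.finBasisOfFinrankEq _ _ hfr
  have hq2 : 2 ≤ q := by rw [← hF]; exact Fintype.one_lt_card
  refine ⟨Algebra.leftMulMatrix b (z : FiniteField.Extension F p i), ?_, ?_⟩
  · have h2 := orderOf_injective (Algebra.leftMulMatrix b).toRingHom.toMonoidHom
      (Algebra.leftMulMatrix_injective b) (z : FiniteField.Extension F p i)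
    exact h2.trans (by rw [orderOf_units, hz, hcard])
  · intro d hd
    rw [← Algebra.norm_eq_matrix_det b, norm_pow_eq z rfl, hz, hcard, hcK, Nat.card_eq_fintype_card, hF] at hd
    have h1 : q - 1 ∣ q ^ i - 1 := by
      have := Nat.sub_dvd_pow_sub_pow q 1 i
      rwa [one_pow] at this
    obtain ⟨s, hs⟩ := h1
    have hs0 : 0 < s := by
      rcases Nat.eq_zero_or_pos s with h0 | h0
      · rw [h0, mul_zero] at hs
        have : q ^ 1 ≤ q ^ i := Nat.pow_le_pow_right (by omega) hi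
        rw [pow_one] at this
        omega
      · exact h0
    rw [hs, Nat.mul_div_cancel_left _ (by omega), mul_comm (q - 1) s] at hd
    exact Nat.dvd_of_mul_dvd_mul_left hs0 hd

theorem hEltOf {q : ℕ} (hF : Fintype.card F = q ^ 2) {V : Type*} [AddCommGroup V] [Module F V]
    [FiniteDimensional F V] (σ : F →+* F) (hσ : ∀ a, σ a = a ^ q) (B : V →ₛₗ[σ] V →ₗ[F] F) (hS : B.IsSymm)
    (hB : B.Nondegenerate) (g : Module.End F V) (hg : ∀ x y, B (g x) (g y) = B x y) {n N : ℕ}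
    (hn : Module.finrank F V = n) (ho : orderOf g = N) :
    ∃ M : Matrix (Fin n) (Fin n) F, Mᵀ * M.map (fun x => x ^ q) = 1 ∧ orderOf M = N ∧ M.det = LinearMap.det g := by
  subst hn
  have hσ2 : ∀ a : F, σ (σ a) = a := by
    intro a
    rw [hσ, hσ, ← pow_mul, ← sq, ← hF, FiniteField.pow_card]
  have hσ1 : σ ≠ RingHom.id F := by
    intro h
    obtain ⟨z, hz⟩ := IsCyclic.exists_ofOrder_eq_natCard (α := Fˣ)
    have h1 : z ^ q = z := by
      apply Units.ext
      rw [Units.val_pow_eq_pow_val, ← hσ, h]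
      rfl
    have hq : 2 ≤ q := by
      have h1 : 1 < Fintype.card F := Fintype.one_lt_card
      rw [hF] at h1
      nlinarith only [h1]
    have h2 : z ^ (q - 1) = 1 := by
      have h3 : z ^ (q - 1) * z = z := by
        rw [← pow_succ, show q - 1 + 1 = q by omega, h1]
      exact mul_eq_right.1 h3
    have h3 := orderOf_dvd_of_pow_eq_one h2
    rw [hz, Nat.card_units, Nat.card_eq_fintype_card, hF] at h3
    have h4 := Nat.le_of_dvd (by omega) h3
    have h5 : q < q ^ 2 := by nlinarith only [hq]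
    omega
  obtain ⟨b, hb⟩ := S0755.result σ hσ1 hσ2 B hS hB
  refine ⟨LinearMap.toMatrixAlgEquiv b g, ?_, ?_, ?_⟩
  · ext i j
    rw [Matrix.mul_apply]
    have h1 : ∀ j, g (b j) = ∑ k, (LinearMap.toMatrixAlgEquiv b g) k j • b k := by
      intro j
      conv_lhs => rw [← b.sum_repr (g (b j))]
      simp only [LinearMap.toMatrixAlgEquiv_apply]
    have h2 := hg (b j) (b i)
    rw [h1 j, h1 i, hb] at h2
    simp only [map_sum, LinearMap.sum_apply, map_smul, LinearMap.smul_apply, LinearMap.map_smulₛₗ, hb, smul_eq_mul,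
      mul_ite, mul_one, mul_zero, Finset.sum_ite_eq', Finset.mem_univ, if_true] at h2
    rw [Matrix.one_apply]
    simp only [Matrix.transpose_apply, Matrix.map_apply]
    have h3 : (if i = j then (1 : F) else 0) = if j = i then 1 else 0 := by simp only [eq_comm]
    rw [h3, ← h2]
    refine Finset.sum_congr rfl fun k _ => ?_
    rw [hσ, mul_comm]
  · rw [← ho]
    exact orderOf_injective (LinearMap.toMatrixAlgEquiv b).toRingEquiv.toRingHom.toMonoidHom
      (LinearMap.toMatrixAlgEquiv b).injective g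
  · exact LinearMap.det_toMatrix b g

theorem hOdd {q i : ℕ} (hF : Fintype.card F = q ^ 2) (hi : Odd i) :
    ∃ M : Matrix (Fin i) (Fin i) F, Mᵀ * M.map (fun x => x ^ q) = 1 ∧ orderOf M = q ^ i + 1 ∧
      ∀ d, M.det ^ d = 1 → q + 1 ∣ d := by
  obtain ⟨p, j, hp, hch, hq⟩ := exists_pow_char hF
  have := Fact.mk hp
  have hi0 : 0 < i := hi.pos
  have : NeZero i := ⟨by omega⟩
  obtain ⟨σ, hσ⟩ := ClassicalGeometry.GUBasic.exists_powHom hF
  let K := FiniteField.Extension F p i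
  have hfin : Finite K := inferInstance
  have hchK : CharP K p := charP_of_injective_algebraMap (algebraMap F K).injective p
  let τ : K →+* K := iterateFrobenius K p (j * i)
  have hτ : ∀ y, τ y = y ^ (q ^ i) := by
    intro y
    change iterateFrobenius K p (j * i) y = _
    rw [iterateFrobenius_def, hq, ← pow_mul]
  have hcardK : Nat.card K = q ^ (2 * i) := by
    rw [FiniteField.natCard_extension, Nat.card_eq_fintype_card, hF, ← pow_mul]
  have hττ : ∀ y, τ (τ y) = y := by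
    intro y
    have : Fintype K := Fintype.ofFinite K
    rw [hτ, hτ, ← pow_mul, ← pow_add, show i + i = 2 * i by ring, ← hcardK, Nat.card_eq_fintype_card]
    exact FiniteField.pow_card y
  have hτF : ∀ a, τ (algebraMap F K a) = algebraMap F K (σ a) := by
    intro a
    rw [hτ, hσ, ← map_pow]
    congr 1
    obtain ⟨m, hm⟩ := hi
    rw [hm, pow_succ, pow_mul, pow_mul, ← hF, FiniteField.pow_card_pow]
  let B : K →ₛₗ[σ] K →ₗ[F] F := LinearMap.mk₂'ₛₗ σ (RingHom.id F) (fun x y => Algebra.trace F K (τ x * y))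
    (by intro x x' y; rw [map_add, add_mul, map_add])
    (by intro c x y; rw [Algebra.smul_def, map_mul τ, hτF, mul_assoc, ← Algebra.smul_def, map_smul])
    (by intro x y y'; rw [mul_add, map_add])
    (by intro c x y; rw [mul_smul_comm, map_smul]; rfl)
  have hB : ∀ x y, B x y = Algebra.trace F K (τ x * y) := fun x y => rfl
  have hsymm : ∀ x y, σ (B x y) = B y x := by
    intro x y
    rw [hB, hB, trace_comm σ τ hτ hτF, map_mul, hττ, mul_comm]
  have hsep : ∀ x, (∀ y, B x y = 0) → x = 0 := by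
    intro x hx
    have h1 := trace_nondeg (z := τ x) fun y => hx y
    exact τ.injective (by rw [h1, map_zero])
  have hN' : q ^ i + 1 ∣ Nat.card K - 1 := by
    rw [hcardK, mul_comm, pow_mul, ← one_pow 2, Nat.sq_sub_sq, one_pow]
    exact Dvd.dvd.mul_right dvd_rfl _
  obtain ⟨z, hz⟩ := exists_orderOf hN'
  have hz1 : τ (z : K) * (z : K) = 1 := by
    rw [hτ, ← pow_succ, ← Units.val_pow_eq_pow_val, orderOf_dvd_iff_pow_eq_one.1 (by rw [hz])]
    rfl
  obtain ⟨M, h1, h2, h3⟩ := hEltOf hF σ hσ B ⟨fun x y => hsymm x y⟩ ⟨fun x hx => hsep x hx, fun y hy => hsep y fun x => by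
    rw [← hsymm, hy x, map_zero]⟩
    (Algebra.lmul F K (z : K)) (by
      intro x y
      rw [hB, hB]
      simp only [Algebra.coe_lmul_eq_mul, LinearMap.mul_apply_apply, map_mul]
      congr 1
      calc τ (z : K) * τ x * ((z : K) * y) = (τ (z : K) * (z : K)) * (τ x * y) := by ring
        _ = τ x * y := by rw [hz1, one_mul]) (FiniteField.finrank_extension F p i) (N := q ^ i + 1) (by
      rw [← hz, ← orderOf_units]
      exact orderOf_injective (Algebra.lmul F K).toRingHom.toMonoidHom Algebra.lmul_injective (z : K))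
  refine ⟨M, h1, h2, fun d hd => ?_⟩
  rw [h3, ← Algebra.norm_apply] at hd
  have hq2 : 2 ≤ q := by
    have h1 : 1 < Fintype.card F := Fintype.one_lt_card
    rw [hF] at h1
    nlinarith only [h1]
  obtain ⟨s, hs⟩ : q - 1 ∣ q ^ i - 1 := by
    have := Nat.sub_dvd_pow_sub_pow q 1 i
    rwa [one_pow] at this
  obtain ⟨r, hr⟩ : q + 1 ∣ q ^ i + 1 := by
    have := Odd.nat_add_dvd_pow_add_pow q 1 hi
    rwa [one_pow] at this
  have hqi : 2 ≤ q ^ i := by
    calc 2 ≤ q := hq2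
      _ = q ^ 1 := (pow_one q).symm
      _ ≤ q ^ i := Nat.pow_le_pow_right (by omega) hi0
  have hr0 : 0 < r := by
    rcases Nat.eq_zero_or_pos r with h0 | h0
    · rw [h0, mul_zero] at hr
      omega
    · exact h0
  have hdiv : (Nat.card K - 1) / (Nat.card F - 1) = r * s := by
    rw [hcardK, Nat.card_eq_fintype_card, hF, mul_comm 2 i, pow_mul]
    have e1 : (q ^ i) ^ 2 - 1 = (q ^ i + 1) * (q ^ i - 1) := by rw [← one_pow 2, Nat.sq_sub_sq, one_pow]
    have e2 : q ^ 2 - 1 = (q + 1) * (q - 1) := by rw [← one_pow 2, Nat.sq_sub_sq, one_pow]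
    rw [e1, e2, hs, hr]
    apply Nat.div_eq_of_eq_mul_left
    · exact Nat.mul_pos (by omega) (by omega)
    · ring
  rw [norm_pow_eq z hdiv, hz, hr, mul_comm (q + 1) r, mul_assoc r s d] at hd
  have hd2 : q + 1 ∣ s * d := Nat.dvd_of_mul_dvd_mul_left hr0 hd
  refine Nat.Coprime.dvd_of_dvd_mul_left ?_ hd2
  -- `s ≡ 1`
  have h5 : (s : ℤ) ≡ 1 [ZMOD (q + 1 : ℕ)] := by
    have h6 : s = ∑ l ∈ Finset.range i, q ^ l := by
      have h7 := Nat.geomSum_eq hq2 i
      rw [h7, hs, Nat.mul_div_cancel_left _ (by omega)]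
    have h8 : ((q : ℤ)) ≡ -1 [ZMOD ((q + 1 : ℕ) : ℤ)] := by
      rw [Int.modEq_iff_dvd]
      refine ⟨-1, ?_⟩
      push_cast
      ring
    rw [h6]
    push_cast
    have h9 : (∑ l ∈ Finset.range i, (q : ℤ) ^ l) ≡ ∑ l ∈ Finset.range i, (-1 : ℤ) ^ l [ZMOD ((q + 1 : ℕ) : ℤ)] := by
      apply Int.ModEq.sum
      intro l _
      exact h8.pow l
    have h10 : ∑ l ∈ Finset.range i, (-1 : ℤ) ^ l = 1 := by
      rw [neg_one_geom_sum, if_neg (by rwa [Nat.not_even_iff_odd])]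
    rw [h10] at h9
    exact_mod_cast h9
  have h6 : IsCoprime ((q + 1 : ℕ) : ℤ) (s : ℤ) := by
    obtain ⟨c, hc⟩ := h5.symm.dvd
    exact ⟨-c, 1, by linarith only [hc]⟩
  exact Nat.isCoprime_iff_coprime.1 h6

theorem hEven {q m : ℕ} (hF : Fintype.card F = q ^ 2) (hm : 1 ≤ m) :
    ∃ M : Matrix (Fin (2 * m)) (Fin (2 * m)) F, Mᵀ * M.map (fun x => x ^ q) = 1 ∧ orderOf M = q ^ (2 * m) - 1 ∧
      ∀ d, M.det ^ d = 1 → q + 1 ∣ d := by
  obtain ⟨p, j, hp, hch, hq⟩ := exists_pow_char hF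
  have := Fact.mk hp
  have : NeZero m := ⟨by omega⟩
  obtain ⟨σ, hσ⟩ := ClassicalGeometry.GUBasic.exists_powHom hF
  have hσσ : ∀ a, σ (σ a) = a := by
    intro a
    rw [hσ, hσ, ← pow_mul, ← sq, ← hF, FiniteField.pow_card]
  let K := FiniteField.Extension F p m
  have hfin : Finite K := inferInstance
  have hchK : CharP K p := charP_of_injective_algebraMap (algebraMap F K).injective p
  let θ : K →+* K := iterateFrobenius K p j
  have hθ : ∀ y, θ y = y ^ q := by
    intro y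
    change iterateFrobenius K p j y = _
    rw [iterateFrobenius_def, hq]
  have hcardK : Nat.card K = q ^ (2 * m) := by
    rw [FiniteField.natCard_extension, Nat.card_eq_fintype_card, hF, ← pow_mul]
  have hθF : ∀ a, θ (algebraMap F K a) = algebraMap F K (σ a) := by
    intro a
    rw [hθ, hσ, ← map_pow]
  have hθs : Function.Surjective θ := Finite.surjective_of_injective θ.injective
  let β : K → K → F := fun a d => Algebra.trace F K (θ a * d)
  have hβ : ∀ a d, β a d = Algebra.trace F K (θ a * d) := fun a d => rfl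
  have β1 : ∀ a a' d, β (a + a') d = β a d + β a' d := by intro a a' d; simp only [hβ, map_add, add_mul]
  have β2 : ∀ a d d', β a (d + d') = β a d + β a d' := by intro a d d'; simp only [hβ, map_add, mul_add]
  have β3 : ∀ (c : F) a d, β (c • a) d = σ c * β a d := by
    intro c a d
    simp only [hβ]
    rw [Algebra.smul_def, map_mul θ, hθF, mul_assoc, ← Algebra.smul_def, map_smul, smul_eq_mul]
  have β4 : ∀ (c : F) a d, β a (c • d) = c * β a d := by
    intro c a d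
    simp only [hβ]
    rw [mul_smul_comm, map_smul, smul_eq_mul]
  let B : K × K →ₛₗ[σ] K × K →ₗ[F] F := LinearMap.mk₂'ₛₗ σ (RingHom.id F)
    (fun x y => β x.1 y.2 + σ (β y.1 x.2))
    (by
      intro x x' y
      simp only [Prod.fst_add, Prod.snd_add, β1, β2, map_add]
      ring)
    (by
      intro c x y
      simp only [Prod.smul_fst, Prod.smul_snd, β3, β4, map_mul, smul_eq_mul]
      ring)
    (by
      intro x y y'
      simp only [Prod.fst_add, Prod.snd_add, β1, β2, map_add]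
      ring)
    (by
      intro c x y
      simp only [Prod.smul_fst, Prod.smul_snd, β3, β4, map_mul, hσσ, smul_eq_mul, RingHom.id_apply]
      ring)
  have hB : ∀ x y, B x y = β x.1 y.2 + σ (β y.1 x.2) := fun x y => rfl
  have hsymm : ∀ x y, σ (B x y) = B y x := by
    intro x y
    rw [hB, hB, map_add, hσσ, add_comm]
  have hsep : ∀ x, (∀ y, B x y = 0) → x = 0 := by
    intro x hx
    have h1 : x.1 = 0 := by
      have h2 := trace_nondeg (F := F) (z := θ x.1) fun y => by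
        have h3 := hx (0, y)
        rw [hB] at h3
        simpa only [hβ, _root_.map_zero, _root_.MulZeroClass.zero_mul, _root_.add_zero] using h3
      exact θ.injective (by rw [h2, map_zero])
    have h2 : x.2 = 0 := by
      refine trace_nondeg (F := F) fun y => ?_
      obtain ⟨w, rfl⟩ := hθs y
      have h3 := hx (w, 0)
      rw [hB] at h3
      have h4 : σ (β w x.2) = 0 := by simpa only [hβ, _root_.map_eq_zero, _root_.MulZeroClass.mul_zero, _root_.map_zero, _root_.zero_add] using h3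
      have h5 : β w x.2 = 0 := σ.injective (by rw [h4, map_zero])
      rw [mul_comm]
      exact h5
    exact Prod.ext h1 h2
  obtain ⟨z, hz⟩ := exists_orderOf (K := K) (N := Nat.card K - 1) dvd_rfl
  let f : K × K →* Module.End F (K × K) :=
    { toFun := fun t => LinearMap.prodMap (Algebra.lmul F K t.1) (Algebra.lmul F K t.2)
      map_one' := by ext <;> simp only [_root_.Prod.fst_one, _root_.Algebra.coe_lmul_eq_mul, _root_.Prod.snd_one, _root_.LinearMap.coe_comp, _root_.LinearMap.coe_inl, _root_.Function.comp_apply, _root_.LinearMap.prodMap_apply, _root_.LinearMap.mul_apply_apply, _root_.one_mul, _root_.MulZeroClass.mul_zero, _root_.Module.End.one_apply, _root_.LinearMap.coe_inr]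
      map_mul' := fun s t => by ext <;> simp only [mul_assoc, _root_.Prod.fst_mul, _root_.Algebra.coe_lmul_eq_mul, _root_.Prod.snd_mul, _root_.LinearMap.coe_comp, _root_.LinearMap.coe_inl, _root_.Function.comp_apply, _root_.LinearMap.prodMap_apply, _root_.LinearMap.mul_apply_apply, _root_.MulZeroClass.mul_zero, _root_.Module.End.mul_apply, _root_.LinearMap.coe_inr] }
  have hf : Function.Injective f := by
    intro s t hst
    have h1 := LinearMap.congr_fun hst (1, 1)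
    have h2 : (s.1 * 1, s.2 * 1) = (t.1 * 1, t.2 * 1) := h1
    rw [mul_one, mul_one, mul_one, mul_one] at h2
    exact Prod.ext (congrArg Prod.fst h2) (congrArg Prod.snd h2)
  obtain ⟨M, h1, h2, h3⟩ := hEltOf hF σ hσ B ⟨fun x y => hsymm x y⟩ ⟨fun x hx => hsep x hx, fun y hy => hsep y fun x => by
    rw [← hsymm, hy x, map_zero]⟩
    (f ((z : K), θ ((z⁻¹ : Kˣ) : K))) (by
      have key : ∀ a d, β ((z : K) * a) (θ ((z⁻¹ : Kˣ) : K) * d) = β a d := by
        intro a d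
        simp only [hβ]
        congr 1
        have : θ (z : K) * θ ((z⁻¹ : Kˣ) : K) = 1 := by rw [← map_mul, Units.mul_inv, map_one]
        rw [map_mul]
        calc θ (z : K) * θ a * (θ ((z⁻¹ : Kˣ) : K) * d) = (θ (z : K) * θ ((z⁻¹ : Kˣ) : K)) * (θ a * d) := by ring
          _ = θ a * d := by rw [this, one_mul]
      intro x y
      rw [hB, hB]
      change β ((z : K) * x.1) (θ ((z⁻¹ : Kˣ) : K) * y.2) + σ (β ((z : K) * y.1) (θ ((z⁻¹ : Kˣ) : K) * x.2)) = _
      rw [key, key]) (n := 2 * m) (by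
      rw [Module.finrank_prod, FiniteField.finrank_extension F p m]
      ring) (N := q ^ (2 * m) - 1) (by
      rw [orderOf_injective f hf, Prod.orderOf, ← hcardK, ← hz, ← orderOf_units]
      have h1 : orderOf (θ ((z⁻¹ : Kˣ) : K)) = orderOf (z : K) := by
        refine (orderOf_injective θ.toMonoidHom θ.injective _).trans ?_
        rw [orderOf_units, orderOf_inv, ← orderOf_units]
      rw [h1]
      exact Nat.lcm_self _)
  refine ⟨M, h1, h2, fun d hd => ?_⟩
  have hdet : LinearMap.det (f ((z : K), θ ((z⁻¹ : Kˣ) : K))) =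
      Algebra.norm F (z : K) * Algebra.norm F (θ ((z⁻¹ : Kˣ) : K)) := by
    change LinearMap.det (LinearMap.prodMap (Algebra.lmul F K (z : K)) (Algebra.lmul F K (θ ((z⁻¹ : Kˣ) : K)))) = _
    rw [LinearMap.det_prodMap]
    rfl
  have hq2 : 2 ≤ q := by
    have h1 : 1 < Fintype.card F := Fintype.one_lt_card
    rw [hF] at h1
    nlinarith only [h1]
  have hval : ∀ d : ℕ, M.det ^ d = 1 → Algebra.norm F (z : K) ^ ((q - 1) * d) = 1 := by
    intro d hd
    rw [h3, hdet, hθ, map_pow] at hd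
    have h4 : Algebra.norm F (z : K) * Algebra.norm F ((z⁻¹ : Kˣ) : K) = 1 := by
      rw [← map_mul, Units.mul_inv, map_one]
    set a := Algebra.norm F (z : K) with ha
    set b := Algebra.norm F ((z⁻¹ : Kˣ) : K) with hb
    -- `(a b^q)^d = 1`, `ab = 1` : `b ^ ((q-1) d) = 1`
    have h5 : a * b ^ q = b ^ (q - 1) := by
      have : b ^ q = b ^ (q - 1) * b := by rw [← pow_succ, Nat.sub_add_cancel (by omega)]
      rw [this, mul_comm (b ^ (q - 1)) b, ← mul_assoc, h4, one_mul]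
    rw [h5, ← pow_mul] at hd
    calc a ^ ((q - 1) * d) = a ^ ((q - 1) * d) * b ^ ((q - 1) * d) := by rw [hd, mul_one]
      _ = 1 := by rw [← mul_pow, h4, one_pow]
  have h6 := hval d hd
  obtain ⟨s, hs⟩ : q ^ 2 - 1 ∣ q ^ (2 * m) - 1 := by
    have := Nat.sub_dvd_pow_sub_pow (q ^ 2) 1 m
    rwa [one_pow, ← pow_mul] at this
  have hq21 : 0 < q ^ 2 - 1 := by
    have : 2 ^ 2 ≤ q ^ 2 := Nat.pow_le_pow_left hq2 2
    omega
  have hs0 : 0 < s := by
    rcases Nat.eq_zero_or_pos s with h0 | h0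
    · rw [h0, mul_zero] at hs
      have : 2 ^ 1 ≤ q ^ (2 * m) := (Nat.pow_le_pow_left hq2 1).trans (Nat.pow_le_pow_right (by omega) (by omega))
      omega
    · exact h0
  rw [norm_pow_eq z (s := s) (by
    rw [hcardK, Nat.card_eq_fintype_card, hF, hs, Nat.mul_div_cancel_left _ hq21]), hz, hcardK, hs,
    mul_comm (q ^ 2 - 1) s] at h6
  have h7 := Nat.dvd_of_mul_dvd_mul_left hs0 h6
  have e2 : q ^ 2 - 1 = (q - 1) * (q + 1) := by rw [← one_pow 2, Nat.sq_sub_sq, one_pow, mul_comm]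
  rw [e2] at h7
  exact Nat.dvd_of_mul_dvd_mul_left (by omega) h7

/-- one torus of `GL`, `GU`, with the determinant of the largest order -/
theorem exists_UM_full {e : Bool} {q : ℕ} (hF : Fintype.card F = q ^ (cond e 0 1 + 1)) {k : ℕ} (hk : 1 ≤ k) :
    ∃ A : Matrix (Fin k) (Fin k) F, UM e q A ∧ orderOf A = AA e k q ∧ orderOf A.det = AA e 1 q := by
  have hq : 2 ≤ q := two_le_of_card hF
  have main : ∃ A : Matrix (Fin k) (Fin k) F, UM e q A ∧ orderOf A = AA e k q ∧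
      ∀ d, A.det ^ d = 1 → AA e 1 q ∣ d := by
    cases e with
    | true =>
      have hF' : Fintype.card F = q := by simpa using hF
      obtain ⟨A, hA, hd⟩ := exists_mat_full hF' hk
      refine ⟨A, (fun h => by cases h), by rw [hA]; simp [AA], fun d h => ?_⟩
      rw [AA_one]
      exact hd d h
    | false =>
      have hF' : Fintype.card F = q ^ 2 := by simpa using hF
      rcases Nat.even_or_odd k with he | ho
      · obtain ⟨m, hm⟩ := he
        have hm' : k = 2 * m := by omega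
        have h3 : AA false k q = q ^ k - 1 := by
          unfold AA
          have : k % 2 = 0 := by omega
          simp [this]
        subst hm'
        obtain ⟨A, h1, h2, h4⟩ := hEven hF' (m := m) (by omega)
        refine ⟨A, fun _ => h1, by rw [h2, h3], fun d h => ?_⟩
        rw [AA_one]
        exact h4 d h
      · have h3 : AA false k q = q ^ k + 1 := by
          unfold AA
          have : k % 2 = 1 := Nat.odd_iff.1 ho
          simp [this]
        obtain ⟨A, h1, h2, h4⟩ := hOdd hF' ho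
        refine ⟨A, fun _ => h1, by rw [h2, h3], fun d h => ?_⟩
        rw [AA_one]
        exact h4 d h
  obtain ⟨A, hA, hoA, hd⟩ := main
  have hpos := AA_pos' (e := e) hk hq
  have hA0 : A.det ≠ 0 := by
    intro h0
    have h1 : A.det ^ AA e k q = 1 := by
      rw [← hoA, ← Matrix.det_pow, pow_orderOf_eq_one, Matrix.det_one]
    rw [h0, zero_pow hpos.ne'] at h1
    exact zero_ne_one h1
  exact ⟨A, hA, hoA, Nat.dvd_antisymm (orderOf_dvd_of_pow_eq_one (det_AA hF hA hA0)) (hd _ (pow_orderOf_eq_one _))⟩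

/-- **Two blocks, no room**, general determinants. -/
theorem exists_two_topF {e : Bool} {n q : ℕ} {L : Type*} [Group L] (h : IsL L e n q F)
    (hF : Fintype.card F = q ^ (cond e 0 1 + 1)) (hn : 3 ≤ n) {k b N₁ N₂ : ℕ}
    (hkb : k + b = n) (hN₁ : 0 < N₁) (hN₂ : 0 < N₂)
    {A : Matrix (Fin k) (Fin k) F} (hA : UM e q A)
    (hoA : orderOf A = N₁) {B : Matrix (Fin b) (Fin b) F} (hB : UM e q B) (hoB : orderOf B = N₂)
    (hdAB : A.det * B.det = 1) :
    ∃ x : L, ∃ c, orderOf x * c = Nat.lcm N₁ N₂ ∧ c ∣ Nat.gcd n (AA e 1 q) := by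
  have hq : 2 ≤ q := two_le_of_card hF
  have hAN : A ^ N₁ = 1 := by rw [← hoA]; exact pow_orderOf_eq_one A
  have hBN : B ^ N₂ = 1 := by rw [← hoB]; exact pow_orderOf_eq_one B
  let σ : (Fin k ⊕ Fin b) ≃ Fin n := Fintype.equivFinOfCardEq (by simp only [_root_.Fintype.card_sum, _root_.Fintype.card_fin]; omega)
  let C : Matrix (Fin n) (Fin n) F := reindexAlgEquiv F F σ (fromBlocks A 0 0 B)
  have hCU : UM e q C := UM.reindex σ (UM.block (by omega) hA hB)
  have hCdet : C.det = 1 := by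
    show (Matrix.reindex σ σ _).det = 1
    rw [Matrix.det_reindex_self, Matrix.det_fromBlocks_zero₂₁, hdAB]
  have hCpow : ∀ j, C ^ j = reindexAlgEquiv F F σ (fromBlocks (A ^ j) 0 0 (B ^ j)) := by
    intro j
    show (reindexAlgEquiv F F σ _) ^ j = _
    rw [← map_pow, fromBlocks_pow']
  obtain ⟨x, hx1, hx2⟩ := IsL_exists h hF hn hCdet hCU
  have hlcm1 : x ^ Nat.lcm N₁ N₂ = 1 := by
    apply hx1
    obtain ⟨a, ha⟩ := Nat.dvd_lcm_left N₁ N₂
    obtain ⟨b', hb'⟩ := Nat.dvd_lcm_right N₁ N₂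
    have h1 : A ^ Nat.lcm N₁ N₂ = 1 := by rw [ha, pow_mul, hAN, one_pow]
    have h2 : B ^ Nat.lcm N₁ N₂ = 1 := by rw [hb', pow_mul, hBN, one_pow]
    rw [hCpow, h1, h2]
    simp
  have key : ∀ j, x ^ j = 1 → ∃ c : F, A ^ j = Matrix.diagonal (fun _ => c) ∧ B ^ j = Matrix.diagonal (fun _ => c) ∧
      c ^ n = 1 ∧ c ^ AA e 1 q = 1 := by
    intro j hj
    obtain ⟨c, hc, hcn, hcq⟩ := hx2 j hj
    rw [hCpow] at hc
    have hent : ∀ i i', (fromBlocks (A ^ j) 0 0 (B ^ j)) i i' = if i = i' then c else 0 := by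
      intro i i'
      have h1 := congrFun (congrFun hc (σ i)) (σ i')
      rw [Matrix.diagonal_apply] at h1
      simp only [σ.injective.eq_iff] at h1
      rw [← h1]
      simp [coe_reindexAlgEquiv]
    refine ⟨c, ?_, ?_, hcn, hcq⟩
    · ext i i'
      have := hent (Sum.inl i) (Sum.inl i')
      rw [Matrix.diagonal_apply]
      simpa using this
    · ext i i'
      have := hent (Sum.inr i) (Sum.inr i')
      rw [Matrix.diagonal_apply]
      simpa using this
  obtain ⟨c, hc⟩ := orderOf_dvd_of_pow_eq_one hlcm1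
  have hlpos : 0 < Nat.lcm N₁ N₂ := Nat.lcm_pos hN₁ hN₂
  have hxpos : 0 < orderOf x := by
    rcases Nat.eq_zero_or_pos (orderOf x) with h0 | h0
    · rw [h0, zero_mul] at hc
      omega
    · exact h0
  obtain ⟨z, hzA, hzB, hzn, hzq⟩ := key _ (pow_orderOf_eq_one x)
  have hd : ∀ d, z ^ d = 1 → Nat.lcm N₁ N₂ ∣ orderOf x * d := by
    intro d hzd
    apply Nat.lcm_dvd
    · rw [← hoA]
      apply orderOf_dvd_of_pow_eq_one
      rw [pow_mul, hzA, Matrix.diagonal_pow]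
      have : (fun _ : Fin k => z) ^ d = 1 := by funext i; simpa only [_root_.Pi.pow_apply, _root_.Pi.one_apply] using hzd
      rw [this]
      exact Matrix.diagonal_one
    · rw [← hoB]
      apply orderOf_dvd_of_pow_eq_one
      rw [pow_mul, hzB, Matrix.diagonal_pow]
      have : (fun _ : Fin b => z) ^ d = 1 := by funext i; simpa using hzd
      rw [this]
      exact Matrix.diagonal_one
  refine ⟨x, c, hc.symm, ?_⟩
  have h1 : z ^ Nat.gcd n (AA e 1 q) = 1 := by
    rw [← orderOf_dvd_iff_pow_eq_one]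
    exact Nat.dvd_gcd (orderOf_dvd_of_pow_eq_one hzn) (orderOf_dvd_of_pow_eq_one hzq)
  have h2 := hd _ h1
  rw [hc] at h2
  exact Nat.dvd_of_mul_dvd_mul_left hxpos h2

/-- lifting of units -/
theorem exists_coprime_lift {n m j : ℕ} (hm : m ≠ 0) (h : n ∣ m) (hj : Nat.Coprime j n) :
    ∃ l : ℕ, Nat.Coprime l m ∧ l % n = j % n := by
  have : NeZero m := ⟨hm⟩
  obtain ⟨u, hu⟩ := ZMod.unitsMap_surjective h (ZMod.unitOfCoprime j hj)
  refine ⟨(u : ZMod m).val, ZMod.val_coe_unit_coprime u, ?_⟩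
  have h1 := congrArg (fun x : (ZMod n)ˣ => (x : ZMod n)) hu
  simp only [ZMod.unitsMap_val, ZMod.coe_unitOfCoprime] at h1
  have h2 : (((u : ZMod m).val : ℕ) : ZMod n) = (j : ZMod n) := by
    rw [← h1, ZMod.natCast_val]
  exact (ZMod.natCast_eq_natCast_iff' _ _ _).1 h2

/-- **Two tori, no room.** -/
theorem torTopF' {p f : ℕ} (hp : p.Prime) [CharP F p] {e : Bool} {n q : ℕ} {L : Type*} [Group L] (hqf : q = p ^ f)
    (h : IsL L e n q F)
    (hF : Fintype.card F = q ^ (cond e 0 1 + 1)) (hn : 3 ≤ n) {k b : ℕ}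
    (hk : 1 ≤ k) (hb : 1 ≤ b) (hkb : k + b = n) :
    ∃ x : L, ∃ c, orderOf x * c = Nat.lcm (AA e k q) (AA e b q) ∧ c ∣ Nat.gcd n (AA e 1 q) := by
  have hq : 2 ≤ q := two_le_of_card hF
  obtain ⟨A, hA, hoA, hdA⟩ := exists_UM_full (F := F) (e := e) hF hk
  obtain ⟨B, hB, hoB, hdB⟩ := exists_UM_full (F := F) (e := e) hF hb
  have hpos1 := AA_pos' (e := e) (k := 1) le_rfl hq
  have hposb := AA_pos' (e := e) hb hq
  have : NeZero (AA e 1 q) := ⟨hpos1.ne'⟩
  have hprim : IsPrimitiveRoot B.det (AA e 1 q) := by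
    rw [← hdB]
    exact IsPrimitiveRoot.orderOf _
  have hinv : orderOf (A.det)⁻¹ = AA e 1 q := by
    rw [← hdA]
    exact orderOf_eq_orderOf_iff.2 fun n => by rw [inv_pow, inv_eq_one]
  obtain ⟨j, -, hj⟩ := hprim.eq_pow_of_pow_eq_one (ξ := (A.det)⁻¹) (by rw [← hinv]; exact pow_orderOf_eq_one _)
  have hjc : Nat.Coprime j (AA e 1 q) := by
    have h1 := hinv
    rw [← hj] at h1
    have h2 : IsPrimitiveRoot (B.det ^ j) (AA e 1 q) := by
      rw [← h1]
      exact IsPrimitiveRoot.orderOf _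
    exact (hprim.pow_iff_coprime hpos1 j).1 h2
  obtain ⟨l, hl, hlj⟩ := exists_coprime_lift (n := AA e 1 q) (m := AA e b q) hposb.ne' (AA_one_dvd (by omega)) hjc
  refine exists_two_topF h hF hn hkb (AA_pos' hk hq) hposb hA hoA (B := B ^ l) (UM.pow hp hqf hB l) ?_ ?_
  · rw [Nat.Coprime.orderOf_pow (by rw [hoB]; exact hl.symm), hoB]
  · have h1 : B.det ^ l = B.det ^ j := by
      rw [← pow_mod_orderOf, ← pow_mod_orderOf B.det j, hdB, hlj]
    rw [Matrix.det_pow, h1, hj]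
    apply mul_inv_cancel₀
    intro h0
    rw [h0, _root_.inv_zero] at hj
    have h2 : orderOf (0 : F) = AA e 1 q := by rw [← hdA, h0]
    have h3 : (0 : F) ^ AA e 1 q = 1 := by rw [← h2]; exact pow_orderOf_eq_one _
    rw [zero_pow hpos1.ne'] at h3
    exact zero_ne_one h3

end

/-- **Two tori, no room.** -/
theorem torTopF {t : Fam} {p f n : ℕ} {e : Bool} {X : Type u} [Group X] (hp : p.Prime) (h : Fam.Is p f X t)
    (ht : IsA t n e) (hn : 3 ≤ n) {k b : ℕ} (hk : 1 ≤ k) (hb : 1 ≤ b) (hkb : k + b = n) :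
    ∃ x : X, ∃ c, orderOf x * c = Nat.lcm (AA e k (p ^ f)) (AA e b (p ^ f)) ∧
      c ∣ Nat.gcd n (AA e 1 (p ^ f)) := by
  cases t with
  | psl n' =>
    obtain ⟨rfl, rfl⟩ := ht
    obtain ⟨-, -, F, _, _, hch, hF, E⟩ := h
    exact torTopF' (F := F) (e := true) hp rfl (show IsL X true n' (p ^ f) F from E) (by simpa using hF) hn hk hb hkb
  | psu n' =>
    obtain ⟨rfl, rfl⟩ := ht
    obtain ⟨-, -, F, _, _, hch, hF, E⟩ := h
    exact torTopF' (F := F) (e := false) hp rfl (show IsL X false n' (p ^ f) F from E) (by simpa using hF) hn hk hb hkb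
  | _ => exact ht.elim

end Cfsg.Agent.R2.Spec.NA
end

-- part: R2/Spec/NA/Glue
section
/-!
# S3435, packet NA-GLUE (helper27): the divisibilities for `S = L_m(u)`, `U_m(u)`

`duel_A` : from `Duel t p f i j t' v f' i' k w H S`, `t' = psl m / psu m`, `k` not isolated: with `A = AA e · (v ^ f')`,
`N = ttor t (p ^ f) j`, `d' = gcd m (A 1)`:
* `k + 2 ≤ m`, `3 ≤ k`, `A k ∣ N`;
* `lcm (A k) (A b) ∣ N` for `k + b + 2 ≤ m`; `∣ d' * N` for `k + b + 1 ≤ m`;
* `lcm (A k) (A (m - k)) ∣ d' * N`.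
-/

set_option autoImplicit false

namespace Cfsg.Agent.R2.Spec.NA

open Cfsg Cfsg.Agent.H426.LieFam Cfsg.Agent.R2.Spec Cfsg.Agent.R2.Spec.P1 Cfsg.Agent.R2.Spec.X5
open Cfsg.Agent.H403 Cfsg.Agent.H403.NumTop Cfsg.Agent.R2.Spec.E

universe u

/-- the divisibilities -/
structure DvA (e : Bool) (m k u N : ℕ) : Prop where
  k3 : 3 ≤ k
  km : k + 2 ≤ m
  one : AA e k u ∣ N
  two : ∀ b : ℕ, 1 ≤ b → k + b + 2 ≤ m → Nat.lcm (AA e k u) (AA e b u) ∣ N
  two' : ∀ b : ℕ, 1 ≤ b → k + b + 1 ≤ m → Nat.lcm (AA e k u) (AA e b u) ∣ Nat.gcd m (AA e 1 u) * N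
  top : Nat.lcm (AA e k u) (AA e (m - k) u) ∣ Nat.gcd m (AA e 1 u) * N

theorem cls_A {t : Fam} {n : ℕ} {e : Bool} (ht : IsA t n e) (q r : ℕ) :
    cls t q r = orderOf ((xv e q : ℤ) : ZMod r) := by
  cases t with
  | psl n' => obtain ⟨-, rfl⟩ := ht; rfl
  | psu n' => obtain ⟨-, rfl⟩ := ht; rfl
  | _ => exact ht.elim

theorem mem_A {t : Fam} {n : ℕ} {e : Bool} (ht : IsA t n e) (i : ℕ) : mem t i ↔ i ≤ n := by
  cases t with
  | psl n' => obtain ⟨rfl, -⟩ := ht; exact Iff.rfl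
  | psu n' => obtain ⟨rfl, -⟩ := ht; exact Iff.rfl
  | _ => exact ht.elim

theorem top_A {t : Fam} {n : ℕ} {e : Bool} (ht : IsA t n e) (i : ℕ) :
    P1.top t i ↔ 3 ≤ i ∧ (i = n ∨ i + 1 = n) := by
  cases t with
  | psl n' => obtain ⟨rfl, -⟩ := ht; exact Iff.rfl
  | psu n' => obtain ⟨rfl, -⟩ := ht; exact Iff.rfl
  | _ => exact ht.elim

/-- **The divisibilities** from the structure of the orders divisible by `w`. -/
theorem dvA_of {t' : Fam} {v f' k w N m : ℕ} {e : Bool} {S : Type u} [Group S] (hv : v.Prime) (hS : Fam.Is v f' S t')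
    (ht : IsA t' m e) (hw : w.Prime) (hc : cls t' (v ^ f') w = k) (hk : 3 ≤ k) (hm : mem t' k) (hk' : ¬ P1.top t' k)
    (ho : ∀ x : S, w ∣ orderOf x → orderOf x ∣ N) : DvA e m k (v ^ f') N := by
  have hu : 1 ≤ v ^ f' := Nat.pow_pos hv.pos
  rw [mem_A ht] at hm
  rw [top_A ht] at hk'
  have hkm : k + 2 ≤ m := by omega
  rw [cls_A ht] at hc
  have h1 : w ∣ AA e k (v ^ f') := by
    rw [dvd_AA_iff hu, ← hc]
    exact pow_orderOf_eq_one _
  have h2 : ¬ w ∣ AA e 1 (v ^ f') := by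
    rw [dvd_AA_iff hu, ← orderOf_dvd_iff_pow_eq_one, hc]
    intro h
    have := Nat.le_of_dvd (by omega) h
    omega
  have key : ∀ (x : S) (c b : ℕ), orderOf x * c = Nat.lcm (AA e k (v ^ f')) (AA e b (v ^ f')) →
      c ∣ Nat.gcd m (AA e 1 (v ^ f')) → Nat.lcm (AA e k (v ^ f')) (AA e b (v ^ f')) ∣ c * N := by
    intro x c b hx hcc
    have h3 : w ∣ orderOf x * c := by
      rw [hx]
      exact h1.trans (Nat.dvd_lcm_left _ _)
    rcases hw.dvd_mul.1 h3 with h4 | h4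
    · rw [← hx, mul_comm]
      exact Nat.mul_dvd_mul_left c (ho x h4)
    · exact (h2 ((h4.trans hcc).trans (Nat.gcd_dvd_right _ _))).elim
  refine ⟨hk, hkm, ?_, ?_, ?_, ?_⟩
  · obtain ⟨x, c, hx, -, hc1⟩ := torL_one hS ht (by omega) (k := k) (by omega) (by omega)
    have := hc1 hkm
    rw [this, mul_one] at hx
    rw [← hx]
    exact ho x (by rw [hx]; exact h1)
  · intro b hb hkb
    obtain ⟨x, c, hx, hcc, hc1⟩ := torL hS ht (by omega) (k := k) (b := b) (by omega) hb (by omega)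
    have h5 := key x c b hx hcc
    rwa [hc1 hkb, one_mul] at h5
  · intro b hb hkb
    obtain ⟨x, c, hx, hcc, -⟩ := torL hS ht (by omega) (k := k) (b := b) (by omega) hb (by omega)
    exact (key x c b hx hcc).trans (Nat.mul_dvd_mul_right hcc N)
  · obtain ⟨x, c, hx, hcc⟩ := torTopF hv hS ht (by omega) (k := k) (b := m - k) (by omega) (by omega) (by omega)
    exact (key x c _ hx hcc).trans (Nat.mul_dvd_mul_right hcc N)

/-- **NA-GLUE** -/
theorem duel_A {t : Fam} {p f i j : ℕ} {t' : Fam} {v f' i' k w H m : ℕ} {e : Bool} {S : Type u} [Group S]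
    (D : Duel t p f i j t' v f' i' k w H S) (ht : IsA t' m e) (hk : ¬ P1.top t' k) :
    DvA e m k (v ^ f') (ttor t (p ^ f) j) :=
  dvA_of D.v_prime D.is ht D.w_prime D.clsw' D.j'3 D.memj' hk D.ordw

end Cfsg.Agent.R2.Spec.NA
end
end
end
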