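import Cfsg.Agent.H402.LwU43_m3
import Cfsg.Agent.H77.E4Num
import Cfsg.Agent.H321.SpecEven.Ident
import Cfsg.Agent.H77.E4Kill_m3
import Cfsg.Agent.H403.S88.DatEx_mg_m3
import Cfsg.Agent.R2.Spec.X4.H10.Num_m3
import Cfsg.Agent.H360.Iso.Alt_m3
import Cfsg.Agent.H363.PslCard
import Cfsg.Agent.H481.OddAut.Main_m3
import Cfsg.Agent.H390.PslSpec
import Cfsg.Agent.H367.CV.PsuOdd_mg_m3
import Cfsg.Agent.H229.T.Upper_m3
import Cfsg.Agent.Prune
set_option linter.all false

section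
prune_inst 0x7ffbf8f87bbcafffffff7e7ffe91dffc1bd5dfffefdff943ffe8e9ff8f5f039a09e56b8d0de058ff0ed6e07610b87813fb7eeeffe36fd87ffffdbff41ffbee0fe5f6b50151d588340f3c0ff783f0778e7f3fffffffffffffffffffffffffffbeffbfffffffff

-- part: R2/Spec/X6/Base
section
prune_inst 0x405048403100000000000014820002000000010000208000612003020b004100894201000a0004101048028018040000001000c000400000040004000005010010a8400022100d0c240086800080000000000000000000000000000000000004000000000
set_option linter.all false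
open scoped Cfsg.Agent.FastGrp

-- part: R2/Spec/X6/Ord
section
/-!
# Upper bounds for the element orders of `PSL_n(q)`, `PSU_n(q)`, `q` even (helper2, S3435, box X6)

* `ord_le` : `orderOf g ≤ 3 q ^ n`;
* `ord_two` : if `2 ^ (a + 1) ∣ orderOf g` then `2 ^ a + 1 ≤ n` and `orderOf g ≤ 3 * 2 ^ (a + 1) * q ^ (n - (2 ^ a + 1))`.
-/

set_option autoImplicit false
set_option linter.unusedSectionVars false

namespace Cfsg.Agent.R2.Spec.X6

open Polynomial Function Cfsg.Agent.H403 Cfsg.Agent.H403.NumTop Cfsg.Agent.H321.SpecEven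

section Cl

variable {E : Type*} [Field E] [IsAlgClosed E] [DecidableEq E] {x : ℤ}

/-- the periods are constant on orbits -/
theorem per_of_mem_orb {R : Multiset E} (h : Cl x R) {y z : E} (hy : y ∈ R) (hz : z ∈ orb x y) : per x z = per x y := by
  obtain ⟨j, rfl⟩ := mem_orb hz
  have hp : y ∈ periodicPts (fun y : E => y ^ x) := by
    refine mk_mem_periodicPts (h.per_pos hy) ?_
    show (fun y : E => y ^ x)^[per x y] y = y
    rw [iterate_zpow]
    exact pow_per x y
  have h1 := minimalPeriod_apply_iterate hp j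
  rwa [iterate_zpow] at h1

/-- the set of the periods -/
noncomputable def pers (x : ℤ) (R : Multiset E) : Finset ℕ := R.toFinset.image (per x)

theorem mem_pers {R : Multiset E} {i : ℕ} : i ∈ pers x R ↔ ∃ y ∈ R, per x y = i := by
  simp [pers]

theorem sum_pers_le : ∀ (k : ℕ) (R : Multiset E), Multiset.card R = k → Cl x R → (pers x R).sum id ≤ k := by
  intro k
  induction k using Nat.strong_induction_on with
  | _ k ih =>
    intro R hk hR
    rcases Multiset.empty_or_exists_mem R with rfl | ⟨y, hy⟩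
    · simp [pers]
    · have h1 := Cfsg.Agent.H321.SpecEven.Cl.sub_orb hR hy
      have h2 := hR.orb_le hy
      have h3 : Multiset.card (R - orb x y) = k - per x y := by
        rw [Multiset.card_sub h2, card_orb, hk]
      have h4 : per x y ≤ k := by
        rw [← hk, ← card_orb x y]
        exact Multiset.card_le_card h2
      have h5 := hR.per_pos hy
      have h6 := ih _ (by omega) _ h3 h1
      have h7 : pers x R ⊆ insert (per x y) (pers x (R - orb x y)) := by
        intro i hi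
        obtain ⟨z, hz, rfl⟩ := mem_pers.1 hi
        rw [Finset.mem_insert]
        have h8 : R = orb x y + (R - orb x y) := (add_tsub_cancel_of_le h2).symm
        rw [h8, Multiset.mem_add] at hz
        rcases hz with hz | hz
        · exact Or.inl (per_of_mem_orb hR hy hz)
        · exact Or.inr (mem_pers.2 ⟨z, hz, rfl⟩)
      calc (pers x R).sum id ≤ (insert (per x y) (pers x (R - orb x y))).sum id :=
            Finset.sum_le_sum_of_subset h7
        _ ≤ per x y + (pers x (R - orb x y)).sum id := by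
            by_cases hc : per x y ∈ pers x (R - orb x y)
            · rw [Finset.insert_eq_of_mem hc]
              exact Nat.le_add_left _ _
            · rw [Finset.sum_insert hc]
              rfl
        _ ≤ k := by omega

/-- removing `m` orbits -/
theorem sub_smul_orb {y : E} : ∀ (m : ℕ) {R : Multiset E}, Cl x R → y ∈ R → m ≤ R.count y → m ≠ 0 →
    ∃ T : Multiset E, Cl x T ∧ Multiset.card T + m * per x y = Multiset.card R ∧ (∀ z ∈ R, z ∈ T ∨ z ∈ orb x y) ∧
      (∀ z ∈ T, z ∈ R) := by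
  intro m
  induction m with
  | zero => intro R _ _ _ h; exact absurd rfl h
  | succ m ih =>
    intro R hR hy hm _
    have h1 := Cfsg.Agent.H321.SpecEven.Cl.sub_orb hR hy
    have h2 := hR.orb_le hy
    have h3 : R = orb x y + (R - orb x y) := (add_tsub_cancel_of_le h2).symm
    have h4 : Multiset.card (R - orb x y) + per x y = Multiset.card R := by
      conv_rhs => rw [h3, Multiset.card_add, card_orb]
      exact add_comm _ _
    have hsub : ∀ z ∈ R - orb x y, z ∈ R := fun z hz => Multiset.mem_of_le (Multiset.sub_le_self _ _) hz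
    by_cases hm0 : m = 0
    · subst hm0
      refine ⟨R - orb x y, h1, by rw [zero_add, one_mul]; exact h4, fun z hz => ?_, hsub⟩
      rw [h3, Multiset.mem_add] at hz
      exact hz.symm
    · have h5 : m ≤ (R - orb x y).count y := by
        have h6 : R.count y = (orb x y).count y + (R - orb x y).count y := by
          conv_lhs => rw [h3]
          rw [Multiset.count_add]
        have h7 := Multiset.nodup_iff_count_le_one.1 (orb_nodup x y) y
        omega
      have h6 : y ∈ R - orb x y := Multiset.one_le_count_iff_mem.1 (by omega)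
      obtain ⟨T, hT, hc, hcov, hTR⟩ := ih h1 h6 h5 hm0
      refine ⟨T, hT, ?_, fun z hz => ?_, fun z hz => hsub z (hTR z hz)⟩
      · rw [Nat.succ_mul]
        omega
      · rw [h3, Multiset.mem_add] at hz
        rcases hz with hz | hz
        · exact Or.inr hz
        · exact hcov z hz

end Cl

theorem AA_le (e : Bool) (i q : ℕ) : AA e i q ≤ q ^ i + 1 := by
  unfold AA
  split_ifs <;> omega

theorem AA_odd {e : Bool} {i q : ℕ} (hq : Even q) (hq2 : 2 ≤ q) (hi : 1 ≤ i) : Odd (AA e i q) := by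
  have h1 : Even (q ^ i) := hq.pow_of_ne_zero (by omega)
  have h2 : 1 ≤ q ^ i := Nat.one_le_pow _ _ (by omega)
  unfold AA
  split_ifs
  · exact Nat.Even.sub_odd h2 h1 odd_one
  · exact h1.add_one

theorem prod_AA_le {e : Bool} {q : ℕ} (hq : 2 ≤ q) {D : Finset ℕ} (hD : ∀ i ∈ D, 1 ≤ i) {m : ℕ} (hs : D.sum id ≤ m) :
    ∏ i ∈ D, AA e i q ≤ 3 * q ^ m := by
  calc ∏ i ∈ D, AA e i q ≤ ∏ i ∈ D, (q ^ i + 1) := Finset.prod_le_prod (fun _ _ => Nat.zero_le _) fun i _ => AA_le e i q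
    _ ≤ 3 * q ^ D.sum id := Cfsg.Agent.H77.E4Num.prod_plus_le hq D hD
    _ ≤ _ := Nat.mul_le_mul_left _ (Nat.pow_le_pow_right (by omega) hs)

theorem prod_AA_odd {e : Bool} {q : ℕ} (hq : Even q) (hq2 : 2 ≤ q) {D : Finset ℕ} (hD : ∀ i ∈ D, 1 ≤ i) :
    Odd (∏ i ∈ D, AA e i q) :=
  Finset.prod_induction _ Odd (fun _ _ => Odd.mul) odd_one fun i hi => AA_odd hq hq2 (hD i hi)

section

variable {F : Type*} [Field F] [Fintype F] {E : Type*} [Field E] [IsAlgClosed E] [Algebra F E]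
variable {e : Bool} {n q : ℕ} {L : Type*} [Group L] {g : L} {M : Matrix (Fin n) (Fin n) F}

/-- an odd number `N` for which all the `N`-th powers of the eigenvalues are equal -/
theorem odd_dvd [CharP F 2] (hMk : ∀ k : ℕ, g ^ k = 1 ↔ ∃ c : F, M ^ k = c • (1 : Matrix (Fin n) (Fin n) F)) {N : ℕ}
    (hN : Odd N) {c : F} (hc : c ≠ 0) (h : ∀ z ∈ evs E M, z ^ N = algebraMap F E c) {w : ℕ} (hw : Odd w)
    (hwg : w ∣ orderOf g) : w ∣ N := by
  classical
  have h1 := pow_eq_of_count (b := n) hN hc h (fun z => (Multiset.count_le_card _ _).trans (by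
    rw [card_evs, Fintype.card_fin]
    exact Nat.lt_two_pow_self.le))
  have h2 := orderOf_dvd_of_pow_eq_one ((hMk _).2 ⟨_, h1⟩)
  exact (Nat.Coprime.pow_right n (Nat.coprime_two_right.2 hw)).dvd_of_dvd_mul_right (hwg.trans h2)

theorem pow_dvd_AA_eq_one {N : ℕ} (hq : 1 ≤ q) {y : E} (h0 : y ≠ 0) (hN : AA e (per (xv e q) y) q ∣ N) : y ^ N = 1 := by
  obtain ⟨k, rfl⟩ := hN
  rw [pow_mul, pow_AA_eq_one hq h0 (pow_per _ y), one_pow]

/-- the odd part of an element order -/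
theorem odd_part_le [CharP F 2] (hq : Even q) (hq2 : 2 ≤ q) (hM : Cl (xv e q) (evs E M))
    (hMk : ∀ k : ℕ, g ^ k = 1 ↔ ∃ c : F, M ^ k = c • (1 : Matrix (Fin n) (Fin n) F)) {w : ℕ} (hw : Odd w)
    (hwg : w ∣ orderOf g) : w ≤ 3 * q ^ n := by
  classical
  set D := pers (xv e q) (evs E M) with hD
  have hcard : Multiset.card (evs E M) = n := by rw [card_evs, Fintype.card_fin]
  have hpos : ∀ i ∈ D, 1 ≤ i := by
    intro i hi
    obtain ⟨y, hy, rfl⟩ := mem_pers.1 hi
    exact hM.per_pos hy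
  have hN := prod_AA_odd (e := e) hq hq2 hpos
  have h1 := odd_dvd (E := E) hMk hN one_ne_zero (fun z hz => by
    rw [map_one]
    exact pow_dvd_AA_eq_one (q := q) (e := e) (by omega) (hM.ne_zero hz)
      (Finset.dvd_prod_of_mem (fun i => AA e i q) (mem_pers.2 ⟨z, hz, rfl⟩))) hw hwg
  exact (Nat.le_of_dvd hN.pos h1).trans (prod_AA_le hq2 hpos (sum_pers_le n _ hcard hM))

theorem AA_one_dvd {i : ℕ} (hq : 2 ≤ q) : AA e 1 q ∣ AA e i q := ⟨_, AA_eq_mul hq i⟩

/-- the odd part of an element order, if there is an eigenvalue with multiplicity -/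
theorem odd_part_le_of_count [DecidableEq E] [CharP F 2] (hF : Fintype.card F = q ^ (cond e 0 1 + 1)) (hq : Even q)
    (hM : Cl (xv e q) (evs E M))
    (hMk : ∀ k : ℕ, g ^ k = 1 ↔ ∃ c : F, M ^ k = c • (1 : Matrix (Fin n) (Fin n) F)) {w : ℕ} (hw : Odd w)
    (hwg : w ∣ orderOf g) {y : E} {m : ℕ} (hm : 2 ≤ m) (hy : m ≤ (evs E M).count y) :
    m ≤ n ∧ w ≤ 3 * q ^ (n - m) := by
  have hq2 : 2 ≤ q := two_le_of_card hF
  have hcard : Multiset.card (evs E M) = n := by rw [card_evs, Fintype.card_fin]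
  have hyR : y ∈ evs E M := Multiset.one_le_count_iff_mem.1 (by omega)
  have hmn : m ≤ n := hy.trans ((Multiset.count_le_card _ _).trans hcard.le)
  refine ⟨hmn, ?_⟩
  obtain ⟨T, hT, hTc, hcov, hTR⟩ := sub_smul_orb m hM hyR hy (by omega)
  rw [hcard] at hTc
  have hposT : ∀ i ∈ pers (xv e q) T, 1 ≤ i := by
    intro i hi
    obtain ⟨z, hz, rfl⟩ := mem_pers.1 hi
    exact hT.per_pos hz
  have hy0 := hM.ne_zero hyR
  have hsT := sum_pers_le _ T rfl hT
  rcases Nat.lt_or_ge (per (xv e q) y) 2 with hd | hd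
  · -- `y` is fixed
    have hd1 : per (xv e q) y = 1 := by
      have := hM.per_pos hyR
      omega
    have hfix : y ^ xv e q = y := by
      have := pow_per (xv e q) y
      rwa [hd1, pow_one] at this
    obtain ⟨c, hc⟩ := mem_range_of_fix hF hy0 hfix
    have hc0 : c ≠ 0 := by
      rintro rfl
      rw [map_zero] at hc
      exact hy0 hc.symm
    rw [hd1, mul_one] at hTc
    have horb : ∀ z ∈ orb (xv e q) y, z = y := by
      intro z hz
      obtain ⟨j, rfl⟩ := mem_orb hz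
      induction j with
      | zero => simp
      | succ j ih =>
        rw [pow_succ, zpow_mul]
        have : y ^ (xv e q ^ j) = y := ih (by
          refine Multiset.mem_map.2 ⟨0, ?_, ?_⟩
          · rw [Multiset.mem_range, hd1]
            exact Nat.one_pos
          · have h9 : ∀ j : ℕ, y ^ (xv e q ^ j) = y := by
              intro j
              induction j with
              | zero => simp
              | succ j ih => rw [pow_succ, zpow_mul, ih, hfix]
            rw [h9, h9])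
        rw [this, hfix]
    rcases Multiset.empty_or_exists_mem T with hT0 | ⟨z, hz⟩
    · have h1 := odd_dvd (E := E) hMk odd_one hc0 (fun z hz => by
        rcases hcov z hz with h | h
        · rw [hT0] at h
          exact absurd h (Multiset.notMem_zero _)
        · rw [horb z h, pow_one, hc]) hw hwg
      have h2 := Nat.le_of_dvd Nat.one_pos h1
      have h3 : 1 ≤ q ^ (n - m) := Nat.one_le_pow _ _ (by omega)
      omega
    · have hN := prod_AA_odd (e := e) hq hq2 hposT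
      have h1 := odd_dvd (E := E) hMk hN one_ne_zero (fun t ht => by
        rw [map_one]
        rcases hcov t ht with h | h
        · exact pow_dvd_AA_eq_one (q := q) (e := e) (by omega) (hM.ne_zero ht)
            (Finset.dvd_prod_of_mem (fun i => AA e i q) (mem_pers.2 ⟨t, h, rfl⟩))
        · rw [horb t h]
          refine pow_dvd_AA_eq_one (q := q) (e := e) (by omega) hy0 ?_
          rw [hd1]
          exact (AA_one_dvd hq2).trans (Finset.dvd_prod_of_mem (fun i => AA e i q) (mem_pers.2 ⟨z, hz, rfl⟩))) hw hwg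
      exact (Nat.le_of_dvd hN.pos h1).trans (prod_AA_le hq2 hposT (hsT.trans (by omega)))
  · -- `y` is not fixed
    set D := insert (per (xv e q) y) (pers (xv e q) T) with hD
    have hpos : ∀ i ∈ D, 1 ≤ i := by
      intro i hi
      rcases Finset.mem_insert.1 hi with rfl | hi
      · omega
      · exact hposT i hi
    have hsum : D.sum id ≤ n - m := by
      have h1 : D.sum id ≤ per (xv e q) y + (pers (xv e q) T).sum id := by
        by_cases hc : per (xv e q) y ∈ pers (xv e q) T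
        · rw [hD, Finset.insert_eq_of_mem hc]
          exact Nat.le_add_left _ _
        · rw [hD, Finset.sum_insert hc]
          rfl
      have h2 : per (xv e q) y + m ≤ m * per (xv e q) y := by nlinarith only [hm, hd]
      generalize m * per (xv e q) y = z at h2 hTc
      omega
    have hN := prod_AA_odd (e := e) hq hq2 hpos
    have h1 := odd_dvd (E := E) hMk hN one_ne_zero (fun t ht => by
      rw [map_one]
      refine pow_dvd_AA_eq_one (q := q) (e := e) (by omega) (hM.ne_zero ht)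
            (Finset.dvd_prod_of_mem (fun i => AA e i q) ?_)
      rcases hcov t ht with h | h
      · exact Finset.mem_insert_of_mem (mem_pers.2 ⟨t, h, rfl⟩)
      · rw [per_of_mem_orb hM hyR h]
        exact Finset.mem_insert_self _ _) hw hwg
    exact (Nat.le_of_dvd hN.pos h1).trans (prod_AA_le hq2 hpos hsum)

/-- **The bound for the elements of even order.** -/
theorem ord_two (hL : Lin E L e n q F) (hF : Fintype.card F = q ^ (cond e 0 1 + 1)) (hq : Even q) (hn : 1 ≤ n)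
    (g : L) (hg : 0 < orderOf g) {a : ℕ} (ha : 2 ^ (a + 1) ∣ orderOf g) :
    2 ^ a + 1 ≤ n ∧ orderOf g ≤ 3 * 2 ^ (a + 1) * q ^ (n - (2 ^ a + 1)) := by
  classical
  have hq2 : 2 ≤ q := two_le_of_card hF
  have hch := charP_two_of_card hF hq
  have : Fact (Nat.Prime 2) := ⟨Nat.prime_two⟩
  obtain ⟨M, hdet, hM, hMk⟩ := hL g
  obtain ⟨c, w, hwo, hw⟩ := Nat.exists_eq_two_pow_mul_odd hg.ne'
  have hac : a + 1 ≤ c := by
    rw [hw] at ha
    have h1 : 2 ^ (a + 1) ∣ 2 ^ c := (Nat.Coprime.pow_left _ (Nat.coprime_two_left.2 hwo)).dvd_of_dvd_mul_right ha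
    exact (Nat.pow_dvd_pow_iff_le_right (by norm_num)).1 h1
  obtain ⟨b, rfl⟩ : ∃ b, c = b + 1 := ⟨c - 1, by omega⟩
  obtain ⟨ζ, hζ⟩ := (hMk (w * 2 ^ (b + 1))).1 (by rw [mul_comm, ← hw, pow_orderOf_eq_one])
  obtain ⟨c, hc0, hc⟩ := exists_common_pow (by omega) hn hM hζ
  have hw0 : 0 < w := hwo.pos
  obtain ⟨y, hy⟩ : ∃ y, 2 ^ b < (evs E M).count y := by
    by_contra hcon
    push Not at hcon
    have h1 := pow_eq_of_count hwo hc0 hc hcon
    have h2 := orderOf_dvd_of_pow_eq_one ((hMk _).2 ⟨_, h1⟩)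
    rw [hw, mul_comm] at h2
    have h3 := (Nat.pow_dvd_pow_iff_le_right (by norm_num : 1 < 2)).1 (Nat.dvd_of_mul_dvd_mul_left hw0 h2)
    omega
  have hb1 : 1 ≤ 2 ^ b := Nat.one_le_two_pow
  obtain ⟨h1, h2⟩ := odd_part_le_of_count hF hq hM hMk hwo (hw ▸ Dvd.intro_left _ rfl) (m := 2 ^ b + 1) (by omega) hy
  have hab : a ≤ b := by omega
  have h3 : 2 ^ a ≤ 2 ^ b := Nat.pow_le_pow_right (by norm_num) hab
  refine ⟨by omega, ?_⟩
  obtain ⟨d, rfl⟩ := Nat.exists_eq_add_of_le hab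
  have h4 : 2 ^ a + d ≤ 2 ^ (a + d) := by
    have h5 : d + 1 ≤ 2 ^ d := Nat.lt_two_pow_self
    have h6 : 1 ≤ 2 ^ a := Nat.one_le_two_pow
    calc 2 ^ a + d ≤ 2 ^ a + 2 ^ a * d := by nlinarith only [h6]
      _ = 2 ^ a * (d + 1) := by ring
      _ ≤ 2 ^ a * 2 ^ d := Nat.mul_le_mul_left _ h5
      _ = 2 ^ (a + d) := (pow_add _ _ _).symm
  calc orderOf g = 2 ^ (a + d + 1) * w := hw
    _ ≤ 2 ^ (a + d + 1) * (3 * q ^ (n - (2 ^ (a + d) + 1))) := Nat.mul_le_mul_left _ h2
    _ = 3 * 2 ^ (a + 1) * (2 ^ d * q ^ (n - (2 ^ (a + d) + 1))) := by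
        rw [show a + d + 1 = (a + 1) + d by omega, pow_add 2 (a + 1) d]
        ring
    _ ≤ 3 * 2 ^ (a + 1) * (q ^ d * q ^ (n - (2 ^ (a + d) + 1))) :=
        Nat.mul_le_mul_left _ (Nat.mul_le_mul_right _ (Nat.pow_le_pow_left hq2 d))
    _ = 3 * 2 ^ (a + 1) * q ^ (d + (n - (2 ^ (a + d) + 1))) := by rw [pow_add q]
    _ ≤ _ := Nat.mul_le_mul_left _ (Nat.pow_le_pow_right (by omega) (by omega))

/-- **The bound for all elements.** -/
theorem ord_le (hL : Lin E L e n q F) (hF : Fintype.card F = q ^ (cond e 0 1 + 1)) (hq : Even q) (hn : 1 ≤ n)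
    (g : L) (hg : 0 < orderOf g) : orderOf g ≤ 3 * q ^ n := by
  have hq2 : 2 ≤ q := two_le_of_card hF
  rcases Nat.even_or_odd (orderOf g) with h | h
  · obtain ⟨h1, h2⟩ := ord_two hL hF hq hn g hg (a := 0) (by rw [zero_add, pow_one]; exact even_iff_two_dvd.1 h)
    refine h2.trans ?_
    rw [zero_add, pow_one, mul_assoc]
    refine Nat.mul_le_mul_left _ ?_
    calc 2 * q ^ (n - (2 ^ 0 + 1)) ≤ q * q ^ (n - (2 ^ 0 + 1)) := Nat.mul_le_mul_right _ hq2
      _ = q ^ (n - (2 ^ 0 + 1) + 1) := (pow_succ' _ _).symm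
      _ ≤ q ^ n := Nat.pow_le_pow_right (by omega) (by simp only [_root_.pow_zero, _root_.Nat.reduceAdd, _root_.Order.add_one_le_iff, _root_.tsub_lt_self_iff, _root_.Order.lt_two_iff, _root_.zero_le, _root_.and_true] at h1 ⊢; omega)
  · have hch := charP_two_of_card hF hq
    obtain ⟨M, hdet, hM, hMk⟩ := hL g
    exact odd_part_le hq hq2 hM hMk h dvd_rfl

end

end Cfsg.Agent.R2.Spec.X6
end

-- part: R2/Spec/X6/Base
section
/-!
# `PSL_n(q)`, `PSU_n(q)`, `q = 2 ^ k`, `n ≥ 6`: the frame (helper2, S3435, box X6)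

* `Hyp e n k F L` : the hypotheses on `L`; its adjacencies, elements, cocliques;
* `Sit e n k F L K S` : `ω(G) = ω(L)`, `K` the radical, `S` the socle of `G / K`; the primes of the classes `n`, `n - 1` are
  good (`top`), `S` contains the elements of these classes (`mem_top`).
-/

set_option autoImplicit false
set_option linter.unusedSectionVars false

namespace Cfsg.Agent.R2.Spec.X6

open Subgroup Cfsg.Agent.H403 Cfsg.Agent.H403.NumTop Cfsg.Agent.H321.SpecEven
open Cfsg.Agent.H72.WGr (OCoc)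
open Cfsg.Agent.H228.E3 (Coq5 SameOrd LDat)
open Cfsg.Agent.H420.QR (Red)

universe u v

/-- the hypotheses on `L` -/
structure Hyp (e : Bool) (n k : ℕ) (F : Type*) [Field F] [Fintype F] (L : Type*) [Group L] : Prop where
  hL : IsL L e n (2 ^ k) F
  hF : Fintype.card F = (2 ^ k) ^ (cond e 0 1 + 1)
  hn : 6 ≤ n
  hk : 1 ≤ k
  he : e = true → 2 ≤ k

/-- the class of a prime is less than the prime -/
theorem od_lt {e : Bool} {q r : ℕ} (hr : r.Prime) (h : 1 ≤ od e q r) : od e q r < r := by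
  have h1 := Nat.le_of_dvd (by have := hr.two_le; omega) (order_dvd_pred hr h rfl)
  have := hr.two_le
  omega

/-- primes with a given order of `2` -/
theorem exists_prime_two {e : Bool} {i k : ℕ} (hi : 3 ≤ i) (hk : 1 ≤ k) (h : k * nu e i ≠ 6) :
    ∃ r : ℕ, r.Prime ∧ orderOf (2 : ZMod r) = k * nu e i ∧ od e (2 ^ k) r = i ∧ k * nu e i + 1 ≤ r := by
  have h3 := nu_ge (e := e) hi
  have h4 : 3 ≤ k * nu e i := by nlinarith
  obtain ⟨r, hr, hro⟩ := Lib.Zsigmondy.exists_prime_orderOf (a := 2) (n := k * nu e i) le_rfl (by omega) (by omega)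
    (by omega)
  have hro' : orderOf (2 : ZMod r) = k * nu e i := by simpa using hro
  refine ⟨r, hr, hro', ?_, ?_⟩
  · apply order_of_nu hr hi
    have h5 : ((2 ^ k : ℕ) : ZMod r) = (2 : ZMod r) ^ k := by push_cast; rfl
    rw [h5, orderOf_pow_of_dvd (by omega) (by rw [hro']; exact dvd_mul_right _ _), hro',
      Nat.mul_div_cancel_left _ (by omega)]
  · have h6 := order_dvd_pred hr (z := (2 : ZMod r)) (i := k * nu e i) (by omega) hro'
    have h7 := Nat.le_of_dvd (by have := hr.two_le; omega) h6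
    have := hr.two_le
    omega

namespace Hyp

variable {F : Type*} [Field F] [Fintype F] {e : Bool} {n k : ℕ} {L : Type*} [Group L] [Finite L]

theorem q2 (H : Hyp e n k F L) : 2 ≤ 2 ^ k := two_le_of_card H.hF

theorem qe (H : Hyp e n k F L) : Even (2 ^ k) := (Nat.even_pow).2 ⟨even_two, by have := H.hk; omega⟩

theorem lin (H : Hyp e n k F L) : Lin (AlgebraicClosure F) L e n (2 ^ k) F := H.hL.lin H.hF (by have := H.hn; omega)

theorem not_exc (H : Hyp e n k F L) {i : ℕ} (hi : 4 ≤ i) : ¬ Exc e i (2 ^ k) := by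
  rintro (⟨h1, -, h2⟩ | ⟨-, h1, -⟩)
  · have h3 : 2 ^ 2 ≤ 2 ^ k := Nat.pow_le_pow_right (by norm_num) (H.he h1)
    omega
  · omega

/-- primes of different classes, not dividing each other, with large sum are not adjacent -/
theorem nadj (H : Hyp e n k F L) {r s : ℕ} (hr : r.Prime) (hs : s.Prime) (h1 : 2 ≤ od e (2 ^ k) r)
    (h2 : 2 ≤ od e (2 ^ k) s) (h3 : n < od e (2 ^ k) r + od e (2 ^ k) s)
    (h4 : ¬ od e (2 ^ k) r ∣ od e (2 ^ k) s) (h5 : ¬ od e (2 ^ k) s ∣ od e (2 ^ k) r) :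
    ¬ ∃ g : L, orderOf g = r * s := by
  refine H.lin.not_adj H.hF (by have := H.hn; omega) hr hs rfl rfl h1 h2 h3 ?_
  set k' := od e (2 ^ k) r
  set l := od e (2 ^ k) s
  change n < Nat.lcm k' l
  obtain ⟨a, ha⟩ := Nat.dvd_lcm_left k' l
  obtain ⟨b, hb⟩ := Nat.dvd_lcm_right k' l
  have hpos : 0 < Nat.lcm k' l := Nat.lcm_pos (by omega) (by omega)
  have ha2 : 2 ≤ a := by
    by_contra hlt
    rcases (by omega : a = 0 ∨ a = 1) with rfl | rfl
    · rw [mul_zero] at ha; omega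
    · rw [mul_one] at ha
      apply h5
      rw [← ha]
      exact Nat.dvd_lcm_right k' l
  have hb2 : 2 ≤ b := by
    by_contra hlt
    rcases (by omega : b = 0 ∨ b = 1) with rfl | rfl
    · rw [mul_zero] at hb; omega
    · rw [mul_one] at hb
      apply h4
      rw [← hb]
      exact Nat.dvd_lcm_left k' l
  have e1 : k' * 2 ≤ k' * a := Nat.mul_le_mul_left k' ha2
  have e2 : l * 2 ≤ l * b := Nat.mul_le_mul_left l hb2
  omega

/-- elements of `L` whose order is a product of primes of class `i` -/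
theorem elt (H : Hyp e n k F L) {c i : ℕ} (hi : 2 ≤ i) (hin : i ≤ n)
    (h : ∀ r : ℕ, r.Prime → r ∣ c → od e (2 ^ k) r = i) (hc : c ∣ AA e i (2 ^ k)) : ∃ g : L, orderOf g = c := by
  have hc0 : 0 < c := Nat.pos_of_ne_zero fun h0 => by
    rw [h0, zero_dvd_iff] at hc
    have := AA_pos (e := e) H.q2 (i := i) (by omega)
    omega
  exact H.hL.exists_tor_le H.hF (by have := H.hn; omega) (by omega) hin hc0 (coprime_AA_one hi h) hc

theorem prime_elt (H : Hyp e n k F L) {r : ℕ} (hr : r.Prime) (hi : 2 ≤ od e (2 ^ k) r) (hin : od e (2 ^ k) r ≤ n) :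
    ∃ g : L, orderOf g = r :=
  H.elt hi hin (fun s hs hsr => by rw [(Nat.prime_dvd_prime_iff_eq hs hr).1 hsr]) dvd_AA_od

theorem dvd_card (H : Hyp e n k F L) {r : ℕ} (hr : r.Prime) (hi : 2 ≤ od e (2 ^ k) r) (hin : od e (2 ^ k) r ≤ n) :
    r ∣ Nat.card L := by
  obtain ⟨g, hg⟩ := H.prime_elt hr hi hin
  rw [← hg]
  exact _root_.orderOf_dvd_natCard g

theorem exists_od (H : Hyp e n k F L) {i : ℕ} (hi : 4 ≤ i) : ∃ r : ℕ, r.Prime ∧ od e (2 ^ k) r = i := by
  obtain ⟨r, h1, -, h3⟩ := exists_prime (e := e) (q := 2 ^ k) (i := i) H.q2 (by omega) (H.not_exc hi)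
  exact ⟨r, h1, h3⟩

theorem ne_two (H : Hyp e n k F L) {r : ℕ} (h : 1 ≤ od e (2 ^ k) r) : r ≠ 2 := ne_two_of_od H.hk rfl h

/-- `2` is not adjacent to the primes of the classes `n`, `n - 1` -/
theorem far (H : Hyp e n k F L) {r : ℕ} (hr : r.Prime) (hi : od e (2 ^ k) r = n ∨ od e (2 ^ k) r = n - 1) :
    ¬ ∃ g : L, orderOf g = 2 * r := by
  rw [mul_comm]
  exact H.lin.two_even H.hF H.qe (by have := H.hn; omega) hr rfl hi

/-- elements of order `2 ^ a * r`, `r` of class `i > n / 2` -/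
theorem two_mul (H : Hyp e n k F L) {a r : ℕ} (hr : r.Prime) (h1 : n < 2 * od e (2 ^ k) r) (h2 : od e (2 ^ k) r ≤ n)
    (ha : 1 ≤ a) (h : ∃ g : L, orderOf g = 2 ^ a * r) : 2 ^ (a - 1) + od e (2 ^ k) r < n :=
  two_mul_lt H.lin H.hF H.qe (by have := H.hn; omega) hr rfl h1 h2 ha h

/-- `4` is not adjacent to the primes of the classes `n`, `n - 1`, `n - 2` -/
theorem four (H : Hyp e n k F L) {r : ℕ} (hr : r.Prime) (h1 : n - 2 ≤ od e (2 ^ k) r) (h2 : od e (2 ^ k) r ≤ n) :
    ¬ ∃ g : L, orderOf g = 4 * r := by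
  intro h
  have hn := H.hn
  have h3 := H.two_mul (a := 2) hr (by omega) h2 (by norm_num) (by simpa using h)
  norm_num at h3
  omega

theorem ord_le (H : Hyp e n k F L) (g : L) : orderOf g ≤ 3 * (2 ^ k) ^ n :=
  X6.ord_le H.lin H.hF H.qe (by have := H.hn; omega) g (orderOf_pos g)

theorem top_dvd (H : Hyp e n k F L) {r : ℕ} (hr : r.Prime) (hi : od e (2 ^ k) r = n) {g : L} (hg : r ∣ orderOf g) :
    orderOf g * dd e n (2 ^ k) * AA e 1 (2 ^ k) ∣ AA e n (2 ^ k) :=
  Cfsg.Agent.H321.SpecEven.top_dvd H.lin H.hF (by have := H.hn; omega) hr hi (orderOf_pos g) hg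

theorem pred_dvd (H : Hyp e n k F L) {r : ℕ} (hr : r.Prime) (hi : od e (2 ^ k) r = n - 1) {g : L} (hg : r ∣ orderOf g) :
    orderOf g * dd e n (2 ^ k) ∣ AA e (n - 1) (2 ^ k) :=
  Cfsg.Agent.H321.SpecEven.pred_dvd H.lin H.hF (by have := H.hn; omega) hr hi (orderOf_pos g) hg

/-- cocliques of primes of different classes greater than `n / 2` -/
theorem coq (H : Hyp e n k F L) {A : Finset ℕ} (hA : ∀ r ∈ A, r.Prime ∧ n < 2 * od e (2 ^ k) r ∧ od e (2 ^ k) r ≤ n)
    (hi : ∀ r ∈ A, ∀ s ∈ A, od e (2 ^ k) r = od e (2 ^ k) s → r = s) : Coq5 L A := by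
  have hn := H.hn
  have hdv : ∀ {i j : ℕ}, i ≠ j → n < 2 * i → n < 2 * j → i ≤ n → j ≤ n → ¬ i ∣ j := by
    rintro i j hij c1 c2 c3 c4 ⟨m, hm⟩
    rcases (by omega : m = 0 ∨ m = 1 ∨ 2 ≤ m) with rfl | rfl | hm2
    · omega
    · omega
    · have : i * 2 ≤ i * m := Nat.mul_le_mul_left i hm2
      omega
  refine ⟨⟨fun r hr => (hA r hr).1, fun r hr => ?_, fun r hr => ?_, fun r hr s hs hrs => ?_⟩, fun r hr => ?_⟩
  · obtain ⟨h1, h2, h3⟩ := hA r hr
    exact H.dvd_card h1 (by omega) h3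
  · obtain ⟨h1, h2, h3⟩ := hA r hr
    exact H.ne_two (by omega)
  · obtain ⟨a1, a2, a3⟩ := hA r hr
    obtain ⟨b1, b2, b3⟩ := hA s hs
    have hne : od e (2 ^ k) r ≠ od e (2 ^ k) s := fun h => hrs (hi r hr s hs h)
    exact H.nadj a1 b1 (by omega) (by omega) (by omega) (hdv hne a2 b2 a3 b3) (hdv hne.symm b2 a2 b3 a3)
  · obtain ⟨h1, h2, h3⟩ := hA r hr
    have := od_lt h1 (e := e) (q := 2 ^ k) (by omega)
    omega

theorem two_dvd (H : Hyp e n k F L) : 2 ∣ Nat.card L := by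
  obtain ⟨g, hg⟩ := Cfsg.Agent.H402.Uni.exists_pow H.hL H.hF (by have := H.hn; omega) Nat.prime_two rfl H.hk (a := 1)
    le_rfl (by have := H.hn; norm_num; omega)
  rw [pow_one] at hg
  rw [← hg]
  exact _root_.orderOf_dvd_natCard g

end Hyp

end Cfsg.Agent.R2.Spec.X6
end

private theorem dce_00ead19c0927 : _root_.True := by
  try have : _root_.True := by simp only [_root_.Cfsg.Agent.R2.Spec.X6.pers.congr_simp]
  try have : _root_.True := by simp only [_root_.Cfsg.Agent.R2.Spec.X6.pers.eq_1]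
  exact _root_.True.intro
end

-- part: R2/Spec/X2/LExc_mg
section
prune_inst 0x4070684435000000000000168200220020000000002000006020010a09004320890221000a0000021068128010040000000000c00040000004003400000701209082800021140c04060087800084000000000000000000000000000000000004000000000
set_option linter.all false
open scoped Cfsg.Agent.FastGrp

-- part: R2/Spec/X2/LExc
section
/-!
# Elimination in the window of `PSL_3(q)`: alternating groups, exceptional groups (helper16)
-/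

set_option autoImplicit false

namespace Cfsg.Agent.R2.Spec.X2

open Cfsg Cfsg.Agent.H360.Iso Cfsg.Agent.H437.Iso Equiv

section

variable {T : Type*} [Group T] {n : ℕ}

theorem LWin.not_isAlternating (h : LWin T n) : ¬ IsAlternating T := by
  rintro ⟨m, hm, ⟨e⟩⟩
  have h' := h.congr e
  have hb := h.big
  have hnm := alt_row h'.iso
  obtain ⟨k, hk⟩ := h.iso.odd
  have h3 := h.iso.not_three_dvd
  obtain ⟨g, hg⟩ := H380.AltSpec.exists_orderOf (n := m) {3, n - 6} (by simp; omega) (by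
    intro a ha
    simp only [Multiset.insert_eq_cons, Multiset.mem_cons, Multiset.mem_singleton] at ha
    rcases ha with rfl | rfl
    · norm_num
    · omega) (by
    simp only [Multiset.insert_eq_cons, Multiset.sum_cons, Multiset.sum_singleton, Multiset.card_cons,
      Multiset.card_singleton]
    exact ⟨k, by omega⟩)
  have hg2 : orderOf g = 3 * (n - 6) := by
    rw [hg]
    simp only [Multiset.insert_eq_cons, Multiset.lcm_cons, Multiset.lcm_singleton, normalize_eq]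
    change Nat.lcm 3 (n - 6) = _
    refine Nat.Coprime.lcm_eq_mul ?_
    rw [Nat.Prime.coprime_iff_not_dvd Nat.prime_three]
    omega
  exact h'.not_above ⟨g, hg2⟩ (by omega)

/-- **Ree groups** -/
theorem LWin.not_isoRee (h : LWin T n) : ¬ Lie.IsoRee T := by
  rintro ⟨K, _, _, m, hm, hK, ⟨e⟩⟩
  have h' := h.congr e
  have hb := h.big
  have hsp := S1159.result (K := K) hm hK
  obtain ⟨t, ht, ht3⟩ : ∃ t, 3 ^ m = t ∧ 3 ≤ t := ⟨3 ^ m, rfl, by
    calc 3 = 3 ^ 1 := by norm_num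
      _ ≤ 3 ^ m := Nat.pow_le_pow_right (by norm_num) hm⟩
  have e1 : 3 ^ (2 * m + 1) = 3 * t ^ 2 := by
    rw [← ht, ← pow_mul, pow_succ]
    ring
  have e2 : 3 ^ (m + 1) = 3 * t := by
    rw [← ht]
    ring
  have hto : Odd t := by
    rw [← ht]
    exact (by decide : Odd 3).pow
  rw [e1, e2] at hsp
  have hexi : ∀ d, (d ∣ 6 ∨ d ∣ 9 ∨ d ∣ 3 * t ^ 2 - 1 ∨ d ∣ (3 * t ^ 2 + 1) / 2 ∨ d ∣ 3 * t ^ 2 - 3 * t + 1 ∨
      d ∣ 3 * t ^ 2 + 3 * t + 1) → ∃ g : ↥(Cfsg.Lie.twistedG2 K (3 ^ m)), orderOf g = d := fun d hd => (hsp d).2 hd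
  obtain ⟨a, ha⟩ := hto
  have ht2 : t ^ 2 = 4 * a ^ 2 + 4 * a + 1 := by rw [ha]; ring
  have hC := hexi _ (Or.inr (Or.inr (Or.inr (Or.inr (Or.inl dvd_rfl)))))
  have hB := hexi _ (Or.inr (Or.inr (Or.inr (Or.inr (Or.inr dvd_rfl)))))
  have hA := hexi _ (Or.inr (Or.inr (Or.inl dvd_rfl)))
  have hD := hexi _ (Or.inr (Or.inr (Or.inr (Or.inl dvd_rfl))))
  have htt : 3 * t ≤ t ^ 2 := by nlinarith only [ht3]
  obtain ⟨r, hr, hrn⟩ := h'.iso.exists_prime
  rcases (hsp n).1 h'.iso.elt with h1 | h1 | h1 | h1 | h1 | h1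
  · have := Nat.le_of_dvd (by norm_num) h1
    omega
  · have := Nat.le_of_dvd (by norm_num) h1
    omega
  · refine h'.iso.not_two_dvd (dvd_trans ?_ (h'.iso.dvd_of_elt hA hr hrn (hrn.trans h1)))
    exact ⟨6 * a ^ 2 + 6 * a + 1, by (clear * - ht2; omega)⟩
  · refine h'.iso.not_two_dvd (dvd_trans ?_ (h'.iso.dvd_of_elt hD hr hrn (hrn.trans h1)))
    exact ⟨3 * a ^ 2 + 3 * a + 1, by (clear * - ht2; omega)⟩
  · have h2 := Nat.dvd_antisymm h1 (h'.iso.dvd_of_elt hC hr hrn (hrn.trans h1))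
    exact h'.not_above hB (by (clear * - hb ha h2; omega))
  · have h2 := Nat.dvd_antisymm h1 (h'.iso.dvd_of_elt hB hr hrn (hrn.trans h1))
    refine h'.not_odd hC ?_ ?_ ?_
    · refine ⟨6 * a ^ 2 + 3 * a, ?_⟩
      have : 3 * t ^ 2 = 12 * a ^ 2 + 12 * a + 3 := by omega
      have h3 : 3 * t = 6 * a + 3 := by omega
      (clear * - ha ht2; omega)
    · rw [h2]
      have h4 : 9 * t < 3 * t ^ 2 + 1 := by linarith only [htt]
      (clear * - htt; omega)
    · rw [h2]
      (clear * - ha; omega)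

/-- **Suzuki groups** -/
theorem LWin.not_isoSuzuki (h : LWin T n) : ¬ Lie.IsoSuzuki T := by
  intro hS
  obtain ⟨F, _, _, m, hm, hF, ⟨e⟩⟩ := hS
  obtain ⟨i⟩ := Cfsg.Agent.OddCyclic.ClaimC.SzIso.iso hm hF
  have h' : LWin (Cfsg.Sz F m) n := h.congr (e.trans i.symm)
  have hb := h.big
  obtain ⟨hs, hA, hB, hC⟩ := Cfsg.Agent.H372.SzSpec.spec (F := F) hm hF
  obtain ⟨w, hw, hw2⟩ : ∃ w, 2 ^ m = w ∧ 2 ≤ w := ⟨2 ^ m, rfl, by
    calc 2 = 2 ^ 1 := by norm_num
      _ ≤ 2 ^ m := Nat.pow_le_pow_right (by norm_num) hm⟩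
  have e1 : 2 ^ (2 * m + 1) = 2 * w ^ 2 := by
    rw [← hw, ← pow_mul, pow_succ]
    ring
  have e2 : 2 ^ (m + 1) = 2 * w := by
    rw [← hw]
    ring
  rw [e1, e2] at hs hB hC
  rw [e1] at hA
  have hww : 2 * w ≤ w ^ 2 := by nlinarith only [hw2]
  obtain ⟨x, hx⟩ := h'.iso.elt
  obtain ⟨r, hr, hrn⟩ := h'.iso.exists_prime
  have hso := hs x (by rw [hx]; exact h'.iso.odd)
  rw [hx] at hso
  rcases hso with h1 | h1 | h1
  · have h2 := Nat.dvd_antisymm h1 (h'.iso.dvd_of_elt hA hr hrn (hrn.trans h1))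
    exact h'.not_above hB (by omega)
  · have h2 := Nat.dvd_antisymm h1 (h'.iso.dvd_of_elt hB hr hrn (hrn.trans h1))
    exact h'.not_odd hA ⟨w ^ 2 - 1, by (clear * - hw2 hww h2; omega)⟩ (by (clear * - hw2 hww h2; omega)) (by (clear * - h2; omega))
  · have h2 := Nat.dvd_antisymm h1 (h'.iso.dvd_of_elt hC hr hrn (hrn.trans h1))
    exact h'.not_above hB (by omega)

theorem LWin.not_isoChevG2 (h : LWin T n) : ¬ Lie.IsoChevG2 T := by
  rintro ⟨F, _, _, -, ⟨e⟩⟩
  have h' := h.congr e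
  have hb := h.big
  have hu : 2 ≤ Nat.card F := Finite.one_lt_card
  have h6 := g2_order6 (F := F)
  have h3 := g2_order3 (F := F)
  obtain ⟨j, hj⟩ := Nat.even_mul_succ_self (Nat.card F)
  have hj' : Nat.card F ^ 2 + Nat.card F = Nat.card F * (Nat.card F + 1) := by ring
  have h4 : Nat.card F ≤ Nat.card F ^ 2 := Nat.le_self_pow (by norm_num) _
  rcases g2_row h'.iso with h1 | h1
  · set u := Nat.card F with hud
    have hu4 : 4 ≤ u := by
      by_contra hcon
      have : u = 2 ∨ u = 3 := by (clear * - hu hcon; omega)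
      rcases this with h2 | h2 <;> rw [h2] at h1 <;> norm_num at h1 <;> omega
    have h5 : 4 * u ≤ u ^ 2 := by nlinarith only [hu4]
    exact h'.not_odd h6 ⟨j - u, by (clear * - hj hj'; omega)⟩ (by omega) (by omega)
  · exact h'.not_above h3 (by omega)

theorem LWin.not_twelve (h : LWin T n) {u : ℕ} (hu : 2 ≤ u) (hn : n = u ^ 4 - u ^ 2 + 1)
    (hE : ∃ x : T, orderOf x = (u ^ 3 - 1) * (u + 1)) : False := by
  refine h.not_above hE ?_
  obtain ⟨v, rfl⟩ : ∃ v, u = v + 2 := ⟨u - 2, by omega⟩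
  have e1 : (v + 2) ^ 3 - 1 = v ^ 3 + 6 * v ^ 2 + 12 * v + 7 := by
    have : (v + 2) ^ 3 = v ^ 3 + 6 * v ^ 2 + 12 * v + 7 + 1 := by ring
    omega
  have e2 : (v + 2) ^ 4 - (v + 2) ^ 2 = v ^ 4 + 8 * v ^ 3 + 23 * v ^ 2 + 28 * v + 12 := by
    have : (v + 2) ^ 4 = v ^ 4 + 8 * v ^ 3 + 23 * v ^ 2 + 28 * v + 12 + (v + 2) ^ 2 := by ring
    (clear * - this; omega)
  rw [hn, e1, e2]
  have e3 : (v ^ 3 + 6 * v ^ 2 + 12 * v + 7) * (v + 2 + 1) = v ^ 4 + 9 * v ^ 3 + 30 * v ^ 2 + 43 * v + 21 := by ring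
  rw [e3]
  have h3 : 0 ≤ v ^ 3 := Nat.zero_le _
  linarith only [h3, _root_.sq_nonneg (↑v : ℤ), _root_.Nat.cast_nonneg (α := ℤ) (v)]

theorem LWin.not_isoF4 (h : LWin T n) : ¬ Lie.IsoF4 T := by
  rintro ⟨F, _, _, ⟨e⟩⟩
  have h' := h.congr e
  have hu : 2 ≤ Nat.card F := Finite.one_lt_card
  rcases f4_row h'.iso with h1 | ⟨he, h1⟩
  · exact h'.not_twelve hu h1 f4_orderA
  · refine h'.not_above (f4_orderA (F := F)) ?_
    rw [h1]
    obtain ⟨v, hv⟩ : ∃ v, Nat.card F = v + 2 := ⟨Nat.card F - 2, by omega⟩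
    rw [hv]
    have e1 : (v + 2) ^ 3 - 1 = v ^ 3 + 6 * v ^ 2 + 12 * v + 7 := by
      have : (v + 2) ^ 3 = v ^ 3 + 6 * v ^ 2 + 12 * v + 7 + 1 := by ring
      omega
    rw [e1]
    nlinarith only []

theorem LWin.not_iso3D4 (h : LWin T n) : ¬ Lie.Iso3D4 T := by
  rintro ⟨K, _, _, q, hq, hK, ⟨e⟩⟩
  have h' := h.congr e
  exact h'.not_twelve hq.two_le (d4_row hq hK h'.iso) (d4_orderA hq hK)

theorem LWin.not_isoE6 (h : LWin T n) : ¬ Lie.IsoChevE6 T := by
  rintro ⟨F, _, _, ⟨e⟩⟩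
  have h' := h.congr e
  have hb := h.big
  have hu : 2 ≤ Nat.card F := Finite.one_lt_card
  have h1 := Cfsg.Agent.H366.Iso.e6_row h'.iso
  obtain ⟨x, hx⟩ := Cfsg.Agent.H366.Iso.e6_orderA (F := F)
  set u := Nat.card F with hud
  set g := Nat.gcd 3 (u - 1) with hg
  have hg0 : 0 < g := Nat.gcd_pos_of_pos_left _ (by norm_num)
  have hgu : g ∣ u - 1 := Nat.gcd_dvd_right _ _
  have hgd : g ∣ (u ^ 5 - 1) * (u + 1) := (hgu.trans (Nat.sub_one_dvd_pow_sub_one u 5)).mul_right _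
  have hxe : orderOf x * g = (u ^ 5 - 1) * (u + 1) := by rw [hx]; exact Nat.div_mul_cancel hgd
  obtain ⟨U, hU⟩ : ∃ U : ℤ, U = (u : ℤ) := ⟨_, rfl⟩
  obtain ⟨G, hG⟩ : ∃ G : ℤ, G = (g : ℤ) := ⟨_, rfl⟩
  have hU2 : 2 ≤ U := by omega
  have hG0 : 0 < G := by omega
  have e1 : (n : ℤ) * G = U ^ 6 + U ^ 3 + 1 := by
    rw [hG, hU]
    exact_mod_cast h1
  have e2 : (orderOf x : ℤ) * G = (U ^ 5 - 1) * (U + 1) := by
    have h2 : ((orderOf x * g : ℕ) : ℤ) = (((u ^ 5 - 1) * (u + 1) : ℕ) : ℤ) := by rw [hxe]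
    rw [Nat.cast_mul, Nat.cast_mul, Nat.cast_sub (Nat.one_le_pow _ _ (by omega))] at h2
    push_cast at h2
    rw [hG, hU]
    exact h2
  have hU5 : 2 * U ^ 4 ≤ U ^ 5 := by nlinarith only [hu, hU, pow_pos (by linarith : (0:ℤ) < U) 4]
  have hU4 : 2 * U ^ 3 ≤ U ^ 4 := by nlinarith only [hu, hU, hU5]
  have hU22 : 4 ≤ U ^ 2 := by nlinarith only [hu, hU]
  have hU3 : 4 * U ≤ U ^ 3 := by nlinarith only [hU5, hU4, hU22]
  refine h'.above (m := orderOf x) (c := G) (A := U ^ 5 - U ^ 3 - U - 2) ⟨x, rfl⟩ hG0 (by linarith only [hu, hU, hU5, hU4, hU3]) ?_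
  linear_combination e2 - e1

theorem LWin.not_isoE8 (h : LWin T n) : ¬ Lie.IsoE8 T := by
  rintro ⟨F, _, _, ⟨e⟩⟩
  have h' := h.congr e
  have hu : 2 ≤ Nat.card F := Finite.one_lt_card
  have c15 := Cfsg.Agent.H414.Iso.cast15 hu
  have c20 := Cfsg.Agent.H414.Iso.cast20 hu
  have c24 := Cfsg.Agent.H414.Iso.cast24 hu
  have c30 := Cfsg.Agent.H414.Iso.cast30 hu
  have E24 := Cfsg.Agent.H414.Iso.e8_order24 (F := F)
  have E30 := Cfsg.Agent.H414.Iso.e8_order30 (F := F)
  have hrow := Cfsg.Agent.H414.Iso.e8_row h'.iso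
  obtain ⟨U, hU⟩ : ∃ U : ℤ, U = (Nat.card F : ℤ) := ⟨_, rfl⟩
  have hU2 : 2 ≤ U := by rw [hU]; exact_mod_cast hu
  have p1 : 0 < U := by linarith only [hu, hU]
  have hU3 : 2 * U ^ 2 ≤ U ^ 3 := by nlinarith only [hu, hU]
  have hU4 : 2 * U ^ 3 ≤ U ^ 4 := by nlinarith only [hU, hU3]
  have hU5 : 2 * U ^ 4 ≤ U ^ 5 := by nlinarith only [hU3]
  have hU6 : 2 * U ^ 5 ≤ U ^ 6 := by nlinarith only [hU4, _root_.sq_nonneg (U : ℤ)]
  have hU7 : 2 * U ^ 6 ≤ U ^ 7 := by nlinarith only [hU5, _root_.sq_nonneg (U : ℤ)]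
  have hU8 : 2 * U ^ 7 ≤ U ^ 8 := by nlinarith only [hU6, _root_.sq_nonneg (U : ℤ)]
  have hU22 : 2 * U ≤ U ^ 2 := by nlinarith only [hu, hU]
  rw [← hU] at c15 c20 c24 c30
  have odd24 : Odd (Nat.card F ^ 8 - Nat.card F ^ 4 + 1) := by
    have h2 : Odd (((Nat.card F ^ 8 - Nat.card F ^ 4 + 1 : ℕ) : ℤ)) := by
      rw [c24]
      have h3 : Even (U ^ 4 * (U ^ 4 - 1)) := by
        rcases Int.even_or_odd (U ^ 4) with h4 | h4
        · exact h4.mul_right _
        · exact (h4.sub_odd odd_one).mul_left _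
      have h4 : U ^ 8 - U ^ 4 + 1 = U ^ 4 * (U ^ 4 - 1) + 1 := by ring
      rw [h4]
      exact h3.add_one
    exact_mod_cast h2
  rcases hrow with h1 | h1 | h1 | h1
  · refine h'.not_above E30 ?_
    have h2 := congrArg (Nat.cast : ℕ → ℤ) h1
    rw [c15] at h2
    refine Int.ofNat_lt.1 ?_
    rw [c30, h2]
    linarith only [hu, hU, hU3, hU4, hU5, hU6, hU7, hU22]
  · refine h'.not_above E30 ?_
    have h2 := congrArg (Nat.cast : ℕ → ℤ) h1
    rw [c20] at h2
    refine Int.ofNat_lt.1 ?_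
    rw [c30, h2]
    linarith only [hu, hU, hU3, hU4, hU5, hU6, hU7, hU22]
  · refine h'.not_above E30 ?_
    have h2 := congrArg (Nat.cast : ℕ → ℤ) h1
    rw [c24] at h2
    refine Int.ofNat_lt.1 ?_
    rw [c30, h2]
    linarith only [hu, hU, hU3, hU4, hU5, hU6, hU7, hU22]
  · have h2 := congrArg (Nat.cast : ℕ → ℤ) h1
    rw [c30] at h2
    refine h'.not_odd E24 odd24 ?_ ?_
    · refine Int.ofNat_lt.1 ?_
      rw [Nat.cast_mul, c24, h2]
      push_cast
      linarith only [hU, hU3, hU4, hU5, hU6, hU7, hU8, hU22]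
    · intro h3
      have h4 := congrArg (Nat.cast : ℕ → ℤ) h3
      rw [c24, h2] at h4
      linarith only [hu, hU, hU3, hU4, hU5, hU6, hU7, hU22, h4]

theorem LWin.not_isoE7 (h : LWin T n) : ¬ Lie.IsoE7 T := by
  rintro ⟨F, _, _, ⟨e⟩⟩
  have h' := h.congr e
  have E7 := Cfsg.Agent.H414.Iso.e7_order7 (F := F)
  have E9 := Cfsg.Agent.H414.Iso.e7_order9 (F := F)
  rcases Cfsg.Agent.H414.Iso.e7_row h'.iso with ⟨hu, h1 | h1⟩ | ⟨hu, h1 | h1⟩
  · rw [hu] at E7
    exact h'.not_above E7 (by rw [h1]; norm_num)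
  · rw [hu] at E9
    exact h'.not_odd E9 (by decide) (by rw [h1]; norm_num) (by rw [h1]; norm_num)
  · rw [hu] at E7
    exact h'.not_above E7 (by rw [h1]; norm_num)
  · rw [hu] at E9
    exact h'.not_odd E9 (by decide) (by rw [h1]; norm_num) (by rw [h1]; norm_num)

end

section

variable {T : Type*} [Group T] {p f q d N E P : ℕ}

/-- small values of `N` -/
theorem LCtx.N_ne_247 (h : LCtx T p f q d N E P) : N ≠ 247 := by
  intro h1
  have A := h.A
  have hN := A.hN
  rw [h1] at hN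
  rcases A.d13 with h2 | h2 <;> rw [h2] at hN
  · have h3 : q < 16 := by nlinarith only [hN]
    have h4 : 15 < q := by nlinarith only [hN]
    omega
  · have h3 : q < 27 := by nlinarith only [hN]
    have h4 : 26 < q := by
      by_contra hcon
      have h5 : q ^ 2 ≤ 26 ^ 2 := Nat.pow_le_pow_left (by omega) 2
      omega
    omega

theorem LCtx.not_iso2E6 (h : LCtx T p f q d N E P) : ¬ Lie.Iso2E6 T := by
  rintro ⟨K, _, _, u, hu, hK, ⟨e⟩⟩
  have h' := h.win.congr e
  have hb := h.win.big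
  have hu2 := hu.two_le
  rcases Cfsg.Agent.H366.Iso.e6t_row hu hK h'.iso with h1 | ⟨-, h1⟩
  · obtain ⟨x, hx⟩ := Cfsg.Agent.H366.Iso.e6t_orderA hu hK
    set g := Nat.gcd 3 (u + 1) with hg
    have hg0 : 0 < g := Nat.gcd_pos_of_pos_left _ (by norm_num)
    have hg3 : g ≤ 3 := Nat.le_of_dvd (by norm_num) (Nat.gcd_dvd_left _ _)
    have hgu : g ∣ u + 1 := Nat.gcd_dvd_right _ _
    have hgd : g ∣ (u ^ 5 + 1) * (u - 1) := (hgu.trans (add_one_dvd_pow_add_one (by decide))).mul_right _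
    have hxe : orderOf x * g = (u ^ 5 + 1) * (u - 1) := by rw [hx]; exact Nat.div_mul_cancel hgd
    have hne2 : u ≠ 2 := by
      intro h2
      rw [h2] at hg
      rw [h2, hg] at h1
      norm_num at h1
      omega
    have h36 : u ^ 3 ≤ u ^ 6 := Nat.pow_le_pow_right (by omega) (by norm_num)
    obtain ⟨U, hU⟩ : ∃ U : ℤ, U = (u : ℤ) := ⟨_, rfl⟩
    obtain ⟨G, hG⟩ : ∃ G : ℤ, G = (g : ℤ) := ⟨_, rfl⟩
    have hU3' : 3 ≤ U := by omega
    have hG0 : 0 < G := by omega
    have hG3 : G ≤ 3 := by omega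
    have e1 : (N : ℤ) * G = U ^ 6 - U ^ 3 + 1 := by
      have h2 : ((N * g : ℕ) : ℤ) = ((u ^ 6 - u ^ 3 + 1 : ℕ) : ℤ) := by rw [h1]
      rw [Nat.cast_mul, Nat.cast_add, Nat.cast_sub h36] at h2
      push_cast at h2
      rw [hG, hU]
      exact h2
    have e2 : (orderOf x : ℤ) * G = (U ^ 5 + 1) * (U - 1) := by
      have h2 : ((orderOf x * g : ℕ) : ℤ) = (((u ^ 5 + 1) * (u - 1) : ℕ) : ℤ) := by rw [hxe]
      rw [Nat.cast_mul, Nat.cast_mul, Nat.cast_sub (by omega : 1 ≤ u)] at h2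
      push_cast at h2
      rw [hG, hU]
      exact h2
    have p1 : 0 < U := by linarith only [hU3']
    have hU6 : 3 * U ^ 5 ≤ U ^ 6 := by nlinarith only [hU3', pow_pos p1 5]
    have hU5 : 9 * U ^ 3 ≤ U ^ 5 := by
      have h9 : 9 ≤ U ^ 2 := by nlinarith only [hU3']
      calc 9 * U ^ 3 ≤ U ^ 2 * U ^ 3 := mul_le_mul_of_nonneg_right h9 (by positivity)
        _ = U ^ 5 := by ring
    have hU3 : 9 * U ≤ U ^ 3 := by
      have : 9 ≤ U ^ 2 := by nlinarith only [hU3']
      nlinarith only [hU5, this]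
    refine h'.below (m := orderOf x) (c := G) (A := U ^ 5 - U ^ 3 - U + 2) ⟨x, rfl⟩ hG0 (by linarith only [hU3', hU5, hU3]) ?_ ?_ ?_
    · linear_combination e2 - e1
    · have h2 : G * (orderOf x : ℤ) = (U ^ 5 + 1) * (U - 1) := by rw [← e2]; ring
      have h3 : G * (N : ℤ) = U ^ 6 - U ^ 3 + 1 := by rw [← e1]; ring
      rw [h2, h3]
      linarith only [hU3', hU6, hU5, hU3]
    · have h2 : 4 * (N : ℤ) * G ^ 2 = 4 * G * ((N : ℤ) * G) := by ring
      rw [h2, e1]
      have h6 : 4 * G * (U ^ 6 - U ^ 3 + 1) ≤ 12 * (U ^ 6 - U ^ 3 + 1) := by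
        have h3 : 0 ≤ U ^ 6 - U ^ 3 + 1 := by linarith only [hU3', hU6, hU5, hU3]
        exact mul_le_mul_of_nonneg_right (by linarith only [hg3, hG]) h3
      refine h6.trans ?_
      have h7 : 7 * U ^ 3 ≤ U ^ 5 - U ^ 3 - U + 2 := by linarith only [hU3', hU5, hU3]
      have h8 := pow_le_pow_left₀ (by positivity) h7 2
      have h9 : (7 * U ^ 3) ^ 2 = 49 * U ^ 6 := by ring
      rw [h9] at h8
      have h10 : 0 < U ^ 3 := pow_pos p1 3
      linarith only [hU3', hU6, hU5, hU3, h8]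
  · -- `u = 2`
    have hmod := fun d (hd : d ∣ N) => h.win.mod_dvd hd
    have h17 : Nat.Coprime N 17 := by
      rw [Nat.coprime_comm, Nat.Prime.coprime_iff_not_dvd (by norm_num)]
      intro hd
      have := hmod 17 hd
      omega
    have h2 : N ∣ 247 := by
      have h3 : N ∣ 17 * 247 := by
        have : 13 * 17 * 19 = 17 * 247 := by norm_num
        rwa [this] at h1
      exact h17.dvd_of_dvd_mul_left h3
    refine h.N_ne_247 ?_
    rcases dvd_cases3 (by norm_num) h2 with h4 | h4 | h4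
    · exact h4
    · omega
    · have h6 : N ≤ 82 := by omega
      obtain ⟨k, hk⟩ := h2
      have hk1 : k ≤ 7 := by
        by_contra hcon
        have : 31 * 8 ≤ N * k := Nat.mul_le_mul hb (by omega)
        omega
      interval_cases k <;> (clear * - hk hb h4; omega)

/-- **`²F₄(q)`** -/
theorem LCtx.not_iso2F4 (h : LCtx T p f q d N E P) : ¬ Lie.Iso2F4 T := by
  rintro ⟨K, _, _, m, hm, hK, ⟨e⟩⟩
  have h' := h.win.congr e
  have A := h.A
  obtain ⟨b, hb⟩ : ∃ b, b = 2 ^ m := ⟨_, rfl⟩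
  have hb2 : 2 ≤ b := by
    rw [hb]
    calc 2 = 2 ^ 1 := by norm_num
      _ ≤ 2 ^ m := Nat.pow_le_pow_right (by norm_num) hm
  rcases f4t_row hK hm hb h'.iso with h1 | h1 | h1
  · have hE := f4t_B hK hb
    have hbb : 1 ≤ 2 * b ^ 2 := by nlinarith only [hb2]
    obtain ⟨c, hc⟩ : ∃ c, 2 * b ^ 2 - 1 = 2 * c + 1 := ⟨b ^ 2 - 1, by
      have : 4 ≤ b ^ 2 := by nlinarith only [hb2]
      omega⟩
    have hval : (2 * b ^ 2 - 1) * (2 * b ^ 2 + 2 * b + 1) + 2 * b + 1 = 4 * b ^ 4 + 4 * b ^ 3 := by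
      obtain ⟨v, rfl⟩ : ∃ v, b = v + 1 := ⟨b - 1, by omega⟩
      have h3 : 2 * (v + 1) ^ 2 - 1 = 2 * v ^ 2 + 4 * v + 1 := by
        have : 2 * (v + 1) ^ 2 = 2 * v ^ 2 + 4 * v + 1 + 1 := by ring
        (clear * - this; omega)
      rw [h3]
      ring
    have hb3 : 4 * b ≤ b ^ 3 := by
      have : 4 ≤ b ^ 2 := by nlinarith only [hb2]
      nlinarith only [hb2, _root_.sq_nonneg (↑b : ℤ), _root_.Nat.cast_nonneg (α := ℤ) (b)]
    have hb4 : 4 * b ^ 2 ≤ b ^ 4 := by
      have h4 : 4 ≤ b ^ 2 := by nlinarith only [hb2]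
      calc 4 * b ^ 2 ≤ b ^ 2 * b ^ 2 := Nat.mul_le_mul_right _ h4
        _ = b ^ 4 := by ring
    refine h'.not_odd hE ?_ ?_ ?_
    · rw [hc]
      exact Odd.mul ⟨c, rfl⟩ ⟨b ^ 2 + b, by ring⟩
    · rw [h1]
      omega
    · rw [h1]
      omega
  · refine h'.not_above (f4t_plus hK hb) ?_
    linarith only [h1, pow_pos (by linarith : 0 < b) 3]
  · -- `n = t₊ t₋`
    obtain ⟨X, hX⟩ : ∃ X, X = 4 * b ^ 4 := ⟨_, rfl⟩
    have hX64 : 64 ≤ X := by
      rw [hX]
      have : 2 ^ 4 ≤ b ^ 4 := Nat.pow_le_pow_left hb2 4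
      omega
    have hn : N + X = X ^ 2 + 1 := by
      have h7 : 16 * b ^ 8 = X ^ 2 := by rw [hX]; ring
      rw [h1, h7, ← hX]
      have : X ≤ X ^ 2 := Nat.le_self_pow (by norm_num) X
      omega
    obtain ⟨Y, hY⟩ : ∃ Y, X = Y + 1 := ⟨X - 1, by omega⟩
    have hN := A.hN
    rcases A.hd with ⟨h2, -⟩ | ⟨h2, h3⟩
    · rw [h2, one_mul] at hN
      have h6 : q = Y := by
        rw [hY] at hn
        have h7 : q ^ 2 + q = Y ^ 2 + Y := by linarith only [hn, hN]
        rcases Nat.lt_trichotomy q Y with h8 | h8 | h8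
        · nlinarith only [hn, hN]
        · exact h8
        · nlinarith only [hn, hN]
      -- `q = (2 b² - 1)(2 b² + 1)`
      have h7 : q = (2 * b ^ 2 - 1) * (2 * b ^ 2 + 1) := by
        obtain ⟨c, hc⟩ : ∃ c, 2 * b ^ 2 = c + 1 := ⟨2 * b ^ 2 - 1, by
          have : 4 ≤ b ^ 2 := by nlinarith only [hX, hX64]
          omega⟩
        have h8 : 4 * b ^ 4 = (2 * b ^ 2) ^ 2 := by ring
        rw [hc, Nat.add_sub_cancel]
        rw [h8, hc] at hX
        have h9 : (c + 1) ^ 2 = c * (c + 1 + 1) + 1 := by ring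
        omega
      have h8 : 3 ≤ 2 * b ^ 2 - 1 := by
        have : 4 ≤ b ^ 2 := by nlinarith only [hX, hX64]
        omega
      have hq := A.hq
      obtain ⟨r, hr, hrd⟩ := Nat.exists_prime_and_dvd (show 2 * b ^ 2 - 1 ≠ 1 by omega)
      obtain ⟨s, hs, hsd⟩ := Nat.exists_prime_and_dvd (show 2 * b ^ 2 + 1 ≠ 1 by omega)
      have hrq : r ∣ p ^ f := by rw [← hq, h7]; exact hrd.mul_right _
      have hsq : s ∣ p ^ f := by rw [← hq, h7]; exact hsd.mul_left _
      have hrp := (Nat.prime_dvd_prime_iff_eq hr A.hp).1 (hr.dvd_of_dvd_pow hrq)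
      have hsp := (Nat.prime_dvd_prime_iff_eq hs A.hp).1 (hs.dvd_of_dvd_pow hsq)
      rw [hrp] at hrd
      rw [hsp] at hsd
      have h9 : p ∣ (2 * b ^ 2 + 1) - (2 * b ^ 2 - 1) := Nat.dvd_sub hsd hrd
      have h10 : (2 * b ^ 2 + 1) - (2 * b ^ 2 - 1) = 2 := by (clear * - h8; omega)
      rw [h10] at h9
      exact A.hp2 ((Nat.prime_dvd_prime_iff_eq A.hp Nat.prime_two).1 h9)
    · obtain ⟨j, hj⟩ : ∃ j, q = 3 * j + 1 := ⟨q / 3, by omega⟩
      rw [h2, hj] at hN
      have h6 : 3 * (j * (j + 1)) = X * Y := by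
        have h7 : N = 3 * (j * (j + 1)) + 1 := by
          have h8 : 3 * N = 3 * (3 * (j * (j + 1)) + 1) := by rw [hN]; ring
          (clear * - h8; omega)
        have h9 : X ^ 2 = X * Y + X := by rw [hY]; ring
        omega
      have hX2 : X = 2 ^ (4 * m + 2) := by
        rw [hX, hb, ← pow_mul, pow_add]
        ring
      have h7 : 2 ^ (4 * m + 2) ∣ j * (j + 1) := by
        have h8 : 2 ^ (4 * m + 2) ∣ 3 * (j * (j + 1)) := by
          rw [h6, ← hX2]
          exact dvd_mul_right _ _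
        exact (Nat.Coprime.pow_left _ (by norm_num)).dvd_of_dvd_mul_left h8
      have hj0 : 0 < j := by
        have := A.h5
        omega
      have h9 : X ≤ j + 1 := by
        rw [hX2]
        rcases pow_two_dvd h7 with h10 | h10
        · exact (Nat.le_of_dvd hj0 h10).trans (Nat.le_succ _)
        · exact Nat.le_of_dvd (by omega) h10
      have h11 : X * Y ≤ j * (j + 1) := by
        calc X * Y = Y * X := mul_comm _ _
          _ ≤ j * (j + 1) := Nat.mul_le_mul (by omega) h9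
      have h12 : 0 < X * Y := Nat.mul_pos (by omega) (by omega)
      omega

end

end Cfsg.Agent.R2.Spec.X2
end

-- part: R2/Spec/X2/LOrth
section
/-!
# Elimination in the window of `PSL_3(q)`: orthogonal groups, `PSL_m` (helper16)
-/

set_option autoImplicit false

namespace Cfsg.Agent.R2.Spec.X2

open Cfsg Cfsg.Agent.H360.Iso Cfsg.Agent.H182.Orth Cfsg.Agent.H182.Sign Cfsg.Agent.H403.Classify Cfsg.Agent.H948.UProd
open Cfsg.Agent.H948.UMain Cfsg.Agent.LieClassical.OrthForms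

section

variable {T : Type*} [Group T] {n : ℕ}

/-- `PΩ⁺_{2m}(u)` -/
theorem LWin.not_plus (h : LWin T n) {u m : ℕ} (hm : 4 ≤ m) (hu : 2 ≤ u)
    (hrow : (Odd m ∧ u = 2 ∧ n = 2 ^ m - 1 ∧ ∃ x : T, orderOf x = 3 * (2 ^ (m - 1) + 1)) ∨
    (Odd m ∧ Odd u ∧ n * (u - 1) = u ^ m - 1 ∧
      ∃ x : T, 4 * orderOf x = (u ^ (m - 1) + 1) * (u + 1)) ∨
    (Even m ∧ u = 2 ∧ n = 2 ^ (m - 1) - 1 ∧ ∃ x : T, orderOf x = 2 ^ m - 1) ∨
    (Even m ∧ u = 3 ∧ 2 * n = 3 ^ (m - 1) - 1 ∧ ∃ x : T, 2 * orderOf x = 3 ^ (m - 1) + 1)) : False := by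
  have hb := h.big
  have hone : ∀ i, 1 ≤ u ^ i := fun i => Nat.one_le_pow _ _ (by omega)
  obtain ⟨k, rfl⟩ : ∃ k, m = k + 1 := ⟨m - 1, by omega⟩
  rw [Nat.add_sub_cancel] at hrow
  rcases hrow with ⟨hmo, h2, hn, x, hx⟩ | ⟨hmo, huo, hn, x, hx⟩ | ⟨hme, h2, hn, x, hx⟩ | ⟨hme, h3, hn, x, hx⟩
  · -- `u = 2`, `m` odd
    have h3 : 2 ^ (k + 1) = 2 * 2 ^ k := by ring
    rw [h3] at hn
    exact h.not_above ⟨x, hx⟩ (by omega)
  · have hu3 : 3 ≤ u := by
      obtain ⟨t, ht⟩ := huo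
      omega
    have hk4 : 4 ≤ k := by
      obtain ⟨t, ht⟩ := hmo
      omega
    set e := orderOf x with he
    set U : ℤ := (u : ℤ) with hU
    set X : ℤ := (u : ℤ) ^ k with hX
    have hU3 : 3 ≤ U := by omega
    have e1 : (n : ℤ) * (U - 1) = U * X - 1 := by
      have h1 : ((n * (u - 1) : ℕ) : ℤ) = ((u ^ (k + 1) - 1 : ℕ) : ℤ) := by rw [hn]
      rw [Nat.cast_mul, Nat.cast_sub (by omega), Nat.cast_sub (hone _), Nat.cast_pow, Nat.cast_one] at h1
      rw [h1, pow_succ]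
      ring
    have e2 : 4 * (e : ℤ) = (X + 1) * (U + 1) := by
      have h1 : ((4 * e : ℕ) : ℤ) = (((u ^ k + 1) * (u + 1) : ℕ) : ℤ) := by rw [hx]
      push_cast at h1
      exact h1
    have hX81 : U ^ 4 ≤ X := pow_le_pow_right₀ (by linarith only [hu3]) hk4
    rcases Nat.lt_or_ge u 5 with hu5 | hu5
    · have hu3' : u = 3 := by
        obtain ⟨t, ht⟩ := huo
        omega
      have hU' : U = 3 := by omega
      rw [hU'] at e1 e2 hX81
      norm_num at hX81
      -- `n = (3X-1)/2`, `e = X + 1`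
      refine h.below (m := e) (c := 2) (A := X - 3) ⟨x, rfl⟩ (by norm_num) (by linarith only [hX81]) (by linarith only [e1, e2]) (by linarith only [e1, e2]) ?_
      nlinarith only [e1, hX81]
    · have hU5 : 5 ≤ U := by omega
      have hX625 : 625 ≤ X := by
        have := pow_le_pow_left₀ (by norm_num : (0:ℤ) ≤ 5) hU5 4
        norm_num at this
        linarith only [hX81, this]
      have h24 : 4 ≤ U ^ 2 - 4 * U - 1 := by nlinarith only [hu5]
      refine h.above (m := e) (c := 4 * (U - 1)) (A := (U ^ 2 - 4 * U - 1) * X + (U ^ 2 + 3)) ⟨x, rfl⟩ (by linarith only [hu5])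
        (by nlinarith only [hx, hu5, hX625]) ?_
      have h1 : 4 * (U - 1) * (e : ℤ) = (U - 1) * (4 * (e : ℤ)) := by ring
      have h2 : 4 * (U - 1) * (n : ℤ) = 4 * ((n : ℤ) * (U - 1)) := by ring
      rw [h1, h2, e1, e2]
      ring
  · have h3 : 2 ^ (k + 1) = 2 * 2 ^ k := by ring
    rw [h3] at hx
    have h4 := Nat.one_le_pow k 2 (by norm_num)
    exact h.not_above ⟨x, hx⟩ (by omega)
  · exact h.not_near (m := n + 1) ⟨x, by omega⟩ (by omega) (by omega) (by omega)

/-- `PΩ⁻_{2m}(u)` -/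
theorem LWin.not_minus (h : LWin T n) {u m : ℕ} (hm : 4 ≤ m) (hu : 2 ≤ u)
    (hrow : (Even m ∧ Even u ∧ n = u ^ m + 1 ∧
      ∃ x : T, orderOf x = (u ^ (m - 1) - 1) * (u + 1)) ∨
    (Even m ∧ Odd u ∧ 2 * n = u ^ m + 1 ∧
      ∃ x : T, 4 * orderOf x = (u ^ (m - 1) - 1) * (u + 1)) ∨
    (Odd m ∧ Odd u ∧ n * (u + 1) = u ^ m + 1 ∧
      ∃ x : T, 2 * orderOf x = u ^ (m - 1) - 1) ∨
    (Odd m ∧ u = 2 ∧ n = 2 ^ (m - 1) + 1 ∧ ∃ x : T, orderOf x = 2 ^ m + 1) ∨
    (u = 3 ∧ ∃ A B a b : ℕ, Odd A ∧ Odd B ∧ 3 ^ m + 1 = a * A ∧ 3 ^ (m - 1) + 1 = b * B ∧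
      ((Even m ∧ a = 2 ∧ b = 4) ∨ (Odd m ∧ a = 4 ∧ b = 2)) ∧
      ((n = B ∧ ∃ x : T, orderOf x = A) ∨ n = A * B))) : False := by
  have hb := h.big
  have hone : ∀ i, 1 ≤ u ^ i := fun i => Nat.one_le_pow _ _ (by omega)
  obtain ⟨k, rfl⟩ : ∃ k, m = k + 1 := ⟨m - 1, by omega⟩
  rw [Nat.add_sub_cancel] at hrow
  rcases hrow with ⟨hme, hue, hn, x, hx⟩ | ⟨hme, huo, hn, x, hx⟩ | ⟨hmo, huo, hn, x, hx⟩ | ⟨hmo, h2, hn, x, hx⟩ |
    ⟨h3, A, B, a, b, hA, hB, ha, hb', hab, hn⟩
  · refine h.not_above ⟨x, hx⟩ ?_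
    have hk3 : 3 ≤ k := by omega
    obtain ⟨Y, hY⟩ : ∃ Y, u ^ k = Y + 1 := ⟨u ^ k - 1, by have := hone k; omega⟩
    have h1 : u ^ 3 ≤ u ^ k := Nat.pow_le_pow_right (by omega) hk3
    have h4 : u + 3 ≤ u ^ 3 := by
      obtain ⟨t, rfl⟩ : ∃ t, u = t + 2 := ⟨u - 2, by omega⟩
      nlinarith only [_root_.sq_nonneg (↑t : ℤ), _root_.Nat.cast_nonneg (α := ℤ) (t)]
    rw [hn, pow_succ, hY, Nat.add_sub_cancel]
    linarith only [hY, h1, h4]
  · -- `u` odd, `m` even
    have hu3 : 3 ≤ u := by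
      obtain ⟨t, ht⟩ := huo
      omega
    set e := orderOf x with he
    set U : ℤ := (u : ℤ) with hU
    set X : ℤ := (u : ℤ) ^ k with hX
    have hU3 : 3 ≤ U := by omega
    have e1 : 2 * (n : ℤ) = U * X + 1 := by
      have h1 : ((2 * n : ℕ) : ℤ) = ((u ^ (k + 1) + 1 : ℕ) : ℤ) := by rw [hn]
      push_cast at h1
      rw [h1, pow_succ]
      ring
    have e2 : 4 * (e : ℤ) = (X - 1) * (U + 1) := by
      have h1 : ((4 * e : ℕ) : ℤ) = (((u ^ k - 1) * (u + 1) : ℕ) : ℤ) := by rw [hx]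
      rw [Nat.cast_mul, Nat.cast_mul, Nat.cast_sub (hone _)] at h1
      push_cast at h1
      exact h1
    have hX27 : U ^ 3 ≤ X := pow_le_pow_right₀ (by linarith only [hu3]) (by omega)
    have hX9 : 9 * U ≤ X := by
      have h7 : 9 ≤ U ^ 2 := by nlinarith only [hu3]
      have h8 : 9 * U ≤ U ^ 2 * U := mul_le_mul_of_nonneg_right h7 (by linarith only [hu3])
      have h9 : U ^ 2 * U = U ^ 3 := by ring
      linarith only [hX27, h8]
    have hX0 : 0 < X := by linarith only [hu3, hX9]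
    refine h.below (m := e) (c := 4) (A := (U - 1) * X + U + 3) ⟨x, rfl⟩ (by norm_num) (by nlinarith only [hu3, e1]) ?_ ?_ ?_
    · linear_combination e2 - 2 * e1
    · linarith only [hu3, e1, e2, hX9]
    · have h5 : 4 * (n : ℤ) * 4 ^ 2 = 32 * (2 * (n : ℤ)) := by ring
      rw [h5, e1]
      have h6 : 2 * X + 6 ≤ (U - 1) * X + U + 3 := by nlinarith only [hu3, e1]
      rcases Nat.lt_or_ge u 4 with hu4 | hu4
      · have hU' : U = 3 := by omega
        rw [hU'] at hX27 ⊢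
        norm_num at hX27
        nlinarith only [hu3, hX9]
      · have hU4 : 4 ≤ U := by omega
        have h7 : 3 * X ≤ (U - 1) * X + U + 3 := by nlinarith only [e1, hu4]
        have h8 : (3 * X) ^ 2 ≤ ((U - 1) * X + U + 3) ^ 2 := pow_le_pow_left₀ (by linarith only [hX9, hu4]) h7 2
        refine le_trans ?_ h8
        have h9 : 9 * (9 * U) * X ≤ 9 * X * X := by nlinarith only [hX9, hu4]
        linarith only [hX9, hu4, h7, h9]
  · -- `u` odd, `m` odd
    have hu3 : 3 ≤ u := by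
      obtain ⟨t, ht⟩ := huo
      omega
    have hk4 : 4 ≤ k := by
      obtain ⟨t, ht⟩ := hmo
      omega
    set e := orderOf x with he
    set U : ℤ := (u : ℤ) with hU
    set X : ℤ := (u : ℤ) ^ k with hX
    have hU3 : 3 ≤ U := by omega
    have e1 : (n : ℤ) * (U + 1) = U * X + 1 := by
      have h1 : ((n * (u + 1) : ℕ) : ℤ) = ((u ^ (k + 1) + 1 : ℕ) : ℤ) := by rw [hn]
      push_cast at h1
      rw [h1, pow_succ]
      ring
    have e2 : 2 * (e : ℤ) = X - 1 := by
      have h1 : ((2 * e : ℕ) : ℤ) = ((u ^ k - 1 : ℕ) : ℤ) := by rw [hx]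
      rw [Nat.cast_mul, Nat.cast_sub (hone _)] at h1
      push_cast at h1
      exact h1
    have hX81 : U ^ 4 ≤ X := pow_le_pow_right₀ (by linarith only [hu3]) hk4
    have hX9 : 9 * U ^ 2 ≤ X := by
      have h7 : 9 ≤ U ^ 2 := by nlinarith only [hu3]
      have h8 : 9 * U ^ 2 ≤ U ^ 2 * U ^ 2 := mul_le_mul_of_nonneg_right h7 (by positivity)
      have h9 : U ^ 2 * U ^ 2 = U ^ 4 := by ring
      linarith only [hX81, h8]
    have hX0 : 0 < X := by linarith only [e2]
    refine h.below (m := e) (c := 2 * (U + 1)) (A := (U - 1) * X + U + 3) ⟨x, rfl⟩ (by linarith only [hu3]) (by nlinarith only [hu3, e2])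
      ?_ ?_ ?_
    · linear_combination (U + 1) * e2 - 2 * e1
    · have h1 : 2 * (2 * (U + 1) * (e : ℤ)) = 2 * (U + 1) * (X - 1) := by rw [← e2]; ring
      have h2 : 2 * (U + 1) * (n : ℤ) = 2 * (U * X + 1) := by rw [← e1]; ring
      rw [h1, h2]
      nlinarith only [hu3, hX9]
    · have h1 : 4 * (n : ℤ) * (2 * (U + 1)) ^ 2 = 16 * (U + 1) * ((n : ℤ) * (U + 1)) := by ring
      rw [h1, e1]
      have h6 : 2 * X ≤ (U - 1) * X + U + 3 := by nlinarith only [hu3, e2]
      have h8 : (2 * X) ^ 2 ≤ ((U - 1) * X + U + 3) ^ 2 := pow_le_pow_left₀ (by linarith only [e2]) h6 2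
      refine le_trans ?_ h8
      have h9 : 16 * (U + 1) * (U * X + 1) ≤ 32 * U ^ 2 * X := by
        nlinarith only [hu3, hX9, h6]
      refine h9.trans ?_
      nlinarith only [hX9]
  · have h3 : 2 ^ (k + 1) = 2 * 2 ^ k := by ring
    rw [h3] at hx
    have h4 := Nat.one_le_pow k 2 (by norm_num)
    exact h.not_above ⟨x, hx⟩ (by omega)
  · -- `u = 3`
    have h4 : 3 ^ (k + 1) = 3 * 3 ^ k := by ring
    have h5 : 3 ∣ 3 ^ k := dvd_pow_self 3 (by omega)
    rcases hab with ⟨hme, rfl, rfl⟩ | ⟨hmo, rfl, rfl⟩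
    · rcases hn with ⟨hn, x, hx⟩ | hn
      · exact h.not_above ⟨x, hx⟩ (by (clear * - ha hb' hn; omega))
      · have h6 := h.mod_dvd (d := A) ⟨B, hn⟩
        (clear * - ha h6; omega)
    · rcases hn with ⟨hn, x, hx⟩ | hn
      · have h6 := h.mod_dvd (d := B) (by rw [hn])
        (clear * - h5 hb' h6; omega)
      · have h6 := h.mod_dvd (d := B) (Dvd.intro_left _ hn.symm)
        (clear * - h5 hb' h6; omega)

theorem LWin.not_isPOmegaPlus (h : LWin T n) : ¬ IsPOmegaPlus T := by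
  rintro ⟨F, _, _, m, hm, ⟨e⟩⟩
  have hcard := Cfsg.Agent.S0293.result (F := F) rfl m hm
  simp only [← Nat.card_eq_fintype_card] at hcard
  have h' := h.congr e
  rw [← coe_plusForm] at hcard h'
  have h1 := plus_row (sg_plusForm (F := F) m) hm hcard h'.iso
  exact h'.not_plus hm Finite.one_lt_card h1

theorem LWin.not_isPOmegaMinus (h : LWin T n) : ¬ IsPOmegaMinus T := by
  rintro ⟨F, _, _, m, a, b, hm, hab, ⟨e⟩⟩
  have hcard := Cfsg.Agent.S0294.result (F := F) rfl m hm a b hab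
  simp only [← Nat.card_eq_fintype_card] at hcard
  have hs := sg_minusForm (F := F) (m - 1) hab
  rw [Nat.sub_add_cancel (by omega)] at hs
  have h' := h.congr e
  rw [← coe_minusForm] at hcard h'
  have h1 := minus_row hs hm hcard h'.iso
  exact h'.not_minus hm Finite.one_lt_card h1

theorem LWin.not_psl2 {F : Type*} [Field F] [Fintype F] (h4 : 4 ≤ Fintype.card F) :
    ¬ LWin (Matrix.ProjectiveSpecialLinearGroup (Fin 2) F) n := by
  intro h
  obtain ⟨p, hp⟩ := CharP.exists F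
  have hpf : Fact p.Prime := ⟨CharP.char_is_prime F p⟩
  obtain ⟨hA, hB, hk⟩ := psl2_row p h4 h.iso
  have hb := h.big
  set q := Fintype.card F with hq
  obtain ⟨t, hpr, ht⟩ := FiniteField.card F p
  rw [← hq] at ht
  have ht0 := t.pos
  rcases Nat.even_or_odd q with he | ho
  · have hg : Nat.gcd 2 (q - 1) = 1 := Nat.coprime_two_left.2 (Nat.Even.sub_odd (by omega) he odd_one)
    rw [hg, Nat.div_one, Nat.div_one] at hk
    rw [hg, Nat.div_one] at hA hB
    rcases hk with h1 | h1 | h1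
    · exact h.not_near hB (by omega) (by omega) (by omega)
    · exact h.not_near hA (by omega) (by omega) (by omega)
    · have h2 : p = 2 := by
        have h3 : 2 ∣ p ^ (t : ℕ) := ht ▸ even_iff_two_dvd.1 he
        exact ((Nat.prime_dvd_prime_iff_eq Nat.prime_two hpr).1 (Nat.prime_two.dvd_of_dvd_pow h3)).symm
      omega
  · obtain ⟨a, ha⟩ := ho
    have hg : Nat.gcd 2 (q - 1) = 2 := Nat.gcd_eq_left ⟨a, by omega⟩
    rw [hg] at hk hA hB
    have e1 : (q - 1) / 2 = a := by (clear * - ha; omega)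
    have e2 : (q + 1) / 2 = a + 1 := by omega
    rw [e1] at hA hk
    rw [e2] at hB hk
    rcases hk with h1 | h1 | h1
    · exact h.not_near hB (by omega) (by omega) (by omega)
    · exact h.not_near hA (by omega) (by omega) (by omega)
    · -- `n = p`
      rcases Nat.lt_or_ge 1 (t : ℕ) with h2 | h2
      · have h3 : n ^ 2 ≤ q := by
          rw [ht, h1]
          exact Nat.pow_le_pow_right hpr.pos h2
        have h6 : 31 * n ≤ n ^ 2 := by nlinarith only [hb]
        exact h.not_above hB (by omega)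
      · have h3 : (t : ℕ) = 1 := by omega
        rw [h3, pow_one] at ht
        refine h.not_low hB (δ := a) (by omega) (by omega) (by omega) (Or.inr ?_)
        have h5 : n = 2 * a + 1 := by omega
        rw [h5]
        nlinarith only [hb, ht, ha, h1]

/-- linear groups: only `PSL_3` -/
theorem LWin.isPSL (h : LWin T n) (hS : IsPSL T) : ∃ (F : Type) (_ : Field F) (_ : Fintype F),
    Nonempty (T ≃* Matrix.ProjectiveSpecialLinearGroup (Fin 3) F) ∧
    n * Nat.gcd 3 (Nat.card F - 1) * (Nat.card F - 1) = Nat.card F ^ 3 - 1 ∧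
      ∃ x : T, orderOf x * Nat.gcd 3 (Nat.card F - 1) = Nat.card F ^ 2 - 1 := by
  obtain ⟨F, iF, iFt, m, hm, h2, ⟨e⟩⟩ := hS
  have h' := h.congr e
  rcases Nat.eq_or_lt_of_le hm with hm2 | hm3
  · subst hm2
    exact (LWin.not_psl2 (h2 rfl) h').elim
  · have hq : 2 ≤ Nat.card F := Finite.one_lt_card
    rcases psl_row hm3 h'.iso with ⟨h1, h3⟩ | ⟨h0, h1, h3⟩
    · rcases Nat.eq_or_lt_of_le hm3 with hm4 | hm4
      · have hm4' : m = 3 := hm4.symm
        subst hm4'
        refine ⟨F, iF, iFt, ⟨e⟩, h1, ?_⟩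
        obtain ⟨x, hx⟩ := h3
        refine ⟨e.symm x, ?_⟩
        have h4 : orderOf (e.symm x) = orderOf x := orderOf_injective e.symm.toMonoidHom e.symm.injective x
        rw [h4]
        exact hx
      · exfalso
        refine h'.not_psl_one hq ?_ hm4 rfl h1 h3 ?_
        · rw [Nat.card_eq_fintype_card]
          exact FiniteField.isPrimePow_card F
        · intro hu hmo
          obtain ⟨k, rfl⟩ : ∃ k, m = 2 + k := ⟨m - 2, by omega⟩
          rw [Nat.add_sub_cancel_left]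
          have hk : Odd k := by
            rcases Nat.even_or_odd k with h4 | h4
            · exact absurd hmo (Nat.not_odd_iff_even.2 ((by decide : Even 2).add h4))
            · exact h4
          refine exists_two (F := F) hu (a := 2) (b := k) (by norm_num) (by omega) ?_
          norm_num
          rw [Nat.Prime.coprime_iff_not_dvd Nat.prime_three]
          intro hd
          obtain ⟨j, rfl⟩ := hk
          have h5 : 2 ^ (2 * j + 1) % 3 = 2 := by
            rw [pow_succ, pow_mul, Nat.mul_mod, Nat.pow_mod]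
            norm_num
          generalize 2 ^ (2 * j + 1) = z at hd h5
          omega
    · exact (h'.not_psl_two hq hm3 h1 h3).elim

end

end Cfsg.Agent.R2.Spec.X2
end
end

-- part: R2/Spec/X2/LMain
section
set_option linter.all false
open scoped Cfsg.Agent.FastGrp

-- part: R2/Spec/X2/LSpor
section
/-!
# No sporadic group has the isolated number of `PSL_3(q)`, `q ≠ 11` (helper16)
-/

set_option autoImplicit false

namespace Cfsg.Agent.R2.Spec.X2

open Cfsg Cfsg.Agent.H360.Iso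

/-- the isolated number -/
def mm (q : ℕ) : ℕ := (q ^ 2 + q + 1) / Nat.gcd 3 (q - 1)

theorem LA.gcd {p f q d N E P : ℕ} (A : LA p f q d N E P) : Nat.gcd 3 (q - 1) = d := by
  have h5 := A.h5
  rcases A.hd with ⟨h1, h2⟩ | ⟨h1, h2⟩
  · rw [h1]
    have : ¬ 3 ∣ q - 1 := by omega
    exact (Nat.Prime.coprime_iff_not_dvd Nat.prime_three).2 this
  · rw [h1]
    exact Nat.gcd_eq_left (by omega)

theorem LA.mm {p f q d N E P : ℕ} (A : LA p f q d N E P) : mm q = N := by
  unfold X2.mm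
  rw [A.gcd, ← A.hN]
  exact Nat.mul_div_cancel_left _ A.dpos

theorem LA.mem_Qs {p f q d N E P : ℕ} (A : LA p f q d N E P) (h : N ∣ 7 ^ 6 * 13 ^ 3 * 19 * 31 * 37 * 43 * 67) :
    q + 1 ∈ Qs := by
  have h1 := allD_spec chk_all h
  simp only [Bool.and_eq_true] at h1
  have hN := A.hN
  have e2 : 2 * (q + 1) - 1 = 2 * q + 1 := by omega
  rcases A.d13 with h2 | h2
  · refine chk_spec h1.1 (by omega) ?_
    rw [e2]
    rw [h2, one_mul] at hN
    rw [hN]
    have : (2 * q + 1) * (2 * q + 1) + 3 = 4 * (q ^ 2 + q + 1) := by ring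
    omega
  · refine chk_spec h1.2 (by omega) ?_
    rw [e2]
    rw [h2] at hN
    have : (2 * q + 1) * (2 * q + 1) + 3 = 4 * (q ^ 2 + q + 1) := by ring
    omega

theorem final_check3 : ∀ n ∈ H603.SporElim.L, ∀ r ∈ Qs, 5 < r → r % 2 = 0 → r ≠ 8 → r ≠ 12 → mm (r - 1) ∣ n →
    ∃ s ∈ [5, 7, 11, 13, 17, 19, 23, 29, 31, 41, 47, 59, 71], s ∣ n ∧
      ¬ s ∣ (r - 1) * ((r - 1) ^ 2 - 1) * mm (r - 1) := by decide +kernel

/-- a prime divisor of the order -/
theorem LCtx.prime_dvd {T : Type*} [Group T] [Finite T] {p f q d N E P s : ℕ} (h : LCtx T p f q d N E P)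
    (hs : s.Prime) (hd : s ∣ Nat.card T) : s ∣ q * (q ^ 2 - 1) * N := by
  have := Fact.mk hs
  obtain ⟨x, hx⟩ := exists_prime_orderOf_dvd_card' s hd
  have A := h.A
  have h1 := h.om x
  rw [hx] at h1
  rcases h1 with h1 | h1 | h1 | h1
  · exact h1.mul_left _
  · refine Dvd.dvd.mul_right (Dvd.dvd.mul_left ?_ _) _
    rw [← A.hE]
    exact h1.mul_left _
  · refine Dvd.dvd.mul_right (Dvd.dvd.mul_left ?_ _) _
    rw [A.sq_sub]
    exact h1.mul_right _
  · have h2 : s ∣ p * (q - 1) := by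
      rw [← A.hP]
      exact h1.mul_left _
    rcases hs.dvd_mul.1 h2 with h3 | h3
    · exact ((h3.trans A.dvd_q).mul_right _).mul_right _
    · refine Dvd.dvd.mul_right (Dvd.dvd.mul_left ?_ _) _
      rw [A.sq_sub]
      exact h3.mul_right _

theorem LCtx.not_sporadic {T : Type*} [Group T] [Finite T] {p f q d N E P : ℕ} (h : LCtx T p f q d N E P)
    (h7 : q ≠ 7) (h11 : q ≠ 11) : ¬ (IsSporadicGroup T ∨ Lie.IsoTits T) := by
  intro hS
  have hmem := H603.SporElim.card_mem hS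
  have A := h.A
  have h5 := A.h5
  have hdvd := h.iso.dvd_card
  have hq : q + 1 ∈ Qs := by
    refine A.mem_Qs (dvd_of_primes (hdvd.trans (dvd_check _ hmem)) fun r hr hrn hd => ?_)
    have h6 := A.prime_mod hr hrn
    have h7 := h.iso.ne_two hrn
    have h8 := hr.dvd_of_dvd_pow hd
    have key : ∀ {a b : ℕ}, r ∣ a * b → b.Prime → b % 3 ≠ 1 → r ∣ a := by
      intro a b hab hb hb3
      rcases (Nat.Prime.dvd_mul hr).1 hab with h9 | h9
      · exact h9
      · exact absurd ((Nat.prime_dvd_prime_iff_eq hr hb).1 h9 ▸ h6) hb3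
    have h9 := key h8 (by norm_num) (by norm_num)
    have h10 := key h9 (by norm_num) (by norm_num)
    have h11 := key h10 (by norm_num) (by norm_num)
    have h12 := key h11 (by norm_num) (by norm_num)
    have h13 := key h12 (by norm_num) (by norm_num)
    have h14 := key h13 (by norm_num) (by norm_num)
    have h15 := key h14 (by norm_num) (by norm_num)
    have h16 := key h15 (by norm_num) (by norm_num)
    have h17 := key h16 (by norm_num) (by norm_num)
    have h18 := key h17 (by norm_num) (by norm_num)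
    exact h7 ((Nat.prime_dvd_prime_iff_eq hr Nat.prime_two).1 h18)
  obtain ⟨j, hj⟩ := A.qodd
  obtain ⟨s, hs, hsN, hsn⟩ := final_check3 _ hmem (q + 1) hq (by omega) (by omega) (by omega) (by omega)
    (by rw [Nat.add_sub_cancel, A.mm]; exact hdvd)
  rw [Nat.add_sub_cancel, A.mm] at hsn
  have hsp : s.Prime := by
    simp only [List.mem_cons, List.not_mem_nil, or_false] at hs
    rcases hs with rfl | rfl | rfl | rfl | rfl | rfl | rfl | rfl | rfl | rfl | rfl | rfl | rfl <;> norm_num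
  exact hsn (h.prime_dvd hsp hsN)

end Cfsg.Agent.R2.Spec.X2
end

-- part: R2/Spec/X2/LMain
section
/-!
# The known simple groups in the window of `PSL_3(q)` (helper16)
-/

set_option autoImplicit false

namespace Cfsg.Agent.R2.Spec.X2

open Cfsg

/-- **A known simple group in the window of `PSL_3(q)` is `PSL_3(q)`.** -/
theorem LCtx.main {T : Type*} [Group T] [Finite T] {p f q d N E P : ℕ} (h : LCtx T p f q d N E P) (h7 : q ≠ 7)
    (h11 : q ≠ 11) (hk : IsKnownSimple' T) (hna : ¬ IsMulCommutative T) {F : Type*} [Field F] [Fintype F]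
    (hF : Fintype.card F = q) : Nonempty (T ≃* Matrix.ProjectiveSpecialLinearGroup (Fin 3) F) := by
  have hW := h.win
  rcases hk with h1 | h1 | h1 | h1 | h1 | h1 | h1 | h1 | h1 | h1
  · exfalso
    apply hna
    have hp : Fact (Nat.card T).Prime := ⟨h1⟩
    have := isCyclic_of_prime_card (α := T) rfl
    exact ⟨⟨fun a b => by
      letI := IsCyclic.commGroup (α := T)
      exact mul_comm a b⟩⟩
  · exact absurd h1 hW.not_isAlternating
  · obtain ⟨F', _, _, ⟨e⟩, hn, hx⟩ := hW.isPSL h1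
    have huq := h.eq_of_psl (u := Nat.card F') Finite.one_lt_card hn hx
    obtain ⟨e'⟩ := H363.PslCard.psl_of_card (n := Fin 3) (F := F') (F' := F)
      (by rw [← Nat.card_eq_fintype_card, huq, hF])
    exact ⟨e.trans e'⟩
  · exact absurd h1 hW.not_isPSp
  · exact absurd h1 hW.not_isPSU
  · exact absurd h1 hW.not_isPOmegaOdd
  · exact absurd h1 hW.not_isPOmegaPlus
  · exact absurd h1 hW.not_isPOmegaMinus
  · rcases h1 with h1 | h1 | h1 | h1 | h1 | h1 | h1 | h1 | h1 | h1 | h1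
    · exact absurd h1 hW.not_isoChevG2
    · exact absurd h1 hW.not_isoF4
    · exact absurd h1 hW.not_isoE6
    · exact absurd h1 hW.not_isoE7
    · exact absurd h1 hW.not_isoE8
    · exact absurd h1 h.not_iso2E6
    · exact absurd h1 hW.not_iso3D4
    · exact absurd h1 hW.not_isoSuzuki
    · exact absurd h1 hW.not_isoRee
    · exact absurd h1 h.not_iso2F4
    · exact absurd (Or.inr h1) (h.not_sporadic h7 h11)
  · exact absurd (Or.inl h1) (h.not_sporadic h7 h11)

end Cfsg.Agent.R2.Spec.X2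
end
end

-- part: R2/Spec/X6/Cyc
section
set_option linter.all false
open scoped Cfsg.Agent.FastGrp

/-!
# The classes `4`, `5`, `6` (helper2, S3435, box X6)

* `exists_c5`, `exists_c6`, `c4` : the numbers `Φ₅(±q) / (1, 5)`, `Φ₆(±q) / (1, 3)`, `q ^ 2 + 1`.
-/

set_option autoImplicit false
set_option linter.unusedSectionVars false

namespace Cfsg.Agent.R2.Spec.X6

open Cfsg.Agent.H403 Cfsg.Agent.H403.NumTop Cfsg.Agent.H321.SpecEven

/-- `Φ₅` -/
def P5 (x : ℤ) : ℤ := x ^ 4 + x ^ 3 + x ^ 2 + x + 1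

/-- `Φ₆` -/
def P6 (x : ℤ) : ℤ := x ^ 2 - x + 1

theorem P5_mul (x : ℤ) : (x - 1) * P5 x = x ^ 5 - 1 := by unfold P5; ring

theorem P6_mul (x : ℤ) : (x ^ 2 - 1) * (x ^ 2 + x + 1) * P6 x = x ^ 6 - 1 := by unfold P6; ring

theorem dvd_AA_of {e : Bool} {i q c : ℕ} (hq : 1 ≤ q) (h : (c : ℤ) ∣ xv e q ^ i - 1) : c ∣ AA e i q := by
  rw [← Int.natCast_dvd_natCast]
  rcases AA_eq (e := e) (i := i) hq with h1 | h1
  · rwa [h1]
  · rw [h1, dvd_neg]
    exact h

theorem order_five {r : ℕ} (hr : r.Prime) (hr5 : r ≠ 5) {x : ℤ} (h : (r : ℤ) ∣ P5 x) : orderOf ((x : ℤ) : ZMod r) = 5 := by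
  have := Fact.mk hr
  have : Fact (Nat.Prime 5) := ⟨by norm_num⟩
  have h0 : ((P5 x : ℤ) : ZMod r) = 0 := (ZMod.intCast_zmod_eq_zero_iff_dvd _ _).2 h
  refine orderOf_eq_prime ?_ ?_
  · have h1 : (((x - 1) * P5 x : ℤ) : ZMod r) = 0 := by
      rw [Int.cast_mul, h0, mul_zero]
    rw [P5_mul] at h1
    push_cast at h1
    exact sub_eq_zero.1 h1
  · intro h1
    have h2 : ((P5 x : ℤ) : ZMod r) = 5 := by
      unfold P5
      push_cast
      rw [h1]
      norm_num
    rw [h2] at h0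
    have h3 : ((5 : ℕ) : ZMod r) = 0 := by exact_mod_cast h0
    rw [ZMod.natCast_eq_zero_iff] at h3
    exact hr5 ((Nat.prime_dvd_prime_iff_eq hr (by norm_num)).1 h3)

theorem order_six {r : ℕ} (hr : r.Prime) (hr3 : r ≠ 3) (hr2 : r ≠ 2) {x : ℤ} (h : (r : ℤ) ∣ P6 x) :
    orderOf ((x : ℤ) : ZMod r) = 6 := by
  have := Fact.mk hr
  have h0 : ((P6 x : ℤ) : ZMod r) = 0 := (ZMod.intCast_zmod_eq_zero_iff_dvd _ _).2 h
  have h20 : ((2 : ℕ) : ZMod r) ≠ 0 := by
    intro h1
    rw [ZMod.natCast_eq_zero_iff] at h1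
    exact hr2 ((Nat.prime_dvd_prime_iff_eq hr Nat.prime_two).1 h1)
  have h30 : ((3 : ℕ) : ZMod r) ≠ 0 := by
    intro h1
    rw [ZMod.natCast_eq_zero_iff] at h1
    exact hr3 ((Nat.prime_dvd_prime_iff_eq hr Nat.prime_three).1 h1)
  have h1 : ((x : ℤ) : ZMod r) ^ 2 - (x : ZMod r) + 1 = 0 := by
    unfold P6 at h0
    push_cast at h0
    exact h0
  generalize ((x : ℤ) : ZMod r) = z at h1
  have h3 : z ^ 3 = -1 := by linear_combination (z + 1) * h1
  have h6 : z ^ 6 = 1 := by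
    calc z ^ 6 = (z ^ 3) ^ 2 := by ring
      _ = 1 := by rw [h3]; ring
  have hd := orderOf_dvd_of_pow_eq_one h6
  have hle := Nat.le_of_dvd (by norm_num) hd
  have hpos : 0 < orderOf z := by
    rcases Nat.eq_zero_or_pos (orderOf z) with h | h
    · rw [h] at hd
      norm_num at hd
    · exact h
  have h2' : ¬ orderOf z ∣ 3 := by
    intro h4
    have h5 := orderOf_dvd_iff_pow_eq_one.1 h4
    rw [h3] at h5
    apply h20
    push_cast
    linear_combination -h5
  have h3' : ¬ orderOf z ∣ 2 := by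
    intro h4
    have h5 := orderOf_dvd_iff_pow_eq_one.1 h4
    apply h30
    push_cast
    have h7 : z = 2 := by linear_combination h5 - h1
    rw [h7] at h5
    linear_combination h5
  generalize orderOf z = m at *
  interval_cases m <;> first | rfl | (exfalso; revert hd h2' h3'; decide)

theorem order_four {r : ℕ} (hr : r.Prime) (hr2 : r ≠ 2) {x : ℤ} (h : (r : ℤ) ∣ x ^ 2 + 1) :
    orderOf ((x : ℤ) : ZMod r) = 4 := by
  have := Fact.mk hr
  have h0 : (((x ^ 2 + 1 : ℤ)) : ZMod r) = 0 := (ZMod.intCast_zmod_eq_zero_iff_dvd _ _).2 h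
  have h20 : ((2 : ℕ) : ZMod r) ≠ 0 := by
    intro h1
    rw [ZMod.natCast_eq_zero_iff] at h1
    exact hr2 ((Nat.prime_dvd_prime_iff_eq hr Nat.prime_two).1 h1)
  push_cast at h0
  generalize ((x : ℤ) : ZMod r) = z at h0
  have h4 : orderOf z = 2 ^ (1 + 1) := by
    refine orderOf_eq_prime_pow ?_ ?_
    · rw [pow_one]
      intro h5
      apply h20
      push_cast
      linear_combination h0 - h5
    · rw [show (2 : ℕ) ^ (1 + 1) = 4 by norm_num]
      linear_combination (z ^ 2 - 1) * h0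
  simpa using h4

theorem not_25 (x : ℤ) : ¬ (25 : ℤ) ∣ P5 x := by
  intro h
  have h1 : ((P5 x : ℤ) : ZMod 25) = 0 := (ZMod.intCast_zmod_eq_zero_iff_dvd _ _).2 (by exact_mod_cast h)
  unfold P5 at h1
  push_cast at h1
  generalize ((x : ℤ) : ZMod 25) = z at h1
  revert z
  decide

theorem not_9 (x : ℤ) : ¬ (9 : ℤ) ∣ P6 x := by
  intro h
  have h1 : ((P6 x : ℤ) : ZMod 9) = 0 := (ZMod.intCast_zmod_eq_zero_iff_dvd _ _).2 (by exact_mod_cast h)
  unfold P6 at h1
  push_cast at h1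
  generalize ((x : ℤ) : ZMod 9) = z at h1
  revert z
  decide

theorem P5_pos (x : ℤ) : 0 < P5 x := by
  unfold P5
  nlinarith [sq_nonneg (x ^ 2 + x), sq_nonneg (x + 1), sq_nonneg x, sq_nonneg (2 * x + 1), sq_nonneg (2 * x ^ 2 + x)]

theorem P6_pos (x : ℤ) : 0 < P6 x := by
  unfold P6
  nlinarith [sq_nonneg (2 * x - 1)]

theorem P6_odd (x : ℤ) : ¬ (2 : ℤ) ∣ P6 x := by
  intro h
  have h1 : ((P6 x : ℤ) : ZMod 2) = 0 := (ZMod.intCast_zmod_eq_zero_iff_dvd _ _).2 (by exact_mod_cast h)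
  unfold P6 at h1
  push_cast at h1
  generalize ((x : ℤ) : ZMod 2) = z at h1
  revert z
  decide

/-- the number of the class `5` -/
theorem exists_c5 (e : Bool) {q : ℕ} (hq : 1 ≤ q) : ∃ g c : ℕ, (g = 1 ∨ g = 5) ∧ ((g : ℤ) * c = P5 (xv e q)) ∧
    (∀ r : ℕ, r.Prime → r ∣ c → od e q r = 5) ∧ c ∣ AA e 5 q := by
  set x := xv e q with hx
  obtain ⟨V, hV⟩ : ∃ V : ℕ, (V : ℤ) = P5 x := ⟨(P5 x).toNat, Int.toNat_of_nonneg (P5_pos x).le⟩
  have hVA : V ∣ AA e 5 q := dvd_AA_of hq (by rw [hV, ← P5_mul]; exact dvd_mul_left _ _)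
  by_cases h5 : 5 ∣ V
  · obtain ⟨c, hc⟩ := h5
    refine ⟨5, c, Or.inr rfl, by rw [← hV, hc]; push_cast; ring, fun r hr hrc => ?_, ?_⟩
    · refine order_five hr ?_ ?_
      · rintro rfl
        obtain ⟨d, rfl⟩ := hrc
        apply not_25 x
        rw [← hV, hc]
        exact ⟨d, by push_cast; ring⟩
      · rw [← hV, hc]
        exact_mod_cast hrc.mul_left 5
    · exact (Dvd.intro_left 5 hc.symm).trans hVA
  · refine ⟨1, V, Or.inl rfl, by rw [← hV]; push_cast; ring, fun r hr hrc => ?_, hVA⟩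
    refine order_five hr ?_ ?_
    · rintro rfl
      exact h5 hrc
    · rw [← hV]
      exact_mod_cast hrc

/-- the number of the class `6` -/
theorem exists_c6 (e : Bool) {q : ℕ} (hq : 1 ≤ q) : ∃ g c : ℕ, (g = 1 ∨ g = 3) ∧ ((g : ℤ) * c = P6 (xv e q)) ∧
    (∀ r : ℕ, r.Prime → r ∣ c → od e q r = 6) ∧ c ∣ AA e 6 q := by
  set x := xv e q with hx
  obtain ⟨V, hV⟩ : ∃ V : ℕ, (V : ℤ) = P6 x := ⟨(P6 x).toNat, Int.toNat_of_nonneg (P6_pos x).le⟩
  have hVA : V ∣ AA e 6 q := dvd_AA_of hq (by rw [hV, ← P6_mul]; exact dvd_mul_left _ _)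
  have h2 : ∀ r : ℕ, (r : ℤ) ∣ P6 x → r ≠ 2 := by
    rintro r hr rfl
    exact P6_odd x (by exact_mod_cast hr)
  by_cases h5 : 3 ∣ V
  · obtain ⟨c, hc⟩ := h5
    refine ⟨3, c, Or.inr rfl, by rw [← hV, hc]; push_cast; ring, fun r hr hrc => ?_, ?_⟩
    · have h1 : (r : ℤ) ∣ P6 x := by
        rw [← hV, hc]
        exact_mod_cast hrc.mul_left 3
      refine order_six hr ?_ (h2 r h1) h1
      rintro rfl
      obtain ⟨d, rfl⟩ := hrc
      apply not_9 x
      rw [← hV, hc]
      exact ⟨d, by push_cast; ring⟩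
    · exact (Dvd.intro_left 3 hc.symm).trans hVA
  · refine ⟨1, V, Or.inl rfl, by rw [← hV]; push_cast; ring, fun r hr hrc => ?_, hVA⟩
    have h1 : (r : ℤ) ∣ P6 x := by
      rw [← hV]
      exact_mod_cast hrc
    refine order_six hr ?_ (h2 r h1) h1
    rintro rfl
    exact h5 hrc

/-- the class `4` -/
theorem c4_class {e : Bool} {q : ℕ} (hqe : Even q) {r : ℕ} (hr : r.Prime) (h : r ∣ q ^ 2 + 1) : od e q r = 4 := by
  have hx2 : xv e q ^ 2 = (q : ℤ) ^ 2 := by
    unfold xv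
    split_ifs
    · rfl
    · ring
  refine order_four hr ?_ ?_
  · rintro rfl
    have h1 : Even (q ^ 2) := hqe.pow_of_ne_zero (by norm_num)
    have h2 : Even (q ^ 2 + 1) := even_iff_two_dvd.2 h
    exact Nat.not_even_iff_odd.2 h1.add_one h2
  · rw [hx2]
    exact_mod_cast h

theorem c4_dvd {e : Bool} {q : ℕ} (hq : 1 ≤ q) : q ^ 2 + 1 ∣ AA e 4 q := by
  have hx2 : xv e q ^ 2 = (q : ℤ) ^ 2 := by
    unfold xv
    split_ifs
    · rfl
    · ring
  refine dvd_AA_of hq ?_
  push_cast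
  rw [show xv e q ^ 4 - 1 = (xv e q ^ 2 - 1) * (xv e q ^ 2 + 1) by ring, hx2]
  exact dvd_mul_left _ _

end Cfsg.Agent.R2.Spec.X6
end

-- part: R2/Spec/X4/Cent_mg
section
prune_inst 0x203004040000000000000040001e42a2000000000880000040060806800c0000000820b020010200a00004403800481100000002000000000004000118008000808000a0480008020000000000000000000000000000000000000000000000000000000
set_option linter.all false
open scoped Cfsg.Agent.FastGrp

-- part: R2/Spec/X4/Cent
section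
/-!
# Box X4 of S3435, own characteristic: the centralizer of an element of prime order `r`, and `Ω₃(q)` (helper19)

* `cent_setup` : `C_G(a) / C_K(a)` contains a copy of `X ≤ C_{G/K}(a)`;
* `exists_three_or` : `Ω₃(q)` acting on an elementary abelian `s`-group `W ≠ 1`, `s` odd: either some element of order
  `3` has a nontrivial norm, or all the half turns act trivially;
* `exists_rot` : a product of two half turns of order divisible by `(q - ε)/2`, `q = ε mod 4`.
-/

set_option autoImplicit false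
set_option linter.unusedSectionVars false

namespace Cfsg.Agent.R2.Spec.X4

open Cfsg.Agent.H229.T Finset
open QuadraticMap
open Cfsg.Agent.LieClassical.OrthCore Cfsg.Agent.LieClassical.OrthForms Cfsg.Agent.LieClassical.OrthFinite
open Cfsg.Agent.H160 Cfsg.Agent.H160.QSpin Cfsg.Agent.H160.QDisc Cfsg.Agent.H160.QFinal Cfsg.Agent.H160.QModel
open Cfsg.Agent.H160.QReal

section Setup

universe u

variable {G : Type u} [Group G] [Finite G] {K : Subgroup G} [K.Normal]

/-- **The centralizer.** -/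
theorem cent_setup (hK : Group.IsNilpotent K) {r p : ℕ} (hr : r.Prime) (hp : p.Prime) (hrK : ¬ r ∣ Nat.card K)
    {a : G} (ha : orderOf a = r) {X : Type*} [Group X] (φ : X →* G ⧸ K) (hφ : Function.Injective φ)
    (hc : ∀ x, Commute (φ x) (a : G ⧸ K)) (hex : ∃ k ∈ K, orderOf k = p ∧ Commute k a) :
    ∃ (G1 : Subgroup G) (K1 : Subgroup G1) (_ : K1.Normal) (ψ : X →* G1 ⧸ K1), Function.Injective ψ ∧
      Group.IsNilpotent K1 ∧ p ∣ Nat.card K1 ∧ ∀ x : G1, Commute (x : G) a := by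
  classical
  have hpf := Fact.mk hp
  let G1 : Subgroup G := Subgroup.centralizer {a}
  let K1 : Subgroup G1 := K.subgroupOf G1
  have hK1 : Group.IsNilpotent K1 := by
    let f : K1 →* K :=
      { toFun := fun x => ⟨((x : G1) : G), x.2⟩
        map_one' := rfl
        map_mul' := fun _ _ => rfl }
    have hf : Function.Injective f := fun x y h => by
      have h1 : (((x : G1) : G)) = ((y : G1) : G) := congrArg (fun z : K => (z : G)) h
      exact Subtype.ext (Subtype.ext h1)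
    have := hK
    exact Subgroup.isNilpotent_of_ker_le_center f (by rw [(MonoidHom.ker_eq_bot_iff f).2 hf]; exact bot_le)
  have hpK1 : p ∣ Nat.card K1 := by
    obtain ⟨k, hkK, hko, hka⟩ := hex
    have hk1 : k ∈ G1 := by
      rw [Subgroup.mem_centralizer_singleton_iff]
      exact hka.eq
    have : orderOf (⟨⟨k, hk1⟩, hkK⟩ : K1) = p := by
      rw [← Subgroup.orderOf_coe, ← Subgroup.orderOf_coe]
      exact hko
    rw [← this]
    exact orderOf_dvd_natCard _
  -- the embedding of the quotient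
  let ι : G1 ⧸ K1 →* G ⧸ K := QuotientGroup.map K1 K G1.subtype (fun x hx => hx)
  have hι : Function.Injective ι := by
    rw [injective_iff_map_eq_one]
    intro x hx
    obtain ⟨x, rfl⟩ := QuotientGroup.mk_surjective x
    have h1 : ((x : G) : G ⧸ K) = 1 := hx
    rw [QuotientGroup.eq_one_iff] at h1 ⊢
    exact h1
  have hrange : ∀ x, φ x ∈ ι.range := by
    intro x
    obtain ⟨y, hy, hya⟩ := exists_commute_lift K hr hrK ha (hc x)
    have hy1 : y ∈ G1 := by
      rw [Subgroup.mem_centralizer_singleton_iff]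
      exact hya.eq
    exact ⟨((⟨y, hy1⟩ : G1) : G1 ⧸ K1), hy⟩
  let ψ : X →* G1 ⧸ K1 := (MonoidHom.ofInjective hι).symm.toMonoidHom.comp (φ.codRestrict ι.range hrange)
  have hψ : ∀ x, ι (ψ x) = φ x := by
    intro x
    have h1 := (MonoidHom.ofInjective hι).apply_symm_apply (φ.codRestrict ι.range hrange x)
    exact congrArg Subtype.val h1
  refine ⟨G1, K1, inferInstance, ψ, ?_, hK1, hpK1, fun x => ?_⟩
  · intro x y h
    apply hφ
    rw [← hψ, ← hψ, h]
  · have := x.2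
    rw [Subgroup.mem_centralizer_singleton_iff] at this
    exact this

/-- an element of order divisible by `m` and by `r` -/
theorem exists_lcm_of_commute {a : G} {r m : ℕ} (ha : orderOf a = r) {y : G} (hy : m ∣ orderOf y) (hc : Commute y a) :
    ∃ x : G, m ∣ orderOf x ∧ r ∣ orderOf x := by
  obtain ⟨x, -, hx⟩ := hc.exists_orderOf_eq_lcm
  refine ⟨x, ?_, ?_⟩
  · rw [hx]; exact hy.trans (Nat.dvd_lcm_left _ _)
  · rw [hx, ← ha]; exact Nat.dvd_lcm_right _ _

end Setup

section Half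

variable {F : Type*} [Field F] [Fintype F]

/-- **`Ω₃(q)` acting on an abelian group of odd exponent.** -/
theorem exists_three_or (h2 : (2 : F) ≠ 0) {c : F} (hc : c ≠ 0) {W : Type*} [CommGroup W]
    (θ : Om (D F 3 c) →* MulAut W) {e : ℕ} (he : ∀ v : W, v ^ e = 1) (hcop : Nat.Coprime 2 e) :
    (∃ b : Om (D F 3 c), orderOf b = 3 ∧ ∃ w : W, ∏ i ∈ range 3, θ (b ^ i) w ≠ 1) ∨
      ∀ (v : ZMod 3 → F) (hv : D F 3 c v ≠ 0), D F 3 c v = c →
        ∃ h : zv v hv ∈ Om (D F 3 c), θ ⟨zv v hv, h⟩ = 1 := by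
  classical
  by_cases hcon : ∃ b : Om (D F 3 c), orderOf b = 3 ∧ ∃ w : W, ∏ i ∈ range 3, θ (b ^ i) w ≠ 1
  · exact Or.inl hcon
  right
  push Not at hcon
  have hodd : Odd 3 := by decide
  have key : ∀ (g : (ZMod 3 → F) ≃ₗ[F] (ZMod 3 → F)) (hg : g ∈ O (D F 3 c)) (t : ZMod 3 → ℤˣ),
      θ (kap hg (psi 3 1 c t)) = 1 := by
    intro g hg t
    let U := (psi (F := F) 3 1 c).range.map (kap hg)
    have hfin : Finite U := by
      have : Finite (psi (F := F) 3 1 c).range := inferInstance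
      exact Finite.of_surjective _ ((kap hg).subgroupMap_surjective (psi (F := F) 3 1 c).range)
    have hord : orderOf (kap hg (ro hodd h2 hc)) = 3 := by
      rw [orderOf_injective _ (kap_injective hg), orderOf_ro]
    have h4 := H371.Frob.trivial_of_norm θ U (c := kap hg (ro hodd h2 hc)) (m := 3) (e := e) (by norm_num)
      (by
        rintro _ ⟨_, ⟨t, rfl⟩, rfl⟩ i
        obtain ⟨s, hs⟩ := ro_inv_psi (m := 1) hodd h2 hc i t
        refine ⟨psi 3 1 c s, ⟨s, rfl⟩, ?_⟩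
        ((conv => enter [@2, @6]; rw [← hs]); (conv => enter [@2]; rw [map_mul]); (conv => enter [@2, @5]; rw [map_mul]); (conv => enter [@2, @5, @5]; rw [map_inv]); (conv => enter [@2, @5, @5, @3]; rw [map_pow]); (conv => enter [@2, @6]; rw [map_pow])))
      (by
        rintro i hi0 hi _ ⟨_, ⟨t, rfl⟩, rfl⟩ hcomm
        ((conv at hcomm => enter [@2, @5]; rw [← map_pow]); (conv at hcomm => enter [@3, @6]; rw [← map_pow]); (conv at hcomm => enter [@2]; rw [← map_mul]); (conv at hcomm => enter [@3]; rw [← map_mul]))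
        ((conv => enter [@2, @6]; rw [ro_free (n := 3) (m := 1) hodd h2 hc rfl (three_free i hi0 hi) t (kap_injective hg hcomm)]); rewrite [map_one]; with_reducible rfl))
      he
      (by
        have h5 : Nat.card U ∣ 2 ^ 3 :=
          (Subgroup.card_map_dvd (psi (F := F) 3 1 c).range (kap hg)).trans (card_psi_range c)
        exact Nat.Coprime.coprime_dvd_left h5 (Nat.Coprime.pow_left 3 hcop))
      (fun v => hcon _ hord v)
      (kap hg (psi 3 1 c t)) ⟨_, ⟨t, rfl⟩, rfl⟩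
    exact MulEquiv.ext h4
  -- the involutions
  let e0 : ZMod 3 → F := Pi.single 0 1
  have e00 : e0 0 = 1 := Pi.single_eq_same _ _
  have e01 : e0 1 = 0 := Pi.single_eq_of_ne (by decide) _
  have e02 : e0 2 = 0 := Pi.single_eq_of_ne (by decide) _
  have hDe0 : D F 3 c e0 = c := by
    rw [D_apply, sum_three, e00, e01, e02]
    ring
  have he0 : D F 3 c e0 ≠ 0 := by rw [hDe0]; exact hc
  let t0 : ZMod 3 → ℤˣ := fun i => if i = 2 then -1 else 1
  have hz : ((psi 3 1 c t0 : Om (D F 3 c)) : (ZMod 3 → F) ≃ₗ[F] (ZMod 3 → F)) = zv e0 he0 := by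
    rw [psi_coe]
    apply LinearEquiv.ext
    intro x
    funext i
    rw [ds_apply, zv_apply, hDe0, polar_D, sum_three]
    have hcc : c⁻¹ * c = 1 := inv_mul_cancel₀ hc
    simp only [Pi.neg_apply, Pi.sub_apply, Pi.smul_apply, smul_eq_mul, e00, e01, e02]
    obtain rfl | rfl | rfl : i = 0 ∨ i = 1 ∨ i = 2 := by
      revert i; decide
    · have : (t0 * (fun i : ZMod 3 => t0 (i + ((1 : ℕ) : ZMod 3)))⁻¹) 0 = 1 := by decide
      rw [this, e00, Units.val_one, Int.cast_one]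
      linear_combination (-2 * x 0) * hcc
    · have : (t0 * (fun i : ZMod 3 => t0 (i + ((1 : ℕ) : ZMod 3)))⁻¹) 1 = -1 := by decide
      rw [this, e01]
      simp
    · have : (t0 * (fun i : ZMod 3 => t0 (i + ((1 : ℕ) : ZMod 3)))⁻¹) 2 = -1 := by decide
      rw [this, e02]
      simp
  intro v hv hvc
  obtain ⟨g, hg, h5⟩ := exists_map h2 hc hDe0 hvc
  have hge : D F 3 c (g e0) ≠ 0 := by rw [mem_O.1 hg]; exact he0
  have h6 : zv v hv = zv (g e0) hge := by
    rcases h5 with h5 | h5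
    · subst h5; rfl
    · have h7 : D F 3 c (-v) ≠ 0 := by rw [QuadraticMap.map_neg]; exact hv
      rw [← zv_neg hv h7]
      congr 1
      exact h5.symm
  have h7 : zv v hv = ((kap hg (psi 3 1 c t0) : Om (D F 3 c)) : (ZMod 3 → F) ≃ₗ[F] (ZMod 3 → F)) := by
    rw [h6]
    show _ = g * ((psi 3 1 c t0 : Om (D F 3 c)) : (ZMod 3 → F) ≃ₗ[F] (ZMod 3 → F)) * g⁻¹
    rw [hz, zv_conj hg he0 hge]
  refine ⟨by rw [h7]; exact (kap hg (psi 3 1 c t0)).2, ?_⟩
  ((conv => enter [@3]; rw [← key g hg t0]))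
  congr 1
  exact Subtype.ext h7

/-- the half turns -/
theorem zv_coord {c : F} (hc : c ≠ 0) {w : ZMod 3 → F} (hw : D F 3 c w ≠ 0) (hwc : D F 3 c w = c) (x : ZMod 3 → F)
    (i : ZMod 3) : zv w hw x i = -x i + 2 * (w 0 * x 0 + w 1 * x 1 + w 2 * x 2) * w i := by
  have hcc : c⁻¹ * c = 1 := inv_mul_cancel₀ hc
  rw [zv_apply, hwc, polar_D, sum_three]
  simp only [Pi.neg_apply, Pi.sub_apply, Pi.smul_apply, smul_eq_mul]
  linear_combination (2 * (w 0 * x 0 + w 1 * x 1 + w 2 * x 2) * w i) * hcc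

/-- **A product of two half turns of large order.** -/
theorem exists_rot (h2 : (2 : F) ≠ 0) {c : F} (hc : c ≠ 0) {M : ℕ}
    (hM : (M = Fintype.card F - 1 ∧ Fintype.card F % 4 = 1) ∨ (M = Fintype.card F + 1 ∧ Fintype.card F % 4 = 3)) :
    ∃ (v₀ v : ZMod 3 → F) (hv₀ : D F 3 c v₀ ≠ 0) (hv : D F 3 c v ≠ 0), D F 3 c v₀ = c ∧ D F 3 c v = c ∧
      ∀ k : ℕ, (zv v₀ hv₀ * zv v hv) ^ k = 1 → M ∣ 2 * k := by
  classical
  set q := Fintype.card F with hq
  have hq1 : 1 < q := Fintype.one_lt_card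
  let E := AlgebraicClosure F
  let A : F →+* E := algebraMap F E
  have h2E : (2 : E) ≠ 0 := by
    intro h
    apply h2
    apply A.injective
    rw [map_ofNat, map_zero, h]
  obtain ⟨i, hi⟩ := IsAlgClosed.exists_pow_nat_eq (-1 : E) (n := 2) (by norm_num)
  have hi0 : i ≠ 0 := by
    rintro rfl
    norm_num at hi
  have hi4 : i ^ 4 = 1 := by
    rw [show (4 : ℕ) = 2 * 2 from rfl, pow_mul, hi]; norm_num
  have hM0 : M ≠ 0 := by omega
  -- a root of unity
  obtain ⟨u, hu⟩ : ∃ u : E, IsPrimitiveRoot u M := by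
    have hME : NeZero (M : E) := by
      constructor
      intro h
      have h3 : (M : F) = 0 := by
        apply A.injective
        rw [map_natCast, map_zero, h]
      have hq0 : (q : F) = 0 := by
        rw [hq]; exact FiniteField.cast_card_eq_zero F
      rcases hM with ⟨h4, -⟩ | ⟨h4, -⟩
      · rw [h4, Nat.cast_sub hq1.le, hq0] at h3
        simp at h3
      · rw [h4, Nat.cast_add, hq0] at h3
        simp at h3
    exact HasEnoughRootsOfUnity.exists_primitiveRoot E M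
  have hu0 : u ≠ 0 := by
    rintro rfl
    have := hu.pow_eq_one
    rw [zero_pow hM0] at this
    exact zero_ne_one this
  -- the Frobenius map
  have hfr : ∀ x y : E, (x + y) ^ q = x ^ q + y ^ q := by
    intro x y
    obtain ⟨p, hp⟩ := CharP.exists F
    have hpf : Fact p.Prime := ⟨CharP.char_is_prime F p⟩
    obtain ⟨n, -, hn⟩ := FiniteField.card F p
    have : CharP E p := charP_of_injective_algebraMap A.injective p
    rw [hq, hn]
    exact add_pow_char_pow x y p _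
  have hfn : ∀ x : E, (-x) ^ q = -(x ^ q) := by
    intro x
    have h3 := hfr x (-x)
    rw [add_neg_cancel, zero_pow (by omega)] at h3
    exact (neg_eq_of_add_eq_zero_right h3.symm).symm
  have h2q : (2 : E) ^ q = 2 := by
    have h3 : (2 : F) ^ q = 2 := FiniteField.pow_card 2
    have h4 := congrArg A h3
    rwa [map_pow, map_ofNat] at h4
  have hcase : (u ^ q = u ∧ i ^ q = i) ∨ (u ^ q = u⁻¹ ∧ i ^ q = -i) := by
    rcases hM with ⟨h4, h5⟩ | ⟨h4, h5⟩
    · left
      constructor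
      · have h3 : q = M + 1 := by omega
        rw [h3, pow_succ, hu.pow_eq_one, one_mul]
      · have h3 : q = 4 * (q / 4) + 1 := by omega
        rw [h3, pow_succ, pow_mul, hi4, one_pow, one_mul]
    · right
      constructor
      · exact eq_inv_of_mul_eq_one_left (by rw [← pow_succ, ← h4, hu.pow_eq_one])
      · have h3 : q = 4 * (q / 4) + 3 := by omega
        rw [h3, pow_add, pow_mul, hi4, one_pow, one_mul, show (3 : ℕ) = 2 + 1 from rfl, pow_succ, hi]
        ring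
  obtain ⟨a, ha⟩ : ∃ a : F, A a = (u + u⁻¹) * 2⁻¹ := by
    apply Cfsg.Agent.H390.PslSpec.mem_range_of_pow_card
    rw [← hq, mul_pow, hfr, inv_pow, inv_pow, h2q]
    rcases hcase with ⟨h3, -⟩ | ⟨h3, -⟩
    · rw [h3]
    · rw [h3, inv_inv, add_comm]
  obtain ⟨b, hb⟩ : ∃ b : F, A b = (u⁻¹ + -u) * 2⁻¹ * i⁻¹ := by
    apply Cfsg.Agent.H390.PslSpec.mem_range_of_pow_card
    rw [← hq, mul_pow, mul_pow, hfr, inv_pow, inv_pow, inv_pow, h2q, hfn]
    rcases hcase with ⟨h3, h4⟩ | ⟨h3, h4⟩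
    · rw [h3, h4]
    · rw [h3, h4, inv_inv, inv_neg]
      ring
  have hii : i * i⁻¹ = 1 := mul_inv_cancel₀ hi0
  have h2i : (2 : E) * 2⁻¹ = 1 := mul_inv_cancel₀ h2E
  have e1 : A a - i * A b = u := by
    rw [ha, hb]
    linear_combination (-(u⁻¹ - u) * 2⁻¹) * hii + u * h2i
  have e2 : A a + i * A b = u⁻¹ := by
    rw [ha, hb]
    linear_combination ((u⁻¹ - u) * 2⁻¹) * hii + u⁻¹ * h2i
  have hab : a * a + b * b = 1 := by
    apply A.injective
    simp only [map_add, map_mul, map_mul, map_one]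
    have h3 : (A a - i * A b) * (A a + i * A b) = 1 := by rw [e1, e2, mul_inv_cancel₀ hu0]
    linear_combination h3 + A b * A b * hi
  let v₀ : ZMod 3 → F := ![0, 1, 0]
  let v : ZMod 3 → F := ![0, a, b]
  have hv₀c : D F 3 c v₀ = c := by
    rw [D_apply, sum_three]
    show c * (0 * 0 + 1 * 1 + 0 * 0) = c
    ring
  have hvc : D F 3 c v = c := by
    rw [D_apply, sum_three]
    show c * (0 * 0 + a * a + b * b) = c
    linear_combination c * hab
  have hv₀ : D F 3 c v₀ ≠ 0 := by rw [hv₀c]; exact hc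
  have hv : D F 3 c v ≠ 0 := by rw [hvc]; exact hc
  refine ⟨v₀, v, hv₀, hv, hv₀c, hvc, fun k hk => ?_⟩
  -- the functional
  have hR : ∀ x : ZMod 3 → F, A ((zv v₀ hv₀ * zv v hv) x 1) + i * A ((zv v₀ hv₀ * zv v hv) x 2) =
      u ^ 2 * (A (x 1) + i * A (x 2)) := by
    intro x
    have g1 : (zv v₀ hv₀ * zv v hv) x 1 = -(zv v hv x 1) + 2 * (0 * (zv v hv x 0) + 1 * (zv v hv x 1) +
        0 * (zv v hv x 2)) * 1 := zv_coord hc hv₀ hv₀c _ 1
    have g2 : (zv v₀ hv₀ * zv v hv) x 2 = -(zv v hv x 2) + 2 * (0 * (zv v hv x 0) + 1 * (zv v hv x 1) +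
        0 * (zv v hv x 2)) * 0 := zv_coord hc hv₀ hv₀c _ 2
    have g3 : zv v hv x 1 = -x 1 + 2 * (0 * x 0 + a * x 1 + b * x 2) * a := zv_coord hc hv hvc x 1
    have g4 : zv v hv x 2 = -x 2 + 2 * (0 * x 0 + a * x 1 + b * x 2) * b := zv_coord hc hv hvc x 2
    rw [g1, g2, g3, g4]
    simp only [map_add, map_mul, map_neg, map_zero, map_one, map_ofNat]
    have hab' : A a * A a + A b * A b = 1 := by
      rw [← map_mul, ← map_mul, ← map_add, hab, map_one]
    rw [← e1]
    linear_combination (A (x 1) - i * A (x 2)) * hab' + (-(A b) * A b * (A (x 1) + i * A (x 2)) +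
      2 * A a * A b * A (x 2)) * hi
  have hRk : ∀ (k : ℕ) (x : ZMod 3 → F), A (((zv v₀ hv₀ * zv v hv) ^ k) x 1) +
      i * A (((zv v₀ hv₀ * zv v hv) ^ k) x 2) = (u ^ 2) ^ k * (A (x 1) + i * A (x 2)) := by
    intro k
    induction k with
    | zero => intro x; simp
    | succ k ih =>
      intro x
      rw [pow_succ]
      have h3 := ih ((zv v₀ hv₀ * zv v hv) x)
      rw [hR] at h3
      rw [pow_succ (u ^ 2), mul_assoc]
      exact h3
  have h3 := hRk k v₀
  rw [hk] at h3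
  have h4 : A 1 + i * A 0 = (u ^ 2) ^ k * (A 1 + i * A 0) := h3
  rw [map_one, map_zero, mul_zero, add_zero, mul_one, ← pow_mul] at h4
  exact (hu.pow_eq_one_iff_dvd _).1 h4.symm

end Half

end Cfsg.Agent.R2.Spec.X4
end

-- part: R2/Spec/X4/Borel
section
/-!
# Box X4 of S3435: a Borel subgroup of `Ω₃(q)` (helper19)
-/

set_option autoImplicit false
set_option linter.unusedSectionVars false

namespace Cfsg.Agent.R2.Spec.X4

open Cfsg.Agent.H229.T
open QuadraticMap Module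
open Cfsg.Agent.LieClassical.OrthCore Cfsg.Agent.LieClassical.OrthForms Cfsg.Agent.LieClassical.OrthFinite
open Cfsg.Agent.H160 Cfsg.Agent.H160.QSpin Cfsg.Agent.H160.QDisc Cfsg.Agent.H160.QFinal Cfsg.Agent.H160.QModel
open Cfsg.Agent.H160.QReal

namespace Bor

variable (F : Type*) [Field F]

/-- the form `x y + w²` -/
noncomputable def B3 : LinearMap.BilinForm F ((F × F) × F) :=
  LinearMap.mk₂ F (fun v w => v.1.1 * w.1.2 + v.2 * w.2)
    (fun x x' y => by simp only [Prod.fst_add, Prod.snd_add]; ring)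
    (fun c x y => by simp only [Prod.smul_fst, Prod.smul_snd, smul_eq_mul]; ring)
    (fun x y y' => by simp only [Prod.fst_add, Prod.snd_add]; ring)
    (fun c x y => by simp only [Prod.smul_fst, Prod.smul_snd, smul_eq_mul]; ring)

theorem B3_apply (v w : (F × F) × F) : B3 F v w = v.1.1 * w.1.2 + v.2 * w.2 := rfl

theorem qf_B3 (v : (F × F) × F) : qf (B3 F) v = v.1.1 * v.1.2 + v.2 * v.2 := rfl

/-- the unipotent elements -/
def un3 (b : F) : ((F × F) × F) ≃ₗ[F] ((F × F) × F) where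
  toFun v := ((v.1.1 - 2 * b * v.2 - b * b * v.1.2, v.1.2), v.2 + b * v.1.2)
  map_add' v w := by
    ext
    · simp only [Prod.fst_add, Prod.snd_add]; ring
    · rfl
    · simp only [Prod.fst_add, Prod.snd_add]; ring
  map_smul' c v := by
    ext
    · simp only [Prod.smul_fst, Prod.smul_snd, RingHom.id_apply, smul_eq_mul]; ring
    · rfl
    · simp only [Prod.smul_fst, Prod.smul_snd, RingHom.id_apply, smul_eq_mul]; ring
  invFun v := ((v.1.1 + 2 * b * v.2 - b * b * v.1.2, v.1.2), v.2 - b * v.1.2)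
  left_inv v := by
    ext
    · simp only; ring
    · rfl
    · simp only; ring
  right_inv v := by
    ext
    · simp only; ring
    · rfl
    · simp only; ring

variable {F}

theorem un3_apply (b : F) (v : (F × F) × F) :
    un3 F b v = ((v.1.1 - 2 * b * v.2 - b * b * v.1.2, v.1.2), v.2 + b * v.1.2) := rfl

theorem un3_mem (b : F) : un3 F b ∈ O (qf (B3 F)) := by
  rw [mem_O]
  intro v
  rw [qf_B3, qf_B3, un3_apply]
  ring

theorem un3_add (a b : F) : un3 F (a + b) = un3 F a * un3 F b := by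
  apply LinearEquiv.ext
  intro v
  show un3 F (a + b) v = un3 F a (un3 F b v)
  simp only [un3_apply]
  ext
  · simp only; ring
  · rfl
  · simp only; ring

theorem un3_zero : un3 F 0 = 1 := by
  apply LinearEquiv.ext
  intro v
  rw [un3_apply]
  show _ = v
  ext
  · simp only; ring
  · rfl
  · simp only; ring

theorem un3_injective {a b : F} (h : un3 F a = un3 F b) : a = b := by
  have h1 : (un3 F a ((0, 1), 0)).2 = (un3 F b ((0, 1), 0)).2 := by rw [h]
  simpa [un3_apply] using h1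

/-- the torus -/
def to3 (z : Fˣ) : ((F × F) × F) ≃ₗ[F] ((F × F) × F) where
  toFun v := ((z * v.1.1, ((z⁻¹ : Fˣ) : F) * v.1.2), v.2)
  map_add' v w := by
    ext
    · simp only [Prod.fst_add]; ring
    · simp only [Prod.fst_add, Prod.snd_add]; ring
    · rfl
  map_smul' c v := by
    ext
    · simp only [Prod.smul_fst, RingHom.id_apply, smul_eq_mul]; ring
    · simp only [Prod.smul_fst, Prod.smul_snd, RingHom.id_apply, smul_eq_mul]; ring
    · rfl
  invFun v := ((((z⁻¹ : Fˣ) : F) * v.1.1, z * v.1.2), v.2)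
  left_inv v := by
    ext
    · simp
    · simp
    · rfl
  right_inv v := by
    ext
    · simp
    · simp
    · rfl

theorem to3_apply (z : Fˣ) (v : (F × F) × F) : to3 z v = ((z * v.1.1, ((z⁻¹ : Fˣ) : F) * v.1.2), v.2) := rfl

theorem to3_mem (z : Fˣ) : to3 z ∈ O (qf (B3 F)) := by
  rw [mem_O]
  intro v
  rw [qf_B3, qf_B3, to3_apply]
  have : (z : F) * ((z⁻¹ : Fˣ) : F) = 1 := Units.mul_inv z
  linear_combination (v.1.1 * v.1.2) * this

theorem to3_mul (y z : Fˣ) : to3 (y * z) = to3 y * to3 z := by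
  apply LinearEquiv.ext
  intro v
  show to3 (y * z) v = to3 y (to3 z v)
  simp only [to3_apply, mul_inv, Units.val_mul]
  ext
  · simp only; ring
  · simp only; ring
  · rfl

theorem to3_one : to3 (1 : Fˣ) = 1 := by
  apply LinearEquiv.ext
  intro v
  rw [to3_apply]
  show _ = v
  ext
  · simp
  · simp
  · rfl

/-- as a homomorphism -/
def to3Hom : Fˣ →* (((F × F) × F) ≃ₗ[F] ((F × F) × F)) where
  toFun := to3
  map_one' := to3_one
  map_mul' := to3_mul

theorem to3Hom_injective : Function.Injective (to3Hom (F := F)) := by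
  intro y z h
  have h1 : to3 y ((1, 0), 0) = to3 z ((1, 0), 0) := by
    have h2 : to3 y = to3 z := h
    rw [h2]
  apply Units.ext
  simpa [to3_apply] using h1

theorem to3_un3 (z : Fˣ) (b : F) : to3 z * un3 F b = un3 F (z * b) * to3 z := by
  apply LinearEquiv.ext
  intro v
  show to3 z (un3 F b v) = un3 F (z * b) (to3 z v)
  have h : (z : F) * ((z⁻¹ : Fˣ) : F) = 1 := Units.mul_inv z
  simp only [un3_apply, to3_apply]
  ext
  · simp only
    linear_combination (z * b * b * v.1.2) * h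
  · rfl
  · simp only
    linear_combination (-(b * v.1.2)) * h

theorem nondeg_B3 (h2 : (2 : F) ≠ 0) : Nondeg (qf (B3 F)) := by
  intro v hv
  have hp : ∀ w, B3 F v w + B3 F w v = 0 := fun w => by rw [← polar_qf]; exact hv w
  have h1 : v.1.1 = 0 := by
    have := hp ((0, 1), 0)
    simpa [B3_apply] using this
  have h3 : v.1.2 = 0 := by
    have := hp ((1, 0), 0)
    simpa [B3_apply] using this
  have h4 : v.2 = 0 := by
    have h5 := hp ((0, 0), 1)
    have h6 : 2 * v.2 = 0 := by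
      have h7 : v.2 + v.2 = 0 := by simpa [B3_apply] using h5
      rw [two_mul]; exact h7
    exact (mul_eq_zero.1 h6).resolve_left h2
  ext
  · exact h1
  · exact h3
  · exact h4

end Bor

variable {F : Type*} [Field F] [Fintype F]

theorem mem_O_D {c c' : F} (hc' : c' ≠ 0) {g : (ZMod 3 → F) ≃ₗ[F] (ZMod 3 → F)}
    (hg : g ∈ O (D F 3 c')) : g ∈ O (D F 3 c) := by
  rw [mem_O] at hg ⊢
  intro x
  have h := hg x
  rw [D_apply, D_apply] at h ⊢
  rw [mul_left_cancel₀ hc' h]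

open Bor in
/-- **A Borel subgroup of `Ω₃(q)`, odd part.** -/
theorem exists_borel [DecidableEq F] {p : ℕ} [hp : Fact p.Prime] [CharP F p] (h2 : (2 : F) ≠ 0) {c : F} (hc : c ≠ 0)
    {l : Fˣ} (hl : Odd (orderOf l)) :
    ∃ (u : Multiplicative F →* Om (D F 3 c)) (t : Om (D F 3 c)), Function.Injective u ∧ orderOf t = orderOf l ∧
      ∀ b : F, t * u (Multiplicative.ofAdd b) = u (Multiplicative.ofAdd ((l : F) * b)) * t := by
  have hp2 : p ≠ 2 := by
    rintro rfl
    apply h2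
    have := CharP.cast_eq_zero F 2
    exact_mod_cast this
  have hpo : Odd p := hp.out.odd_of_ne_two hp2
  obtain ⟨c', e, hc', he⟩ := exists_frame (n := 3) h2 (by decide) (nondeg_B3 (F := F) h2) (by simp)
  -- transport
  have hO : ∀ g ∈ O (qf (B3 F)), cj e.symm g ∈ O (D F 3 c) := by
    intro g hg
    apply mem_O_D hc'
    rw [mem_O] at hg ⊢
    intro x
    have h1 : ∀ y, D F 3 c' (e.symm y) = qf (B3 F) y := fun y => by
      have h3 := he (e.symm y)
      rw [e.apply_symm_apply] at h3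
      exact h3.symm
    rw [cj_apply, h1, hg, LinearEquiv.symm_symm]
    exact he x
  have hinj : Function.Injective (cj e.symm (F := F)) := by
    intro g h hgh
    apply LinearEquiv.ext
    intro x
    have h1 : cj e.symm g (e.symm x) = cj e.symm h (e.symm x) := by rw [hgh]
    simp only [cj_apply, cj_apply, LinearEquiv.symm_symm, e.apply_symm_apply] at h1
    exact e.symm.injective h1
  let cjH : (((F × F) × F) ≃ₗ[F] ((F × F) × F)) →* ((ZMod 3 → F) ≃ₗ[F] (ZMod 3 → F)) :=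
    MonoidHom.mk' (cj e.symm) (cj_mul e.symm)
  have hnd := nondeg_D (n := 3) h2 hc
  have hu : ∀ b : F, cj e.symm (un3 F b) ∈ Om (D F 3 c) := by
    intro b
    refine El.of_odd hnd (hO _ (un3_mem b)) ?_
    refine Odd.of_dvd_nat hpo (orderOf_dvd_of_pow_eq_one ?_)
    show cjH (un3 F b) ^ p = 1
    rw [← map_pow]
    have h3 : ∀ n : ℕ, un3 F b ^ n = un3 F (n * b) := by
      intro n
      induction n with
      | zero => rw [pow_zero, Nat.cast_zero, zero_mul, un3_zero]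
      | succ n ih => rw [pow_succ, ih, Nat.cast_succ, add_mul, one_mul, un3_add]
    rw [h3, CharP.cast_eq_zero, zero_mul, un3_zero, map_one]
  have ht : cj e.symm (to3 l) ∈ Om (D F 3 c) := by
    refine El.of_odd hnd (hO _ (to3_mem l)) ?_
    have h3 : orderOf (cjH (to3Hom l)) = orderOf l := by
      rw [orderOf_injective cjH hinj, orderOf_injective _ to3Hom_injective]
    show Odd (orderOf (cjH (to3Hom l)))
    rw [h3]
    exact hl
  refine ⟨
    { toFun := fun b => ⟨cj e.symm (un3 F b.toAdd), hu _⟩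
      map_one' := Subtype.ext (by
        show cjH (un3 F (0 : F)) = 1
        rw [un3_zero, map_one])
      map_mul' := fun x y => Subtype.ext (by
        show cjH (un3 F (x.toAdd + y.toAdd)) = cjH (un3 F x.toAdd) * cjH (un3 F y.toAdd)
        rw [un3_add, map_mul]) }, ⟨cj e.symm (to3 l), ht⟩, ?_, ?_, ?_⟩
  · intro x y hxy
    have h3 : cj e.symm (un3 F x.toAdd) = cj e.symm (un3 F y.toAdd) := congrArg Subtype.val hxy
    exact Multiplicative.toAdd.injective (un3_injective (hinj h3))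
  · rw [← Subgroup.orderOf_coe]
    show orderOf (cjH (to3Hom l)) = _
    rw [orderOf_injective cjH hinj, orderOf_injective _ to3Hom_injective]
  · intro b
    apply Subtype.ext
    show cjH (to3 l) * cjH (un3 F b) = cjH (un3 F (l * b)) * cjH (to3 l)
    rw [← map_mul, ← map_mul, to3_un3]

end Cfsg.Agent.R2.Spec.X4
end

private theorem dce_f79512d8dfcb : _root_.True := by
  try have : _root_.True := by simp only [_root_.Cfsg.Agent.H229.T.zv.congr_simp]
  exact _root_.True.intro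
end
end
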